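import Mathlib

set_option autoImplicit false

namespace H94.Plane4

/-- The fifteen fixed-point-free involutions of `Fin 6`. -/
def pairing : Fin 15 → Fin 6 → Fin 6 :=
  ![![1, 0, 3, 2, 5, 4], ![1, 0, 4, 5, 2, 3], ![1, 0, 5, 4, 3, 2], ![2, 3, 0, 1, 5, 4],
    ![2, 4, 0, 5, 1, 3], ![2, 5, 0, 4, 3, 1], ![3, 2, 1, 0, 5, 4], ![3, 4, 5, 0, 1, 2],
    ![3, 5, 4, 0, 2, 1], ![4, 2, 1, 5, 0, 3], ![4, 3, 5, 1, 0, 2], ![4, 5, 3, 2, 0, 1],
    ![5, 2, 1, 4, 3, 0], ![5, 3, 4, 1, 2, 0], ![5, 4, 3, 2, 1, 0]]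

/-- The six totals: five pairwise disjoint pairings each. -/
def totals : Fin 6 → Finset (Fin 15) :=
  ![{0, 4, 8, 10, 12}, {0, 5, 7, 9, 13}, {1, 3, 7, 11, 12}, {1, 5, 6, 10, 14}, {2, 3, 8, 9, 14},
    {2, 4, 6, 11, 13}]

/-- pairings without a common pair -/
def disj (a b : Fin 15) : Prop := ∀ i : Fin 6, pairing a i ≠ pairing b i

instance disjDecidable (a b : Fin 15) : Decidable (disj a b) := by unfold disj; infer_instance

theorem totals_card : ∀ t, (totals t).card = 5 := by decide

theorem totals_exists : ∀ a b : Fin 15, disj a b → ∀ c, disj a c → disj b c →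
    ∀ d, disj a d → disj b d → disj c d → ∀ e, disj a e → disj b e → disj c e → disj d e →
    ∃ t, a ∈ totals t ∧ b ∈ totals t ∧ c ∈ totals t ∧ d ∈ totals t ∧ e ∈ totals t := by decide

theorem pairing_injective : Function.Injective pairing := by
  unfold Function.Injective; decide

set_option maxRecDepth 4000 in
set_option synthInstance.maxSize 2000 in
theorem pairing_surj_aux : ∀ a : Fin 6, a ≠ 0 → ∀ b : Fin 6, b ≠ 1 → b ≠ a → ∀ c : Fin 6, c ≠ 2 →
    c ≠ a → c ≠ b → ∀ d : Fin 6, d ≠ 3 → d ≠ a → d ≠ b → d ≠ c → ∀ e : Fin 6, e ≠ 4 → e ≠ a →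
    e ≠ b → e ≠ c → e ≠ d → ∀ g : Fin 6, g ≠ 5 → g ≠ a → g ≠ b → g ≠ c → g ≠ d → g ≠ e →
    (∀ i, ![a, b, c, d, e, g] (![a, b, c, d, e, g] i) = i) →
    ∃ k, ∀ i, pairing k i = ![a, b, c, d, e, g] i := by decide

theorem pairing_surj (f : Fin 6 → Fin 6) (h1 : ∀ i, f i ≠ i) (h2 : ∀ i, f (f i) = i) :
    ∃ k, pairing k = f := by
  have hinj : Function.Injective f := Function.LeftInverse.injective (g := f) h2
  have hf : ![f 0, f 1, f 2, f 3, f 4, f 5] = f := by
    funext i; fin_cases i <;> rfl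
  have hn : ∀ i j : Fin 6, i ≠ j → f i ≠ f j := fun i j hij h => hij (hinj h)
  obtain ⟨k, hk⟩ := pairing_surj_aux (f 0) (h1 0) (f 1) (h1 1) (hn _ _ (by decide)) (f 2) (h1 2)
    (hn _ _ (by decide)) (hn _ _ (by decide)) (f 3) (h1 3) (hn _ _ (by decide)) (hn _ _ (by decide))
    (hn _ _ (by decide)) (f 4) (h1 4) (hn _ _ (by decide)) (hn _ _ (by decide))
    (hn _ _ (by decide)) (hn _ _ (by decide)) (f 5) (h1 5) (hn _ _ (by decide)) (hn _ _ (by decide))
    (hn _ _ (by decide)) (hn _ _ (by decide)) (hn _ _ (by decide)) (by rw [hf]; exact h2)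
  exact ⟨k, funext fun i => by rw [hk i, hf]⟩

/-- The points of the model plane. -/
abbrev MPt : Type := Fin 6 ⊕ Fin 15

/-- The line of the model through two points of the hyperoval. -/
def duadLine (i j : Fin 6) : Finset MPt :=
  ({i, j} : Finset (Fin 6)).disjSum (Finset.univ.filter fun k => pairing k i = j)

/-- An external line of the model. -/
def totalLine (t : Fin 6) : Finset MPt :=
  (totals t).map ⟨Sum.inr, Sum.inr_injective⟩

/-- The lines of the model plane. -/
def modelLines : Finset (Finset MPt) :=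
  ((Finset.univ.filter fun p : Fin 6 × Fin 6 => p.1 ≠ p.2).image fun p => duadLine p.1 p.2) ∪
    Finset.univ.image totalLine

theorem totalLine_ne_duadLine (t : Fin 6) (i j : Fin 6) : totalLine t ≠ duadLine i j := by
  intro h
  have h1 : Sum.inl i ∈ duadLine i j := by simp [duadLine]
  rw [← h] at h1
  simp [totalLine] at h1

theorem totals_injective : Function.Injective totals := by
  unfold Function.Injective; decide

theorem duadLine_mem {i j : Fin 6} (h : i ≠ j) : duadLine i j ∈ modelLines :=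
  Finset.mem_union_left _ (Finset.mem_image.mpr ⟨(i, j), by simp [h], rfl⟩)

theorem totalLine_mem (t : Fin 6) : totalLine t ∈ modelLines :=
  Finset.mem_union_right _ (Finset.mem_image.mpr ⟨t, Finset.mem_univ _, rfl⟩)

theorem duadLine_comm (i j : Fin 6) : duadLine i j = duadLine j i := by
  have h : ∀ k : Fin 15, ∀ a : Fin 6, pairing k (pairing k a) = a := by decide
  ext x
  rcases x with a | k
  · simp [duadLine, or_comm]
  · simp only [duadLine, Finset.inr_mem_disjSum, Finset.mem_filter, Finset.mem_univ, true_and]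
    exact ⟨fun e => by rw [← e, h], fun e => by rw [← e, h]⟩

theorem modelLines_card_le : modelLines.card ≤ 21 := by
  refine (Finset.card_union_le _ _).trans ?_
  have h2 : (Finset.univ.image totalLine).card ≤ 6 :=
    Finset.card_image_le.trans (by simp)
  have h1 : ((Finset.univ.filter fun p : Fin 6 × Fin 6 => p.1 ≠ p.2).image
      fun p => duadLine p.1 p.2) ⊆
      (Finset.univ.filter fun p : Fin 6 × Fin 6 => p.1 < p.2).image fun p => duadLine p.1 p.2 := by
    intro x hx
    simp only [Finset.mem_image, Finset.mem_filter, Finset.mem_univ, true_and] at hx ⊢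
    obtain ⟨⟨i, j⟩, hij, rfl⟩ := hx
    rcases lt_or_gt_of_ne hij with h | h
    · exact ⟨(i, j), h, rfl⟩
    · exact ⟨(j, i), h, duadLine_comm j i⟩
  have h3 := (Finset.card_le_card h1).trans Finset.card_image_le
  have h4 : (Finset.univ.filter fun p : Fin 6 × Fin 6 => p.1 < p.2).card = 15 := by decide
  omega

end H94.Plane4
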