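import Cfsg.Agent.H94.Steiner
import Cfsg.Agent.H94.PlaneModel

set_option autoImplicit false
set_option linter.unusedSectionVars false

namespace H94.Plane4

open Finset

variable {α : Type*} [Fintype α] [DecidableEq α]

/-- A projective plane of order four. -/
structure IsPlane (L : Set (Finset α)) : Prop where
  card21 : Fintype.card α = 21
  steiner : Cfsg.IsSteinerSystem 2 5 L

/-- No three points collinear. -/
def Indep (L : Set (Finset α)) (S : Finset α) : Prop := ∀ l ∈ L, (l ∩ S).card ≤ 2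

theorem Indep.subset {L : Set (Finset α)} {S T : Finset α} (h : Indep L T) (hST : S ⊆ T) :
    Indep L S := fun l hl => (card_le_card (inter_subset_inter le_rfl hST)).trans (h l hl)

theorem card_le_two_or (a b : α) {s : Finset α} (hs : s ⊆ {a, b}) : s.card ≤ 2 :=
  (card_le_card hs).trans card_le_two

/-- the lines through a point -/
noncomputable def pencil (L : Set (Finset α)) (p : α) : Finset (Finset α) :=
  (blockSet L).filter (p ∈ ·)

theorem mem_pencil {L : Set (Finset α)} {p : α} {l : Finset α} :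
    l ∈ pencil L p ↔ l ∈ L ∧ p ∈ l := by simp [pencil, mem_blockSet]

namespace IsPlane

variable {L : Set (Finset α)} (h : IsPlane L)
include h

theorem card_line {l : Finset α} (hl : l ∈ L) : l.card = 5 := h.steiner.1 l hl

theorem line_unique {l m : Finset α} (hl : l ∈ L) (hm : m ∈ L) {a b : α} (hab : a ≠ b)
    (hal : a ∈ l) (hbl : b ∈ l) (ham : a ∈ m) (hbm : b ∈ m) : l = m :=
  steiner_unique h.steiner hl hm (card_pair hab) (by simp [insert_subset_iff, hal, hbl])
    (by simp [insert_subset_iff, ham, hbm])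

theorem exists_line {a b : α} (hab : a ≠ b) : ∃ l ∈ L, a ∈ l ∧ b ∈ l := by
  obtain ⟨l, ⟨hl, hs⟩, -⟩ := h.steiner.2 {a, b} (card_pair hab)
  simp [insert_subset_iff] at hs
  exact ⟨l, hl, hs.1, hs.2⟩

theorem card_pencil (p : α) : (pencil L p).card = 5 := by
  have h1 := steiner_lambda h.steiner {p} (by simp)
  have e : (blockSet L).filter ({p} ⊆ ·) = pencil L p := by
    ext l; simp [mem_pencil, mem_blockSet]
  simp only [e, card_singleton, h.card21, Nat.choose_one_right, show 2 - 1 = 1 from rfl] at h1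
  omega

theorem card_lines : (blockSet L).card = 21 := by
  have h1 := steiner_lambda h.steiner (∅ : Finset α) (by simp)
  have e : (blockSet L).filter ((∅ : Finset α) ⊆ ·) = blockSet L := by simp
  simp only [e, card_empty, h.card21, Nat.sub_zero] at h1
  rw [show Nat.choose 5 2 = 10 from rfl, show Nat.choose 21 2 = 210 from rfl] at h1
  omega

theorem meet {l m : Finset α} (hl : l ∈ L) (hm : m ∈ L) : ∃ x, x ∈ l ∧ x ∈ m := by
  classical
  by_contra hne
  push Not at hne
  obtain ⟨p, hp⟩ := card_pos.mp (by rw [h.card_line hm]; omega : 0 < m.card)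
  have hex : ∀ x : α, x ∈ l → ∃ n ∈ pencil L p, x ∈ n := by
    intro x hx
    obtain ⟨n, hn, hpn, hxn⟩ := h.exists_line (a := p) (b := x) (fun e => hne x hx (e ▸ hp))
    exact ⟨n, mem_pencil.mpr ⟨hn, hpn⟩, hxn⟩
  have hsub : l ⊆ ((pencil L p).erase m).biUnion (fun n => l ∩ n) := by
    intro x hx
    obtain ⟨n, hn, hxn⟩ := hex x hx
    exact mem_biUnion.mpr ⟨n, mem_erase.mpr ⟨fun e => hne x hx (e ▸ hxn), hn⟩,
      mem_inter.mpr ⟨hx, hxn⟩⟩
  have hle : ∀ n ∈ (pencil L p).erase m, (l ∩ n).card ≤ 1 := by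
    intro n hn
    rw [card_le_one]
    intro x hx y hy
    by_contra hxy
    simp only [mem_inter] at hx hy
    obtain ⟨hnL, hpn⟩ := mem_pencil.mp (mem_erase.mp hn).2
    obtain rfl := h.line_unique hl hnL hxy hx.1 hy.1 hx.2 hy.2
    exact hne p hpn hp
  have := (card_le_card hsub).trans (card_biUnion_le.trans (sum_le_sum hle))
  rw [sum_const, card_erase_of_mem (mem_pencil.mpr ⟨hm, hp⟩), h.card_pencil, h.card_line hl] at this
  simp at this

theorem card_inter {l m : Finset α} (hl : l ∈ L) (hm : m ∈ L) (hlm : l ≠ m) :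
    (l ∩ m).card = 1 := by
  refine le_antisymm ?_ ?_
  · rw [card_le_one]
    intro x hx y hy
    by_contra hxy
    simp only [mem_inter] at hx hy
    exact hlm (h.line_unique hl hm hxy hx.1 hy.1 hx.2 hy.2)
  · obtain ⟨x, hx⟩ := h.meet hl hm
    exact card_pos.mpr ⟨x, mem_inter.mpr hx⟩

/-- A line meeting a hyperoval meets it twice. -/
theorem hyperoval_secant {H : Finset α} (hH : H.card = 6) (hi : Indep L H) {l : Finset α}
    (hl : l ∈ L) {x : α} (hxl : x ∈ l) (hxH : x ∈ H) : (l ∩ H).card = 2 := by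
  have hd : ((pencil L x : Finset (Finset α)) : Set (Finset α)).PairwiseDisjoint
      fun n => (n ∩ H).erase x := by
    intro n hn n' hn' hne
    rw [Function.onFun, disjoint_left]
    intro y hy hy'
    simp only [mem_erase, mem_inter] at hy hy'
    simp only [mem_coe, mem_pencil] at hn hn'
    exact hne (h.line_unique hn.1 hn'.1 hy.1.symm hn.2 hy.2.1 hn'.2 hy'.2.1)
  have hu : (pencil L x).biUnion (fun n => (n ∩ H).erase x) = H.erase x := by
    ext y
    simp only [mem_biUnion, mem_erase, mem_inter, mem_pencil]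
    constructor
    · rintro ⟨n, -, hy, -, hyH⟩; exact ⟨hy, hyH⟩
    · rintro ⟨hy, hyH⟩
      obtain ⟨n, hn, hxn, hyn⟩ := h.exists_line hy.symm
      exact ⟨n, ⟨hn, hxn⟩, hy, hyn, hyH⟩
  have hle : ∀ n ∈ pencil L x, ((n ∩ H).erase x).card ≤ 1 := by
    intro n hn
    obtain ⟨hnL, hxn⟩ := mem_pencil.mp hn
    rw [card_erase_of_mem (mem_inter.mpr ⟨hxn, hxH⟩)]
    have := hi n hnL
    omega
  have hsum := card_biUnion hd
  rw [hu, card_erase_of_mem hxH, hH] at hsum
  have hall := (sum_eq_sum_iff_of_le hle).mp (by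
    rw [sum_const, h.card_pencil, ← hsum]; rfl) l (mem_pencil.mpr ⟨hl, hxl⟩)
  rw [card_erase_of_mem (mem_inter.mpr ⟨hxl, hxH⟩)] at hall
  omega

/-- The coordinates of the plane relative to a labelled hyperoval. -/
theorem exists_coord (φ : Fin 6 ↪ α) (hi : Indep L (univ.map φ)) :
    ∃ ψ : MPt ≃ α, (∀ i, ψ (Sum.inl i) = φ i) ∧
      (∀ l, l ∈ L ↔ ∃ m ∈ modelLines, l = m.image ψ) ∧
      ∀ (k : Fin 15) (i : Fin 6), ∃ l ∈ L, ψ (Sum.inr k) ∈ l ∧ φ i ∈ l ∧ φ (pairing k i) ∈ l := by
  classical
  set H := univ.map φ with hHdef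
  have hH : H.card = 6 := by simp [hHdef]
  have hmemH : ∀ i, φ i ∈ H := fun i => by simp [hHdef]
  have hsec : ∀ p, p ∉ H → ∀ i, ∃ j, j ≠ i ∧ ∃ l ∈ L, p ∈ l ∧ φ i ∈ l ∧ φ j ∈ l := by
    intro p hp i
    obtain ⟨l, hl, hpl, hil⟩ := h.exists_line (a := p) (b := φ i) (fun e => hp (e ▸ hmemH i))
    obtain ⟨y, hy, hyne⟩ := exists_mem_ne (by rw [h.hyperoval_secant hH hi hl hil (hmemH i)]; omega :
      1 < (l ∩ H).card) (φ i)
    simp only [mem_inter, hHdef, mem_map, mem_univ, true_and] at hy
    obtain ⟨hyl, j, rfl⟩ := hy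
    exact ⟨j, fun e => hyne (by rw [e]), l, hl, hpl, hil, hyl⟩
  choose f hfne l hlL hpl hil hjl using hsec
  have hmaps : ∀ p (hp : p ∉ H) i, ∀ l' ∈ L, p ∈ l' → φ i ∈ l' → l' = l p hp i :=
    fun p hp i l' hl' hp' hi' => h.line_unique (a := p) (b := φ i) hl' (hlL p hp i) (fun e => hp (e ▸ hmemH i)) hp' hi'
      (hpl p hp i) (hil p hp i)
  have hpartner : ∀ p (hp : p ∉ H) i j, φ j ∈ l p hp i → j = i ∨ j = f p hp i := by
    intro p hp i j hj
    by_contra hne
    push Not at hne
    have h3 := hi (l p hp i) (hlL p hp i)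
    have h3' : ({φ i, φ (f p hp i), φ j} : Finset α) ⊆ l p hp i ∩ H := by
      simp [insert_subset_iff, hil p hp i, hjl p hp i, hj, hmemH]
    have h4 := card_le_card h3'
    rw [card_eq_three.mpr ⟨φ i, φ (f p hp i), φ j, fun e => hfne p hp i (φ.injective e).symm,
      fun e => hne.1 (φ.injective e).symm, fun e => hne.2 (φ.injective e).symm, rfl⟩] at h4
    omega
  have hinv : ∀ p (hp : p ∉ H) i, f p hp (f p hp i) = i := by
    intro p hp i
    have e := hmaps p hp (f p hp i) (l p hp i) (hlL p hp i) (hpl p hp i) (hjl p hp i)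
    have h1 := hil p hp i
    rw [e] at h1
    rcases hpartner p hp (f p hp i) i h1 with h2 | h2
    · exact absurd h2.symm (hfne p hp i)
    · exact h2.symm
  have hk : ∀ p : {p : α // p ∉ H}, ∃ k, pairing k = f p.1 p.2 :=
    fun p => pairing_surj _ (hfne p.1 p.2) (hinv p.1 p.2)
  choose g hg using hk
  have hginj : Function.Injective g := by
    rintro ⟨p, hp⟩ ⟨q, hq⟩ hpq
    have hf : f p hp = f q hq := by rw [← hg ⟨p, hp⟩, ← hg ⟨q, hq⟩, hpq]
    by_contra hne
    have hne' : p ≠ q := fun e => hne (Subtype.ext e)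
    have hline : ∀ i, l p hp i = l q hq i := fun i =>
      h.line_unique (hlL p hp i) (hlL q hq i) (fun e => hfne p hp i (φ.injective e).symm)
        (hil p hp i) (hjl p hp i) (hil q hq i) (by rw [hf]; exact hjl q hq i)
    have hall : ∀ i, l p hp i = l p hp 0 := fun i =>
      h.line_unique (hlL p hp i) (hlL p hp 0) hne' (hpl p hp i) (by rw [hline]; exact hpl q hq i)
        (hpl p hp 0) (by rw [hline]; exact hpl q hq 0)
    obtain ⟨j, hj0, hj1⟩ : ∃ j : Fin 6, j ≠ 0 ∧ j ≠ f p hp 0 := by
      have : ∀ a : Fin 6, ∃ j : Fin 6, j ≠ 0 ∧ j ≠ a := by decide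
      exact this _
    have h1 := hil p hp j
    rw [hall j] at h1
    rcases hpartner p hp 0 j h1 with h2 | h2
    · exact hj0 h2
    · exact hj1 h2
  have hgbij : Function.Bijective g := by
    rw [Fintype.bijective_iff_injective_and_card]
    refine ⟨hginj, ?_⟩
    rw [Fintype.card_subtype_compl, h.card21, Fintype.card_coe, hH, Fintype.card_fin]
  let ge : {p : α // p ∉ H} ≃ Fin 15 := Equiv.ofBijective g hgbij
  have hψinj : Function.Injective (Sum.elim φ fun k => (ge.symm k : α)) := by
    refine φ.injective.sumElim (Subtype.val_injective.comp ge.symm.injective) fun i k e => ?_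
    exact (ge.symm k).2 (e ▸ hmemH i)
  let ψ : MPt ≃ α := Equiv.ofBijective _ ((Fintype.bijective_iff_injective_and_card _).mpr
    ⟨hψinj, by rw [h.card21, Fintype.card_sum, Fintype.card_fin, Fintype.card_fin]⟩)
  have hψl : ∀ i, ψ (Sum.inl i) = φ i := fun i => rfl
  have hψr : ∀ k, ψ (Sum.inr k) = ge.symm k := fun k => rfl
  have hpair : ∀ k i, pairing k i = f (ge.symm k).1 (ge.symm k).2 i := by
    intro k i
    have : g (ge.symm k) = k := ge.apply_symm_apply k
    rw [← hg, this]
  have hcoord : ∀ (k : Fin 15) (i : Fin 6),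
      ∃ m ∈ L, ψ (Sum.inr k) ∈ m ∧ φ i ∈ m ∧ φ (pairing k i) ∈ m := by
    intro k i
    rw [hψr, hpair]
    exact ⟨_, hlL _ (ge.symm k).2 i, hpl _ _ i, hil _ _ i, hjl _ _ i⟩
  have himg : ∀ l' ∈ L, ∃ m ∈ modelLines, l' = m.image ψ := by
    intro l' hl'
    suffices hh : ∃ m ∈ modelLines, l'.image ψ.symm = m by
      obtain ⟨m, hm, e⟩ := hh
      refine ⟨m, hm, ?_⟩
      rw [← e, image_image]; simp
    have hmem : ∀ x, x ∈ l'.image ψ.symm ↔ ψ x ∈ l' := by
      intro x
      simp only [mem_image]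
      exact ⟨fun ⟨y, hy, e⟩ => by rw [← e]; simpa, fun hx => ⟨ψ x, hx, by simp⟩⟩
    by_cases hmeet : ∃ i, φ i ∈ l'
    · obtain ⟨i, hi'⟩ := hmeet
      obtain ⟨y, hy, hyne⟩ := exists_mem_ne (by
        rw [h.hyperoval_secant hH hi hl' hi' (hmemH i)]; omega : 1 < (l' ∩ H).card) (φ i)
      simp only [mem_inter, hHdef, mem_map, mem_univ, true_and] at hy
      obtain ⟨hyl, j, rfl⟩ := hy
      have hij : i ≠ j := fun e => hyne (by rw [e])
      refine ⟨duadLine i j, duadLine_mem hij, ?_⟩
      ext x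
      rw [hmem]
      rcases x with a | k
      · simp only [hψl, duadLine, inl_mem_disjSum, mem_insert, mem_singleton]
        constructor
        · intro ha
          by_contra hne
          push Not at hne
          have h3 := hi l' hl'
          have h4 : ({φ i, φ j, φ a} : Finset α) ⊆ l' ∩ H := by
            simp [insert_subset_iff, hi', hyl, ha, hmemH]
          have h5 := card_le_card h4
          rw [card_eq_three.mpr ⟨φ i, φ j, φ a, fun e => hij (φ.injective e),
            fun e => hne.1 (φ.injective e).symm, fun e => hne.2 (φ.injective e).symm, rfl⟩] at h5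
          omega
        · rintro (rfl | rfl) <;> assumption
      · simp only [hψr, duadLine, inr_mem_disjSum, mem_filter, mem_univ, true_and, hpair]
        constructor
        · intro hk'
          have e := hmaps _ (ge.symm k).2 i l' hl' hk' hi'
          rw [e] at hyl
          rcases hpartner _ (ge.symm k).2 i j hyl with h2 | h2
          · exact absurd h2.symm hij
          · exact h2.symm
        · intro e
          have e2 : l _ (ge.symm k).2 i = l' :=
            h.line_unique (hlL _ (ge.symm k).2 i) hl' (fun e' => hij (φ.injective e'))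
              (hil _ (ge.symm k).2 i) (e ▸ hjl _ (ge.symm k).2 i) hi' hyl
          rw [← e2]; exact hpl _ (ge.symm k).2 i
    · push Not at hmeet
      obtain ⟨T, hT⟩ : ∃ T : Finset (Fin 15), ∀ x, x ∈ T ↔ ψ (Sum.inr x) ∈ l' :=
        ⟨univ.filter fun x => ψ (Sum.inr x) ∈ l', by simp⟩
      have himgT : l'.image ψ.symm = T.map ⟨Sum.inr, Sum.inr_injective⟩ := by
        ext x
        rw [hmem]
        rcases x with a | k
        · simpa [hψl] using hmeet a
        · simp [hT]
      have hT5 : T.card = 5 := by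
        rw [← h.card_line hl', ← card_image_of_injective l' ψ.symm.injective, himgT, card_map]
      have hd : ∀ a ∈ T, ∀ b ∈ T, a ≠ b → disj a b := by
        intro a ha b hb hab i e
        obtain ⟨m, hm, ham, him, hjm⟩ := hcoord a i
        obtain ⟨n, hn, hbn, hin, hjn⟩ := hcoord b i
        rw [← e] at hjn
        have hne : φ i ≠ φ (pairing a i) := fun e' => by
          have := φ.injective e'
          rw [hpair] at this
          exact hfne _ (ge.symm a).2 i this.symm
        have emn := h.line_unique hm hn hne him hjm hin hjn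
        have e2 := h.line_unique hm hl' (fun e' => hab (Sum.inr_injective (ψ.injective e'))) ham
          (emn ▸ hbn) ((hT a).mp ha) ((hT b).mp hb)
        exact hmeet i (e2 ▸ him)
      obtain ⟨a, ha⟩ := card_pos.mp (by omega : 0 < T.card)
      obtain ⟨b, hb⟩ := card_pos.mp (by rw [card_erase_of_mem ha]; omega : 0 < (T.erase a).card)
      obtain ⟨c, hc⟩ := card_pos.mp (by
        rw [card_erase_of_mem hb, card_erase_of_mem ha]; omega : 0 < ((T.erase a).erase b).card)
      obtain ⟨d, hd'⟩ := card_pos.mp (by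
        rw [card_erase_of_mem hc, card_erase_of_mem hb, card_erase_of_mem ha]; omega :
          0 < (((T.erase a).erase b).erase c).card)
      obtain ⟨e, he⟩ := card_pos.mp (by
        rw [card_erase_of_mem hd', card_erase_of_mem hc, card_erase_of_mem hb,
          card_erase_of_mem ha]; omega : 0 < ((((T.erase a).erase b).erase c).erase d).card)
      simp only [mem_erase] at hb hc hd' he
      obtain ⟨t, hta, htb, htc, htd, hte⟩ := totals_exists a b (hd a ha b hb.2 hb.1.symm)
        c (hd a ha c hc.2.2 hc.2.1.symm) (hd b hb.2 c hc.2.2 hc.1.symm)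
        d (hd a ha d hd'.2.2.2 hd'.2.2.1.symm) (hd b hb.2 d hd'.2.2.2 hd'.2.1.symm)
          (hd c hc.2.2 d hd'.2.2.2 hd'.1.symm)
        e (hd a ha e he.2.2.2.2 he.2.2.2.1.symm) (hd b hb.2 e he.2.2.2.2 he.2.2.1.symm)
          (hd c hc.2.2 e he.2.2.2.2 he.2.1.symm) (hd d hd'.2.2.2 e he.2.2.2.2 he.1.symm)
      refine ⟨totalLine t, totalLine_mem t, ?_⟩
      have hTt : totals t = T := by
        have h5 : ({a, b, c, d, e} : Finset (Fin 15)).card = 5 := by
          simp [card_insert_of_notMem, hb.1.symm, hc.2.1.symm, hc.1.symm, hd'.2.2.1.symm,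
            hd'.2.1.symm, hd'.1.symm, he.2.2.2.1.symm, he.2.2.1.symm, he.2.1.symm, he.1.symm]
        have e1 : ({a, b, c, d, e} : Finset (Fin 15)) = T := eq_of_subset_of_card_le
          (by simp [insert_subset_iff, ha, hb.2, hc.2.2, hd'.2.2.2, he.2.2.2.2]) (by rw [h5, hT5])
        have e2 : ({a, b, c, d, e} : Finset (Fin 15)) = totals t := eq_of_subset_of_card_le
          (by simp [insert_subset_iff, hta, htb, htc, htd, hte]) (by rw [h5, totals_card])
        rw [← e1, e2]
      rw [himgT, totalLine, hTt]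
  refine ⟨ψ, hψl, fun l' => ⟨himg l', ?_⟩, hcoord⟩
  rintro ⟨m, hm, rfl⟩
  have hsub : blockSet L ⊆ modelLines.image (fun m => m.image ψ) := by
    intro x hx
    obtain ⟨m', hm', rfl⟩ := himg x (mem_blockSet.mp hx)
    exact mem_image.mpr ⟨m', hm', rfl⟩
  have hle : (modelLines.image fun m => m.image ψ).card ≤ 21 :=
    card_image_le.trans modelLines_card_le
  have := eq_of_subset_of_card_le hsub (by rw [h.card_lines]; exact hle)
  have hm2 : m.image ψ ∈ modelLines.image (fun m => m.image ψ) := mem_image.mpr ⟨m, hm, rfl⟩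
  rw [← this] at hm2
  exact mem_blockSet.mp hm2

end IsPlane

end H94.Plane4
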