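import Cfsg.Agent.H94.Plane

set_option autoImplicit false
set_option linter.unusedSectionVars false

namespace H94.Plane4

open Finset

variable {α : Type*} [Fintype α] [DecidableEq α]

namespace IsPlane

variable {L : Set (Finset α)} (h : IsPlane L)
include h

/-- Independence of a set plus one point. -/
theorem indep_insert {S : Finset α} {x : α} (hS : Indep L S)
    (hx : ∀ a ∈ S, ∀ b ∈ S, a ≠ b → ∀ l ∈ L, a ∈ l → b ∈ l → x ∉ l) : Indep L (insert x S) := by
  intro l hl
  by_cases hxl : x ∈ l
  · rw [inter_insert_of_mem hxl]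
    refine (card_insert_le _ _).trans ?_
    have : (l ∩ S).card ≤ 1 := by
      rw [card_le_one]
      intro a ha b hb
      by_contra hab
      simp only [mem_inter] at ha hb
      exact hx a ha.2 b hb.2 hab l hl ha.1 hb.1 hxl
    omega
  · rw [inter_insert_of_notMem hxl]; exact hS l hl

theorem not_mem_of_indep {S : Finset α} (hS : Indep L S) {a b x : α} (ha : a ∈ S) (hb : b ∈ S)
    (hx : x ∈ S) (hab : a ≠ b) (hax : a ≠ x) (hbx : b ≠ x) {l : Finset α} (hl : l ∈ L)
    (hal : a ∈ l) (hbl : b ∈ l) : x ∉ l := by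
  intro hxl
  have h3 : ({a, b, x} : Finset α) ⊆ l ∩ S := by simp [insert_subset_iff, ha, hb, hx, hal, hbl, hxl]
  have h4 := card_le_card h3
  rw [card_eq_three.mpr ⟨a, b, x, hab, hax, hbx, rfl⟩] at h4
  have := hS l hl
  omega

/-- The points extending an independent set. -/
noncomputable def extendPts (L : Set (Finset α)) (S : Finset α) : Finset α := by
  classical exact univ.filter fun x => x ∉ S ∧ Indep L (insert x S)

theorem mem_extendPts {S : Finset α} {x : α} :
    x ∈ extendPts L S ↔ x ∉ S ∧ Indep L (insert x S) := by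
  classical simp [extendPts]

theorem indep_of_card_le_two {S : Finset α} (hS : S.card ≤ 2) : Indep L S :=
  fun l _ => (card_le_card inter_subset_right).trans hS

theorem ext_two {S : Finset α} (hS : S.card = 2) : (extendPts L S).card = 16 := by
  obtain ⟨a, b, hab, rfl⟩ := card_eq_two.mp hS
  obtain ⟨l, hl, hal, hbl⟩ := h.exists_line hab
  have e : extendPts L {a, b} = univ \ l := by
    ext x
    rw [h.mem_extendPts]
    simp only [mem_sdiff, mem_univ, true_and, mem_insert, mem_singleton, not_or]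
    constructor
    · rintro ⟨⟨hxa, hxb⟩, hi⟩
      exact h.not_mem_of_indep hi (by simp) (by simp) (by simp) hab (Ne.symm hxa) (Ne.symm hxb) hl hal hbl
    · intro hxl
      refine ⟨⟨fun e => hxl (e ▸ hal), fun e => hxl (e ▸ hbl)⟩,
        h.indep_insert (h.indep_of_card_le_two hS.le) ?_⟩
      intro p hp q hq hpq m hm hpm hqm hxm
      have : m = l := by
        refine h.line_unique hm hl hpq hpm hqm ?_ ?_ <;>
          simp only [mem_insert, mem_singleton] at hp hq <;>
          rcases hp with rfl | rfl <;> rcases hq with rfl | rfl <;> assumption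
      exact hxl (this ▸ hxm)
  rw [e, card_sdiff_of_subset (subset_univ _), card_univ, h.card21, h.card_line hl]

theorem ext_three {S : Finset α} (hS : S.card = 3) (hi : Indep L S) :
    (extendPts L S).card = 9 := by
  obtain ⟨a, b, c, hab, hac, hbc, rfl⟩ := card_eq_three.mp hS
  obtain ⟨l₁, h1, a1, b1⟩ := h.exists_line hab
  obtain ⟨l₂, h2, a2, c2⟩ := h.exists_line hac
  obtain ⟨l₃, h3, b3, c3⟩ := h.exists_line hbc
  have c1 : c ∉ l₁ := h.not_mem_of_indep hi (by simp) (by simp) (by simp) hab hac hbc h1 a1 b1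
  have b2 : b ∉ l₂ := h.not_mem_of_indep hi (by simp) (by simp) (by simp) hac hab hbc.symm h2 a2 c2
  have a3 : a ∉ l₃ :=
    h.not_mem_of_indep hi (by simp) (by simp) (by simp) hbc hab.symm hac.symm h3 b3 c3
  have e : extendPts L {a, b, c} = univ \ (l₁ ∪ l₂ ∪ l₃) := by
    ext x
    rw [h.mem_extendPts]
    simp only [mem_sdiff, mem_univ, true_and, mem_insert, mem_singleton, not_or, mem_union]
    constructor
    · rintro ⟨⟨hxa, hxb, hxc⟩, hi'⟩
      exact ⟨⟨h.not_mem_of_indep hi' (by simp) (by simp) (by simp) hab (Ne.symm hxa) (Ne.symm hxb) h1 a1 b1,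
        h.not_mem_of_indep hi' (by simp) (by simp) (by simp) hac (Ne.symm hxa) (Ne.symm hxc) h2 a2 c2⟩,
        h.not_mem_of_indep hi' (by simp) (by simp) (by simp) hbc (Ne.symm hxb) (Ne.symm hxc) h3 b3 c3⟩
    · rintro ⟨⟨x1, x2⟩, x3⟩
      refine ⟨⟨fun e => x1 (e ▸ a1), fun e => x1 (e ▸ b1), fun e => x2 (e ▸ c2)⟩,
        h.indep_insert hi ?_⟩
      intro p hp q hq hpq m hm hpm hqm hxm
      simp only [mem_insert, mem_singleton] at hp hq
      rcases hp with rfl | rfl | rfl <;> rcases hq with rfl | rfl | rfl <;>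
        first
        | exact absurd rfl hpq
        | exact x1 (h.line_unique hm h1 hab hpm hqm a1 b1 ▸ hxm)
        | exact x1 (h.line_unique hm h1 hab hqm hpm a1 b1 ▸ hxm)
        | exact x2 (h.line_unique hm h2 hac hpm hqm a2 c2 ▸ hxm)
        | exact x2 (h.line_unique hm h2 hac hqm hpm a2 c2 ▸ hxm)
        | exact x3 (h.line_unique hm h3 hbc hpm hqm b3 c3 ▸ hxm)
        | exact x3 (h.line_unique hm h3 hbc hqm hpm b3 c3 ▸ hxm)
  have n12 : l₁ ≠ l₂ := fun e => c1 (e ▸ c2)
  have n13 : l₁ ≠ l₃ := fun e => c1 (e ▸ c3)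
  have n23 : l₂ ≠ l₃ := fun e => b2 (e ▸ b3)
  have e12 : (l₁ ∪ l₂).card = 9 := by
    have := card_union_add_card_inter l₁ l₂
    rw [h.card_inter h1 h2 n12, h.card_line h1, h.card_line h2] at this
    omega
  have e3 : (l₁ ∪ l₂) ∩ l₃ = {b, c} := by
    refine (eq_of_subset_of_card_le ?_ ?_).symm
    · simp [insert_subset_iff, b1, b3, c2, c3]
    · rw [union_inter_distrib_right, card_pair hbc]
      refine (card_union_le _ _).trans ?_
      rw [h.card_inter h1 h3 n13, h.card_inter h2 h3 n23]
  have := card_union_add_card_inter (l₁ ∪ l₂) l₃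
  rw [e3, card_pair hbc, e12, h.card_line h3] at this
  rw [e, card_sdiff_of_subset (subset_univ _), card_univ, h.card21]
  omega

/-- `k`-sets in general position. -/
noncomputable def indepSets (L : Set (Finset α)) (k : ℕ) : Finset (Finset α) := by
  classical exact univ.filter fun S => S.card = k ∧ Indep L S

theorem mem_indepSets {k : ℕ} {S : Finset α} :
    S ∈ indepSets L k ↔ S.card = k ∧ Indep L S := by
  classical simp [indepSets]

theorem indepSets_step (k e : ℕ)
    (he : ∀ S ∈ indepSets L k, (extendPts L S).card = e) :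
    (indepSets L (k + 1)).card * (k + 1) = (indepSets L k).card * e := by
  classical
  refine card_mul_eq_card_mul (fun T S => S ⊆ T) ?_ ?_
  · intro T hT
    rw [h.mem_indepSets] at hT
    rw [show (k + 1) = (T.image fun x => T.erase x).card by
      rw [card_image_of_injOn, hT.1]
      intro x hx y hy hxy
      by_contra hne
      have : y ∈ T.erase x := mem_erase.mpr ⟨Ne.symm hne, hy⟩
      simp only at hxy
      rw [hxy] at this
      simp at this]
    congr 1
    ext S
    simp only [mem_bipartiteAbove, h.mem_indepSets, mem_image]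
    constructor
    · rintro ⟨⟨hS, -⟩, hsub⟩
      obtain ⟨x, hx⟩ := card_eq_one.mp (by rw [card_sdiff_of_subset hsub]; omega : (T \ S).card = 1)
      have hxT : x ∈ T ∧ x ∉ S := mem_sdiff.mp (hx ▸ mem_singleton_self x)
      refine ⟨x, hxT.1, (eq_of_subset_of_card_le ?_ ?_).symm⟩
      · exact fun y hy => mem_erase.mpr ⟨fun e => hxT.2 (e ▸ hy), hsub hy⟩
      · rw [card_erase_of_mem hxT.1]; omega
    · rintro ⟨x, hx, rfl⟩
      exact ⟨⟨by rw [card_erase_of_mem hx]; omega, hT.2.subset (erase_subset _ _)⟩, erase_subset _ _⟩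
  · intro S hS
    rw [← he S hS]
    rw [h.mem_indepSets] at hS
    rw [show (extendPts L S).card = ((extendPts L S).image fun x => insert x S).card by
      rw [card_image_of_injOn]
      intro x hx y hy hxy
      simp only [mem_coe, h.mem_extendPts] at hx hy
      simp only at hxy
      have := mem_insert_self x S
      rw [hxy] at this
      exact (mem_insert.mp this).resolve_right hx.1]
    congr 1
    ext T
    simp only [mem_bipartiteBelow, h.mem_indepSets, mem_image, h.mem_extendPts]
    constructor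
    · rintro ⟨⟨hT, hTi⟩, hsub⟩
      obtain ⟨x, hx⟩ := card_eq_one.mp (by rw [card_sdiff_of_subset hsub]; omega : (T \ S).card = 1)
      have hxT : x ∈ T ∧ x ∉ S := mem_sdiff.mp (hx ▸ mem_singleton_self x)
      have e : insert x S = T := eq_of_subset_of_card_le (insert_subset hxT.1 hsub)
        (by rw [card_insert_of_notMem hxT.2]; omega)
      exact ⟨x, ⟨hxT.2, e ▸ hTi⟩, e⟩
    · rintro ⟨x, ⟨hx, hxi⟩, rfl⟩
      exact ⟨⟨by rw [card_insert_of_notMem hx]; omega, hxi⟩, subset_insert _ _⟩

theorem count_quads : (indepSets L 4).card = 2520 := by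
  classical
  have c2 : (indepSets L 2).card = 210 := by
    have : indepSets L 2 = univ.powersetCard 2 := by
      ext S
      rw [h.mem_indepSets, mem_powersetCard]
      exact ⟨fun hS => ⟨subset_univ _, hS.1⟩, fun hS => ⟨hS.2, h.indep_of_card_le_two hS.2.le⟩⟩
    rw [this, card_powersetCard, card_univ, h.card21]; rfl
  have c3 := h.indepSets_step 2 16 (fun S hS => h.ext_two (h.mem_indepSets.mp hS).1)
  have c4 := h.indepSets_step 3 9
    (fun S hS => h.ext_three (h.mem_indepSets.mp hS).1 (h.mem_indepSets.mp hS).2)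
  simp only [show 2 + 1 = 3 from rfl, show 3 + 1 = 4 from rfl] at c3 c4
  rw [c2] at c3
  omega

/-- The set of points on none of the lines through pairs of a quadrangle. -/
theorem quad_ext {S : Finset α} (hS : S.card = 4) (hi : Indep L S) :
    ∃ x y, x ≠ y ∧ extendPts L S = {x, y} ∧ Indep L (insert x (insert y S)) := by
  classical
  set U := extendPts L S with hUdef
  have hmemU : ∀ x, x ∈ U ↔ x ∉ S ∧ Indep L (insert x S) := fun x => h.mem_extendPts
  have hrot : ∀ a ∈ S, ∃ P : Finset (Finset α), P.card = 2 ∧ (∀ l ∈ P, l ∈ L ∧ a ∈ l) ∧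
      (∀ l ∈ P, (l ∩ U).card = 1) ∧ ∀ x ∈ U, ∀ l ∈ L, a ∈ l → x ∈ l → l ∈ P := by
    intro a ha
    set P := (pencil L a).filter (fun l => l ∩ S = {a}) with hPdef
    obtain ⟨b, c, d, hbc, hbd, hcd, he⟩ := card_eq_three.mp
      (by rw [card_erase_of_mem ha, hS] : (S.erase a).card = 3)
    have hb : b ∈ S.erase a := by rw [he]; simp
    have hc : c ∈ S.erase a := by rw [he]; simp
    have hd : d ∈ S.erase a := by rw [he]; simp
    rw [mem_erase] at hb hc hd
    have hmem4 : ∀ q, q ∈ S → q = a ∨ q = b ∨ q = c ∨ q = d := by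
      intro q hq
      by_cases e : q = a
      · exact Or.inl e
      · have : q ∈ S.erase a := mem_erase.mpr ⟨e, hq⟩
        rw [he] at this
        simpa using Or.inr this
    obtain ⟨lb, hlb, alb, blb⟩ := h.exists_line hb.1.symm
    obtain ⟨lc, hlc, alc, clc⟩ := h.exists_line hc.1.symm
    obtain ⟨ld, hld, ald, dld⟩ := h.exists_line hd.1.symm
    have ncb : c ∉ lb := h.not_mem_of_indep hi ha hb.2 hc.2 hb.1.symm hc.1.symm hbc hlb alb blb
    have ndb : d ∉ lb := h.not_mem_of_indep hi ha hb.2 hd.2 hb.1.symm hd.1.symm hbd hlb alb blb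
    have ndc : d ∉ lc := h.not_mem_of_indep hi ha hc.2 hd.2 hc.1.symm hd.1.symm hcd hlc alc clc
    have h3 : ({lb, lc, ld} : Finset (Finset α)).card = 3 :=
      card_eq_three.mpr ⟨lb, lc, ld, fun e => ncb (e ▸ clc), fun e => ndb (e ▸ dld),
        fun e => ndc (e ▸ dld), rfl⟩
    have hP : P = pencil L a \ {lb, lc, ld} := by
      ext l
      simp only [hPdef, mem_filter, mem_sdiff, mem_insert, mem_singleton, mem_pencil]
      constructor
      · rintro ⟨hl, e⟩
        refine ⟨hl, ?_⟩
        rintro (rfl | rfl | rfl)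
        · have : b ∈ l ∩ S := mem_inter.mpr ⟨blb, hb.2⟩
          rw [e] at this; exact hb.1 (by simpa using this)
        · have : c ∈ l ∩ S := mem_inter.mpr ⟨clc, hc.2⟩
          rw [e] at this; exact hc.1 (by simpa using this)
        · have : d ∈ l ∩ S := mem_inter.mpr ⟨dld, hd.2⟩
          rw [e] at this; exact hd.1 (by simpa using this)
      · rintro ⟨⟨hl, hal⟩, hne⟩
        refine ⟨⟨hl, hal⟩, ?_⟩
        ext q
        simp only [mem_inter, mem_singleton]
        refine ⟨fun ⟨hql, hqS⟩ => ?_, fun e => e ▸ ⟨hal, ha⟩⟩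
        rcases hmem4 q hqS with rfl | rfl | rfl | rfl
        · rfl
        · exact absurd (Or.inl (h.line_unique hl hlb hb.1.symm hal hql alb blb)) hne
        · exact absurd (Or.inr (Or.inl (h.line_unique hl hlc hc.1.symm hal hql alc clc))) hne
        · exact absurd (Or.inr (Or.inr (h.line_unique hl hld hd.1.symm hal hql ald dld))) hne
    refine ⟨P, ?_, fun l hl => mem_pencil.mp (mem_filter.mp hl).1, ?_, ?_⟩
    · rw [hP, card_sdiff_of_subset, h.card_pencil, h3]
      simp [insert_subset_iff, mem_pencil, hlb, hlc, hld, alb, alc, ald]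
    · intro l hl
      obtain ⟨hla, hlS⟩ := mem_filter.mp hl
      obtain ⟨hlL, hal⟩ := mem_pencil.mp hla
      have hnot : ∀ q ∈ S, q ≠ a → q ∉ l := fun q hq hne hql => hne (by
        have : q ∈ l ∩ S := mem_inter.mpr ⟨hql, hq⟩
        rw [hlS] at this; simpa using this)
      obtain ⟨mbc, hmbc, bbc, cbc⟩ := h.exists_line hbc
      obtain ⟨mbd, hmbd, bbd, dbd⟩ := h.exists_line hbd
      obtain ⟨mcd, hmcd, ccd, dcd⟩ := h.exists_line hcd
      have nbc : a ∉ mbc := h.not_mem_of_indep hi hb.2 hc.2 ha hbc hb.1 hc.1 hmbc bbc cbc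
      have nbd : a ∉ mbd := h.not_mem_of_indep hi hb.2 hd.2 ha hbd hb.1 hd.1 hmbd bbd dbd
      have ncd : a ∉ mcd := h.not_mem_of_indep hi hc.2 hd.2 ha hcd hc.1 hd.1 hmcd ccd dcd
      obtain ⟨x1, x1l, x1m⟩ := h.meet hlL hmbc
      obtain ⟨x2, x2l, x2m⟩ := h.meet hlL hmbd
      obtain ⟨x3, x3l, x3m⟩ := h.meet hlL hmcd
      have n1 : mbc ≠ mbd := fun e => h.not_mem_of_indep hi hb.2 hc.2 hd.2 hbc hbd hcd hmbc bbc cbc (e ▸ dbd)
      have n2 : mbc ≠ mcd := fun e => h.not_mem_of_indep hi hb.2 hc.2 hd.2 hbc hbd hcd hmbc bbc cbc (e ▸ dcd)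
      have n3 : mbd ≠ mcd := fun e =>
        h.not_mem_of_indep hi hb.2 hd.2 hc.2 hbd hbc hcd.symm hmbd bbd dbd (e ▸ ccd)
      have u12 : x1 ≠ x2 := fun e => hnot b hb.2 hb.1 (by
        by_contra hbl
        exact n1 (h.line_unique (a := x1) (b := b) hmbc hmbd (fun e' => hbl (e' ▸ x1l)) x1m bbc
          (e ▸ x2m) bbd))
      have u13 : x1 ≠ x3 := fun e => hnot c hc.2 hc.1 (by
        by_contra hcl
        exact n2 (h.line_unique (a := x1) (b := c) hmbc hmcd (fun e' => hcl (e' ▸ x1l)) x1m cbc
          (e ▸ x3m) ccd))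
      have u23 : x2 ≠ x3 := fun e => hnot d hd.2 hd.1 (by
        by_contra hdl
        exact n3 (h.line_unique (a := x2) (b := d) hmbd hmcd (fun e' => hdl (e' ▸ x2l)) x2m dbd
          (e ▸ x3m) dcd))
      have hlU : l ∩ U = l \ {a, x1, x2, x3} := by
        ext x
        simp only [mem_inter, mem_sdiff, mem_insert, mem_singleton, hmemU]
        constructor
        · rintro ⟨hxl, hxS, hxi⟩
          refine ⟨hxl, ?_⟩
          rintro (rfl | rfl | rfl | rfl)
          · exact hxS ha
          · exact h.not_mem_of_indep hxi (mem_insert_of_mem hb.2) (mem_insert_of_mem hc.2)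
              (mem_insert_self _ _) hbc (fun e => hxS (e ▸ hb.2)) (fun e => hxS (e ▸ hc.2)) hmbc bbc
              cbc x1m
          · exact h.not_mem_of_indep hxi (mem_insert_of_mem hb.2) (mem_insert_of_mem hd.2)
              (mem_insert_self _ _) hbd (fun e => hxS (e ▸ hb.2)) (fun e => hxS (e ▸ hd.2)) hmbd bbd
              dbd x2m
          · exact h.not_mem_of_indep hxi (mem_insert_of_mem hc.2) (mem_insert_of_mem hd.2)
              (mem_insert_self _ _) hcd (fun e => hxS (e ▸ hc.2)) (fun e => hxS (e ▸ hd.2)) hmcd ccd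
              dcd x3m
        · rintro ⟨hxl, hne⟩
          push Not at hne
          obtain ⟨hxa, hx1, hx2, hx3⟩ := hne
          have hxS : x ∉ S := fun hx => hnot x hx hxa hxl
          refine ⟨hxl, hxS, h.indep_insert hi ?_⟩
          intro p hp q hq hpq m hm hpm hqm hxm
          have hml : m ≠ l := by
            rintro rfl
            rcases eq_or_ne p a with rfl | hpa
            · exact hnot q hq hpq.symm hqm
            · exact hnot p hp hpa hpm
          have key : ∀ y, y ∈ l → y ∈ m → y = x := by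
            intro y hy hy'
            by_contra hyx
            exact hml (h.line_unique hm hlL hyx hy' hxm hy hxl)
          rcases hmem4 p hp with rfl | rfl | rfl | rfl <;>
            rcases hmem4 q hq with rfl | rfl | rfl | rfl <;>
            first
            | exact absurd rfl hpq
            | exact hxa (key _ hal hpm).symm
            | exact hxa (key _ hal hqm).symm
            | exact hx1 (key _ x1l (h.line_unique hm hmbc hbc hpm hqm bbc cbc ▸ x1m)).symm
            | exact hx1 (key _ x1l (h.line_unique hm hmbc hbc hqm hpm bbc cbc ▸ x1m)).symm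
            | exact hx2 (key _ x2l (h.line_unique hm hmbd hbd hpm hqm bbd dbd ▸ x2m)).symm
            | exact hx2 (key _ x2l (h.line_unique hm hmbd hbd hqm hpm bbd dbd ▸ x2m)).symm
            | exact hx3 (key _ x3l (h.line_unique hm hmcd hcd hpm hqm ccd dcd ▸ x3m)).symm
            | exact hx3 (key _ x3l (h.line_unique hm hmcd hcd hqm hpm ccd dcd ▸ x3m)).symm
      rw [hlU, card_sdiff_of_subset (by simp [insert_subset_iff, hal, x1l, x2l, x3l]),
        h.card_line hlL, card_insert_of_notMem (s := ({x1, x2, x3} : Finset α)) (by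
          simp only [mem_insert, mem_singleton, not_or]
          exact ⟨fun e => nbc (e ▸ x1m), fun e => nbd (e ▸ x2m), fun e => ncd (e ▸ x3m)⟩),
        card_eq_three.mpr ⟨x1, x2, x3, u12, u13, u23, rfl⟩]
    · intro x hx l hl hal hxl
      rw [hP, mem_sdiff]
      refine ⟨mem_pencil.mpr ⟨hl, hal⟩, ?_⟩
      obtain ⟨hxS, hxi⟩ := (hmemU x).mp hx
      simp only [mem_insert, mem_singleton]
      rintro (rfl | rfl | rfl)
      · exact h.not_mem_of_indep hxi (mem_insert_of_mem ha) (mem_insert_of_mem hb.2)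
          (mem_insert_self _ _) hb.1.symm (fun e => hxS (e ▸ ha)) (fun e => hxS (e ▸ hb.2)) hl alb blb
          hxl
      · exact h.not_mem_of_indep hxi (mem_insert_of_mem ha) (mem_insert_of_mem hc.2)
          (mem_insert_self _ _) hc.1.symm (fun e => hxS (e ▸ ha)) (fun e => hxS (e ▸ hc.2)) hl alc clc
          hxl
      · exact h.not_mem_of_indep hxi (mem_insert_of_mem ha) (mem_insert_of_mem hd.2)
          (mem_insert_self _ _) hd.1.symm (fun e => hxS (e ▸ ha)) (fun e => hxS (e ▸ hd.2)) hl ald dld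
          hxl
  obtain ⟨a, ha⟩ := card_pos.mp (by omega : 0 < S.card)
  obtain ⟨P, hP2, hPL, hP1, hPall⟩ := hrot a ha
  have hU : U = P.biUnion (fun l => l ∩ U) := by
    ext x
    simp only [mem_biUnion, mem_inter]
    refine ⟨fun hx => ?_, fun ⟨l, _, _, hx⟩ => hx⟩
    have hax : a ≠ x := fun e => ((hmemU x).mp hx).1 (e ▸ ha)
    obtain ⟨l, hl, hal, hxl⟩ := h.exists_line hax
    exact ⟨l, hPall x hx l hl hal hxl, hxl, hx⟩
  have hU2 : U.card = 2 := by
    rw [hU, card_biUnion]
    · rw [sum_congr rfl hP1, sum_const, hP2]; rfl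
    · intro l hl m hm hne
      rw [Function.onFun, disjoint_left]
      intro x hx hx'
      simp only [mem_inter] at hx hx'
      exact hne (h.line_unique (a := a) (b := x) (hPL l hl).1 (hPL m hm).1
        (fun e => ((hmemU x).mp hx.2).1 (e ▸ ha)) (hPL l hl).2 hx.1 (hPL m hm).2 hx'.1)
  obtain ⟨x, y, hxy, he⟩ := card_eq_two.mp hU2
  refine ⟨x, y, hxy, he, ?_⟩
  have hx := (hmemU x).mp (by rw [he]; simp)
  have hy := (hmemU y).mp (by rw [he]; simp)
  refine h.indep_insert hy.2 ?_
  intro p hp q hq hpq m hm hpm hqm hxm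
  rw [mem_insert] at hp hq
  rcases hp with rfl | hp <;> rcases hq with rfl | hq
  · exact hpq rfl
  · obtain ⟨Q, -, -, hQ1, hQall⟩ := hrot q hq
    have h1 := hQ1 m (hQall x (by rw [he]; simp) m hm hqm hxm)
    have : ({x, p} : Finset α) ⊆ m ∩ U := by simp [insert_subset_iff, hxm, hpm, he]
    have := card_le_card this
    rw [card_pair hxy, h1] at this; omega
  · obtain ⟨Q, -, -, hQ1, hQall⟩ := hrot p hp
    have h1 := hQ1 m (hQall x (by rw [he]; simp) m hm hpm hxm)
    have : ({x, q} : Finset α) ⊆ m ∩ U := by simp [insert_subset_iff, hxm, hqm, he]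
    have := card_le_card this
    rw [card_pair hxy, h1] at this; omega
  · exact h.not_mem_of_indep hx.2 (mem_insert_of_mem hp) (mem_insert_of_mem hq)
      (mem_insert_self _ _) hpq (fun e => hx.1 (e ▸ hp)) (fun e => hx.1 (e ▸ hq)) hm hpm hqm hxm

theorem unique_hyperoval {S : Finset α} (hS : S.card = 4) (hi : Indep L S) :
    ∃! H : Finset α, (H.card = 6 ∧ Indep L H) ∧ S ⊆ H := by
  obtain ⟨x, y, hxy, he, hxi⟩ := h.quad_ext hS hi
  have hx := h.mem_extendPts.mp (by rw [he]; simp : x ∈ extendPts L S)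
  have hy := h.mem_extendPts.mp (by rw [he]; simp : y ∈ extendPts L S)
  refine ⟨insert x (insert y S), ⟨⟨?_, hxi⟩, (subset_insert _ _).trans (subset_insert _ _)⟩, ?_⟩
  · rw [card_insert_of_notMem (by simp [hxy, hx.1]), card_insert_of_notMem hy.1, hS]
  · rintro H ⟨⟨hH, hHi⟩, hSH⟩
    apply eq_of_subset_of_card_le
    · intro z hz
      by_cases hzS : z ∈ S
      · simp [hzS]
      · have : z ∈ extendPts L S :=
          h.mem_extendPts.mpr ⟨hzS, hHi.subset (insert_subset hz hSH)⟩
        rw [he] at this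
        simp only [mem_insert, mem_singleton] at this
        rcases this with rfl | rfl <;> simp
    · rw [hH, card_insert_of_notMem (by simp [hxy, hx.1]), card_insert_of_notMem hy.1, hS]

theorem count_hyperovals : (indepSets L 6).card = 168 := by
  classical
  have h1 : (indepSets L 6).card * 15 = (indepSets L 4).card * 1 := by
    refine card_mul_eq_card_mul (fun H S => S ⊆ H) ?_ ?_
    · intro H hH
      rw [h.mem_indepSets] at hH
      rw [show (15 : ℕ) = (H.powersetCard 4).card by rw [card_powersetCard, hH.1]; rfl]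
      congr 1
      ext S
      simp only [mem_bipartiteAbove, h.mem_indepSets, mem_powersetCard]
      exact ⟨fun hh => ⟨hh.2, hh.1.1⟩, fun hh => ⟨⟨hh.2, hH.2.subset hh.1⟩, hh.1⟩⟩
    · intro S hS
      rw [h.mem_indepSets] at hS
      obtain ⟨H, hH, huniq⟩ := h.unique_hyperoval hS.1 hS.2
      rw [card_eq_one]
      refine ⟨H, ?_⟩
      ext T
      simp only [mem_bipartiteBelow, h.mem_indepSets, mem_singleton]
      exact ⟨fun hT => huniq T hT, fun e => e ▸ hH⟩
  rw [h.count_quads] at h1
  omega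

theorem exists_frame : ∃ φ : Fin 6 ↪ α, Indep L (univ.map φ) := by
  classical
  obtain ⟨H, hH⟩ := card_pos.mp (by rw [h.count_hyperovals]; omega : 0 < (indepSets L 6).card)
  rw [h.mem_indepSets] at hH
  refine ⟨(Fintype.equivFinOfCardEq (by rw [Fintype.card_coe, hH.1])).symm.toEmbedding.trans
    ⟨Subtype.val, Subtype.val_injective⟩, ?_⟩
  refine hH.2.subset ?_
  intro x hx
  simp only [mem_map, mem_univ, true_and] at hx
  obtain ⟨i, rfl⟩ := hx
  exact Subtype.coe_prop _

end IsPlane

theorem image_lines {α β : Type*} [Fintype α] [DecidableEq α] [Fintype β] [DecidableEq β]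
    {L : Set (Finset α)} {L' : Set (Finset β)} {ψ : MPt ≃ α} {ψ' : MPt ≃ β}
    (h1 : ∀ l, l ∈ L ↔ ∃ m ∈ modelLines, l = m.image ψ)
    (h2 : ∀ l, l ∈ L' ↔ ∃ m ∈ modelLines, l = m.image ψ') :
    (fun b => b.image (ψ.symm.trans ψ')) '' L = L' := by
  have e : ∀ m : Finset MPt, (m.image ψ).image (ψ.symm.trans ψ') = m.image ψ' := by
    intro m
    rw [image_image]
    congr 1
    funext x
    simp
  ext l
  simp only [Set.mem_image, h1, h2]
  constructor
  · rintro ⟨_, ⟨m, hm, rfl⟩, rfl⟩
    exact ⟨m, hm, e m⟩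
  · rintro ⟨m, hm, rfl⟩
    exact ⟨_, ⟨m, hm, rfl⟩, e m⟩

end H94.Plane4
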