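import Cfsg.Agent.H94.AbstractGolay
import Cfsg.Agent.H94.Steiner
import Cfsg.Agent.H95.LeechSym

/-!
Functionals on an abstract Golay code given by small supports, and the rigidity of the
code modulo the all-ones word under maps preserving octad classes.
-/

set_option autoImplicit false
set_option linter.unusedSectionVars false

namespace H94

open Finset

variable {α : Type*} [Fintype α] [DecidableEq α]

/-- an abstract Golay code containing the all-ones word, self-orthogonal -/
structure GolayFullLike (C : Submodule (ZMod 2) (α → ZMod 2)) : Prop where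
  like : GolayLike C
  orth : ∀ v ∈ C, ∀ w ∈ C, ∑ i, v i * w i = 0
  one_mem : (fun _ => (1 : ZMod 2)) ∈ C

theorem sup2_one : sup2 (fun _ : α => (1 : ZMod 2)) = univ := by ext i; simp [mem_sup2]

theorem dot_sum (u : Finset α) (c : α → ZMod 2) :
    ∑ i ∈ u, c i = ((sup2 c ∩ u).card : ZMod 2) := by
  rw [card_eq_sum_ones, Nat.cast_sum, inter_comm, ← filter_mem_eq_inter, sum_filter]
  refine sum_congr rfl fun i _ => ?_
  rcases zmod2_cases (c i) with h | h <;> simp [mem_sup2, h]

theorem sum_symmDiff2 (u v : Finset α) (c : α → ZMod 2) :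
    ∑ i ∈ symmDiff u v, c i = ∑ i ∈ u, c i + ∑ i ∈ v, c i := by
  have h := congrArg (fun n : ℕ => (n : ZMod 2)) (card_symmDiff_add (sup2 c ∩ u) (sup2 c ∩ v))
  simp only [Nat.cast_add, Nat.cast_mul, show ((2 : ℕ) : ZMod 2) = 0 from rfl, zero_mul,
    add_zero] at h
  rw [dot_sum, dot_sum, dot_sum, ← h]
  congr 2
  ext i
  simp only [mem_inter, mem_symmDiff]
  tauto

namespace GolayFullLike

variable {C : Submodule (ZMod 2) (α → ZMod 2)} (h : GolayFullLike C)
include h

theorem norm_add_one (w : α → ZMod 2) :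
    hammingNorm (w + fun _ => (1 : ZMod 2)) + hammingNorm w = 24 := by
  have h1 := norm_add_aux w (fun _ => (1 : ZMod 2))
  simp only [hammingNorm_eq_sup2, sup2_one, inter_univ, card_univ, h.like.card24] at h1 ⊢
  omega

theorem weights {w : α → ZMod 2} (hw : w ∈ C) :
    hammingNorm w = 0 ∨ hammingNorm w = 8 ∨ hammingNorm w = 12 ∨ hammingNorm w = 16 ∨
      hammingNorm w = 24 := by
  obtain ⟨k, hk⟩ := h.like.doubly_even h.orth w hw
  have h1 := h.norm_add_one w
  by_cases h0 : w = 0
  · left; simp [h0]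
  have h8 := h.like.min8 w hw h0
  by_cases h24 : hammingNorm w = 24
  · omega
  have hne : w + (fun _ => (1 : ZMod 2)) ≠ 0 := by
    intro e
    rw [e, hammingNorm_zero] at h1
    omega
  have := h.like.min8 _ (C.add_mem hw h.one_mem) hne
  omega

/-- the number of octads meeting `u` in an odd number of points -/
noncomputable def oddCount (C : Submodule (ZMod 2) (α → ZMod 2)) (u : Finset α) : ℕ :=
  ((blockSet (Cfsg.wordsOfWeight (C : Set (α → ZMod 2)) 8)).filter
    fun b => Odd (b ∩ u).card).card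

theorem inter_moments (u : Finset α) (j m : ℕ) (hj : j ≤ 5)
    (hm : (24 - j).choose (5 - j) = m * (8 - j).choose (5 - j)) :
    ∑ i ∈ range (u.card + 1), i.choose j *
      ((blockSet (Cfsg.wordsOfWeight (C : Set (α → ZMod 2)) 8)).filter
        fun b => (b ∩ u).card = i).card = u.card.choose j * m := by
  set F := blockSet (Cfsg.wordsOfWeight (C : Set (α → ZMod 2)) 8)
  have hsum : ∑ b ∈ F, (b ∩ u).card.choose j = u.card.choose j * m := by
    rw [sum_choose_inter, ← card_powersetCard, ← smul_eq_mul, ← sum_const]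
    refine sum_congr rfl fun S hS => ?_
    rw [mem_powersetCard] at hS
    have h1 := steiner_lambda h.like.steiner S (by omega)
    rw [hS.2, h.like.card24, hm] at h1
    exact Nat.eq_of_mul_eq_mul_right (Nat.choose_pos (by omega)) h1
  rw [← hsum, ← sum_fiberwise_of_maps_to (g := fun b => (b ∩ u).card) (t := range (u.card + 1))
    (fun b _ => mem_range.mpr (Nat.lt_succ_of_le (card_le_card inter_subset_right)))]
  refine sum_congr rfl fun i _ => ?_
  rw [sum_congr rfl (fun b hb => by rw [(mem_filter.mp hb).2]), sum_const, smul_eq_mul, mul_comm]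

theorem oddCount_eq (u : Finset α) :
    oddCount C u = ∑ i ∈ range (u.card + 1), if Odd i then
      ((blockSet (Cfsg.wordsOfWeight (C : Set (α → ZMod 2)) 8)).filter
        fun b => (b ∩ u).card = i).card else 0 := by
  rw [oddCount, card_eq_sum_card_fiberwise (f := fun b => (b ∩ u).card) (t := range (u.card + 1))
    (fun b _ => mem_coe.mpr (mem_range.mpr (Nat.lt_succ_of_le (card_le_card inter_subset_right))))]
  refine sum_congr rfl fun i _ => ?_
  split_ifs with hi
  · congr 1
    ext b
    simp only [mem_filter]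
    exact ⟨fun hb => ⟨hb.1.1, hb.2⟩, fun hb => ⟨⟨hb.1, hb.2 ▸ hi⟩, hb.2⟩⟩
  · rw [card_eq_zero, filter_eq_empty_iff]
    intro b hb e
    exact hi (e ▸ (mem_filter.mp hb).2)

theorem oddCount_one {u : Finset α} (hu : u.card = 1) : oddCount C u = 253 := by
  have h1 := h.inter_moments u 1 253 (by omega) (by decide)
  rw [h.oddCount_eq]
  rw [hu] at h1 ⊢
  simp only [sum_range_succ, sum_range_zero, Nat.choose] at h1
  simp [sum_range_succ, sum_range_zero, Nat.odd_iff]
  omega

theorem oddCount_two {u : Finset α} (hu : u.card = 2) : oddCount C u = 352 := by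
  have h1 := h.inter_moments u 1 253 (by omega) (by decide)
  have h2 := h.inter_moments u 2 77 (by omega) (by decide)
  rw [h.oddCount_eq]
  rw [hu] at h1 h2 ⊢
  simp only [sum_range_succ, sum_range_zero, Nat.choose] at h1 h2
  simp [sum_range_succ, sum_range_zero, Nat.odd_iff]
  omega

theorem oddCount_four {u : Finset α} (hu : u.card = 4) : oddCount C u = 384 := by
  have h1 := h.inter_moments u 1 253 (by omega) (by decide)
  have h2 := h.inter_moments u 2 77 (by omega) (by decide)
  have h3 := h.inter_moments u 3 21 (by omega) (by decide)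
  have h4 := h.inter_moments u 4 5 (by omega) (by decide)
  rw [h.oddCount_eq]
  rw [hu] at h1 h2 h3 h4 ⊢
  simp only [sum_range_succ, sum_range_zero, Nat.choose] at h1 h2 h3 h4
  simp [sum_range_succ, sum_range_zero, Nat.odd_iff]
  omega

/-- the functional of a set, restricted to the octads -/
theorem oddCount_congr {u v : Finset α}
    (e : ∀ c ∈ C, hammingNorm c = 8 → ∑ i ∈ u, c i = ∑ i ∈ v, c i) :
    oddCount C u = oddCount C v := by
  unfold oddCount
  congr 1
  refine filter_congr fun b hb => ?_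
  obtain ⟨⟨c, hc, rfl⟩, hb8⟩ := mem_blockSet.mp hb
  have := e c hc hb8
  rw [dot_sum, dot_sum] at this
  rw [← ZMod.natCast_eq_one_iff_odd, ← ZMod.natCast_eq_one_iff_odd]
  change ((sup2 c ∩ u).card : ZMod 2) = 1 ↔ ((sup2 c ∩ v).card : ZMod 2) = 1
  rw [this]

/-- a nonempty even set of size at most four gives a nonzero functional -/
theorem pair_sum_ne {u : Finset α} (hu : u.card = 2 ∨ u.card = 4) :
    ¬ ∀ c ∈ C, ∑ i ∈ u, c i = 0 := by
  intro e
  have h0 : oddCount C (∅ : Finset α) = 0 := by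
    rw [oddCount, card_eq_zero, filter_eq_empty_iff]
    intro b _
    simp
  have := h.oddCount_congr (u := u) (v := ∅) (fun c hc _ => by rw [e c hc]; simp)
  rcases hu with hu | hu
  · rw [h.oddCount_two hu] at this; omega
  · rw [h.oddCount_four hu] at this; omega

/-- every functional on the code killing the all-ones word has an even support of size `≤ 4` -/
theorem exists_small_support (f : C →ₗ[ZMod 2] ZMod 2) (hf : f ⟨_, h.one_mem⟩ = 0) :
    ∃ u : Finset α, (u.card = 0 ∨ u.card = 2 ∨ u.card = 4) ∧ ∀ c : C, f c = ∑ i ∈ u, (c : α → ZMod 2) i := by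
  obtain ⟨g, hg⟩ := LinearMap.exists_extend f
  set v : α → ZMod 2 := fun i => g (Pi.single i 1) with hv
  have hgv : ∀ w, g w = ∑ i, v i * w i := by
    intro w
    conv_lhs => rw [← Finset.univ_sum_single w]
    rw [map_sum]
    refine sum_congr rfl fun i _ => ?_
    rw [← mul_one (w i), ← smul_eq_mul, Pi.single_smul', map_smul, smul_eq_mul, mul_comm, hv]
    simp
  have hfc : ∀ c : C, f c = ∑ i, v i * (c : α → ZMod 2) i := fun c => by
    rw [← hgv, ← hg]; rfl
  obtain ⟨u, hu, hu4⟩ : ∃ u, u - v ∈ C ∧ hammingNorm u ≤ 4 := by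
    rcases h.like.coset_cases v with ⟨u, hu, hu3⟩ | ⟨S, hS6, hS⟩
    · exact ⟨u, hu, by omega⟩
    · obtain ⟨u, hu⟩ := card_pos.mp (by omega : 0 < S.card)
      exact ⟨u, ((hS u).mp hu).1, ((hS u).mp hu).2.le⟩
  have hfu : ∀ c : C, f c = ∑ i ∈ sup2 u, (c : α → ZMod 2) i := by
    intro c
    have h0 := h.orth _ hu _ c.2
    simp only [Pi.sub_apply, sub_mul, sum_sub_distrib, sub_eq_zero] at h0
    rw [hfc, ← h0, dot_eq_card, dot_sum, inter_comm]
  refine ⟨sup2 u, ?_, hfu⟩
  have := (hfu ⟨_, h.one_mem⟩).symm.trans hf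
  simp only [sum_const, nsmul_eq_mul, mul_one, ZMod.natCast_eq_zero_iff] at this
  rw [hammingNorm_eq_sup2] at hu4
  omega

/-- Rigidity: a linear bijection of the code fixing `1` and preserving octad classes comes from a
permutation, modulo `1`. -/
theorem exists_perm (y : C ≃ₗ[ZMod 2] C) (y1 : y ⟨_, h.one_mem⟩ = ⟨_, h.one_mem⟩)
    (horb : ∀ c : C, hammingNorm (c : α → ZMod 2) = 8 →
      hammingNorm (y c : α → ZMod 2) = 8 ∨ hammingNorm (y c : α → ZMod 2) = 16) :
    ∃ π : α → α, Function.Injective π ∧ ∀ (c : C) (a b : α),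
      (c : α → ZMod 2) (π a) + (c : α → ZMod 2) (π b) = (y c : α → ZMod 2) a + (y c : α → ZMod 2) b := by
  classical
  set one : C := ⟨_, h.one_mem⟩ with hone
  have key : ∀ a b, a ≠ b → ∃ u : Finset α, u.card = 2 ∧
      ∀ c : C, ∑ i ∈ u, (c : α → ZMod 2) i = (y c : α → ZMod 2) a + (y c : α → ZMod 2) b := by
    intro a b hab
    let f : C →ₗ[ZMod 2] ZMod 2 :=
      (((LinearMap.proj a : (α → ZMod 2) →ₗ[ZMod 2] ZMod 2) + LinearMap.proj b).comp
        C.subtype).comp y.toLinearMap
    have hfdef : ∀ c : C, f c = (y c : α → ZMod 2) a + (y c : α → ZMod 2) b := fun c => rfl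
    obtain ⟨u, hu, hfu⟩ := h.exists_small_support f (by rw [hfdef, y1]; rfl)
    refine ⟨u, ?_, fun c => by rw [← hfu, hfdef]⟩
    rcases hu with hu | hu | hu
    · exfalso
      refine h.pair_sum_ne (u := {a, b}) (Or.inl (card_pair hab)) fun c hc => ?_
      have := hfu (y.symm ⟨c, hc⟩)
      rw [hfdef, y.apply_symm_apply, card_eq_zero.mp hu, sum_empty] at this
      rw [sum_pair hab]; exact this
    · exact hu
    · exfalso
      let F := blockSet (Cfsg.wordsOfWeight (C : Set (α → ZMod 2)) 8)
      have hmem : ∀ b' ∈ F, word2 b' ∈ C ∧ hammingNorm (word2 b') = 8 := by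
        intro b' hb'
        obtain ⟨⟨c, hc, rfl⟩, hb8⟩ := mem_blockSet.mp hb'
        refine ⟨?_, by rw [hammingNorm_eq_sup2, sup2_word2]; exact hb8⟩
        show word2 (sup2 c) ∈ C
        rw [word2_sup2]; exact hc
      let img : C → C := fun c => if hammingNorm (y c : α → ZMod 2) = 8 then y c else y c + one
      let m : {b' // b' ∈ F} → {b' // b' ∈ F} := fun b' => ⟨sup2 (img ⟨_, (hmem _ b'.2).1⟩ : α → ZMod 2), by
        refine mem_blockSet.mpr ⟨⟨_, (img _).2, rfl⟩, ?_⟩
        simp only [img]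
        split_ifs with h8
        · exact h8
        · have h16 := (horb ⟨_, (hmem _ b'.2).1⟩ (hmem _ b'.2).2).resolve_left h8
          have := h.norm_add_one (y ⟨_, (hmem _ b'.2).1⟩ : α → ZMod 2)
          simp only [hone, Submodule.coe_add, ← hammingNorm_eq_sup2]
          omega⟩
      have hminj : Function.Injective m := by
        intro p q hpq
        have e : (img ⟨_, (hmem _ p.2).1⟩ : α → ZMod 2) = img ⟨_, (hmem _ q.2).1⟩ :=
          sup2_injective (congrArg Subtype.val hpq)
        have e' := Subtype.ext e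
        simp only [img] at e'
        have hdiff : ∀ cp cq : C, hammingNorm (cp : α → ZMod 2) = 8 →
            hammingNorm (cq : α → ZMod 2) = 8 → (y cp = y cq ∨ y cp = y cq + one ∨ y cp + one = y cq) →
            cp = cq := by
          intro cp cq hp hq hh
          rcases hh with hh | hh | hh
          · exact y.injective hh
          · exfalso
            rw [← y1, ← map_add] at hh
            have e2 := y.injective hh
            have := h.norm_add_one (cq : α → ZMod 2)
            have e3 : (cp : α → ZMod 2) = (cq : α → ZMod 2) + fun _ : α => (1 : ZMod 2) :=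
              congrArg Subtype.val e2
            rw [← e3] at this
            omega
          · exfalso
            rw [← y1, ← map_add] at hh
            have e2 := y.injective hh
            have := h.norm_add_one (cp : α → ZMod 2)
            have e3 : (cp : α → ZMod 2) + (fun _ : α => (1 : ZMod 2)) = (cq : α → ZMod 2) :=
              congrArg Subtype.val e2
            rw [e3] at this
            omega
        have hcases : y ⟨_, (hmem _ p.2).1⟩ = y ⟨_, (hmem _ q.2).1⟩ ∨
            y ⟨_, (hmem _ p.2).1⟩ = y ⟨_, (hmem _ q.2).1⟩ + one ∨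
            y ⟨_, (hmem _ p.2).1⟩ + one = y ⟨_, (hmem _ q.2).1⟩ := by
          split_ifs at e'
          · exact Or.inl e'
          · exact Or.inr (Or.inl e')
          · exact Or.inr (Or.inr e')
          · exact Or.inl (add_right_cancel e')
        have := congrArg (fun c : C => sup2 (c : α → ZMod 2))
          (hdiff _ _ (hmem _ p.2).2 (hmem _ q.2).2 hcases)
        simp only [sup2_word2] at this
        exact Subtype.ext this
      have hmbij := Finite.injective_iff_bijective.mp hminj
      have heq : oddCount C u = oddCount C {a, b} := by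
        have hcast : ∀ (s : Finset α) (b' : Finset α), Odd (b' ∩ s).card ↔
            ∑ i ∈ s, word2 b' i = 1 := by
          intro s b'
          rw [dot_sum, sup2_word2, ZMod.natCast_eq_one_iff_odd]
        have hfm : ∀ b' : {b' // b' ∈ F}, ∑ i ∈ ({a, b} : Finset α), word2 (m b').1 i =
            ∑ i ∈ u, word2 b'.1 i := by
          intro b'
          have h1 := hfu ⟨_, (hmem _ b'.2).1⟩
          rw [hfdef] at h1
          rw [sum_pair hab, ← h1]
          simp only [m, word2_sup2, img]
          split_ifs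
          · rfl
          · simp only [hone, Submodule.coe_add, Pi.add_apply]
            have h2 : (1 : ZMod 2) + 1 = 0 := rfl
            rw [add_add_add_comm, h2, add_zero]
        unfold oddCount
        refine card_bij (fun b' hb' => (m ⟨b', (mem_filter.mp hb').1⟩).1) ?_ ?_ ?_
        · intro b' hb'
          obtain ⟨hbF, hodd⟩ := mem_filter.mp hb'
          refine mem_filter.mpr ⟨(m ⟨b', hbF⟩).2, ?_⟩
          rw [hcast, hfm]; exact (hcast u b').mp hodd
        · intro p hp q hq e
          exact congrArg Subtype.val (hminj (Subtype.ext e))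
        · intro q hq
          obtain ⟨hqF, hodd⟩ := mem_filter.mp hq
          obtain ⟨p, hp⟩ := hmbij.2 ⟨q, hqF⟩
          refine ⟨p.1, mem_filter.mpr ⟨p.2, ?_⟩, by rw [Subtype.coe_eta, hp]⟩
          rw [hcast, ← hfm, hp]
          exact (hcast _ q).mp hodd
      rw [h.oddCount_four hu, h.oddCount_two (card_pair hab)] at heq
      omega
  choose Q hQ2 hQ using key
  obtain ⟨a0⟩ : Nonempty α := Fintype.card_pos_iff.mp (by rw [h.like.card24]; omega)
  have hF : ∀ b (hb : b ≠ a0) b' (hb' : b' ≠ a0), b ≠ b' → ∃ z w w', z ≠ w ∧ z ≠ w' ∧ w ≠ w' ∧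
      Q a0 b hb.symm = {z, w} ∧ Q a0 b' hb'.symm = {z, w'} := by
    intro b hb b' hb' hne
    have hadd : ∀ c : C, ∑ i ∈ Q a0 b hb.symm, (c : α → ZMod 2) i +
        ∑ i ∈ Q a0 b' hb'.symm, (c : α → ZMod 2) i = ∑ i ∈ Q b b' hne, (c : α → ZMod 2) i := by
      intro c
      rw [hQ, hQ, hQ, add_add_add_comm, CharTwo.add_self_eq_zero, zero_add]
    have hi : (Q a0 b hb.symm ∩ Q a0 b' hb'.symm).card = 1 := by
      have hle := (card_le_card (inter_subset_left (s₁ := Q a0 b hb.symm) (s₂ := Q a0 b' hb'.symm))).trans_eq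
        (hQ2 a0 b hb.symm)
      by_contra h1
      rcases (show (Q a0 b hb.symm ∩ Q a0 b' hb'.symm).card = 0 ∨
          (Q a0 b hb.symm ∩ Q a0 b' hb'.symm).card = 2 by omega) with h0 | h0
      · have hd := card_symmDiff_add (Q a0 b hb.symm) (Q a0 b' hb'.symm)
        rw [h0, hQ2, hQ2] at hd
        have := h.oddCount_congr (u := symmDiff (Q a0 b hb.symm) (Q a0 b' hb'.symm))
          (v := Q b b' hne) (fun c hc _ => (sum_symmDiff2 _ _ c).trans (hadd ⟨c, hc⟩))
        rw [h.oddCount_four (by omega), h.oddCount_two (hQ2 _ _ _)] at this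
        omega
      · refine h.pair_sum_ne (Or.inl (hQ2 b b' hne)) fun c hc => ?_
        have e1 := eq_of_subset_of_card_le inter_subset_left (by rw [h0, hQ2] :
          (Q a0 b hb.symm).card ≤ (Q a0 b hb.symm ∩ Q a0 b' hb'.symm).card)
        have e2 := eq_of_subset_of_card_le inter_subset_right (by rw [h0, hQ2] :
          (Q a0 b' hb'.symm).card ≤ (Q a0 b hb.symm ∩ Q a0 b' hb'.symm).card)
        rw [← hadd ⟨c, hc⟩, e1.symm.trans e2]
        exact CharTwo.add_self_eq_zero _
    obtain ⟨z, hz⟩ := card_eq_one.mp hi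
    have hz1 : z ∈ Q a0 b hb.symm ∧ z ∈ Q a0 b' hb'.symm := mem_inter.mp (hz ▸ mem_singleton_self z)
    obtain ⟨w, hw, hwz⟩ := exists_mem_ne (by rw [hQ2]; omega : 1 < (Q a0 b hb.symm).card) z
    obtain ⟨w', hw', hwz'⟩ := exists_mem_ne (by rw [hQ2]; omega : 1 < (Q a0 b' hb'.symm).card) z
    refine ⟨z, w, w', hwz.symm, hwz'.symm, ?_, ?_, ?_⟩
    · rintro rfl
      have := mem_inter.mpr ⟨hw, hw'⟩
      rw [hz] at this
      exact hwz (mem_singleton.mp this)
    · exact (eq_of_subset_of_card_le (by simp [insert_subset_iff, hz1.1, hw])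
        (by rw [hQ2, card_pair hwz.symm])).symm
    · exact (eq_of_subset_of_card_le (by simp [insert_subset_iff, hz1.2, hw'])
        (by rw [hQ2, card_pair hwz'.symm])).symm
  obtain ⟨b1, hb1⟩ := Fintype.exists_ne_of_one_lt_card (by rw [h.like.card24]; omega) a0
  obtain ⟨b2, hb2, hb12⟩ : ∃ b2, b2 ≠ a0 ∧ b2 ≠ b1 := by
    obtain ⟨x, hx⟩ := card_pos.mp (by
      have := card_le_two (a := a0) (b := b1)
      rw [card_sdiff_of_subset (subset_univ _), card_univ, h.like.card24]
      omega : 0 < (univ \ ({a0, b1} : Finset α)).card)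
    simp at hx
    exact ⟨x, hx⟩
  obtain ⟨z, w1, w2, hzw1, hzw2, hw12, eq1, eq2⟩ := hF b1 hb1 b2 hb2 hb12.symm
  have hcenter : ∀ b (hb : b ≠ a0), z ∈ Q a0 b hb.symm := by
    intro b hb
    by_cases e1 : b = b1
    · subst e1; rw [eq1]; simp
    by_cases e2 : b = b2
    · subst e2; rw [eq2]; simp
    by_contra hz
    obtain ⟨p, q, r, hpq, hpr, hqr, f1, f2⟩ := hF b hb b1 hb1 e1
    obtain ⟨p', q', r', hpq', hpr', hqr', g1, g2⟩ := hF b hb b2 hb2 e2
    have hp : p = w1 := by
      have h1 : p ∈ Q a0 b1 hb1.symm := by rw [f2]; simp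
      have h2 : p ∈ Q a0 b hb.symm := by rw [f1]; simp
      rw [eq1] at h1; simp only [mem_insert, mem_singleton] at h1
      exact h1.resolve_left (fun e => hz (e ▸ h2))
    have hp' : p' = w2 := by
      have h1 : p' ∈ Q a0 b2 hb2.symm := by rw [g2]; simp
      have h2 : p' ∈ Q a0 b hb.symm := by rw [g1]; simp
      rw [eq2] at h1; simp only [mem_insert, mem_singleton] at h1
      exact h1.resolve_left (fun e => hz (e ▸ h2))
    have hQb : Q a0 b hb.symm = {w1, w2} := by
      refine (eq_of_subset_of_card_le ?_ (by rw [hQ2, card_pair hw12])).symm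
      have a1 : w1 ∈ Q a0 b hb.symm := by rw [f1, ← hp]; simp
      have a2 : w2 ∈ Q a0 b hb.symm := by rw [g1, ← hp']; simp
      simp [insert_subset_iff, a1, a2]
    refine h.pair_sum_ne (u := {a0, b, b1, b2}) (Or.inr ?_) fun c hc => ?_
    · rw [card_insert_of_notMem (by simp [hb.symm, hb1.symm, hb2.symm]),
        card_eq_three.mpr ⟨b, b1, b2, e1, e2, hb12.symm, rfl⟩]
    · have t0 := hQ a0 b hb.symm (y.symm ⟨c, hc⟩)
      have t1 := hQ a0 b1 hb1.symm (y.symm ⟨c, hc⟩)
      have t2 := hQ a0 b2 hb2.symm (y.symm ⟨c, hc⟩)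
      rw [y.apply_symm_apply] at t0 t1 t2
      rw [hQb, sum_pair hw12] at t0
      rw [eq1, sum_pair hzw1] at t1
      rw [eq2, sum_pair hzw2] at t2
      rw [sum_insert (by simp [hb.symm, hb1.symm, hb2.symm]), sum_insert (by simp [e1, e2]),
        sum_pair hb12.symm]
      have hz2 : ∀ a b d e f g i : ZMod 2, f + g = a + b → e + f = a + d → e + g = a + i →
          a + (b + (d + i)) = 0 := by decide
      exact hz2 _ _ _ _ _ _ _ t0 t1 t2
  have hother : ∀ b (hb : b ≠ a0), ∃ w, w ≠ z ∧ Q a0 b hb.symm = {z, w} := by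
    intro b hb
    obtain ⟨w, hw, hwz⟩ := exists_mem_ne (by rw [hQ2]; omega : 1 < (Q a0 b hb.symm).card) z
    exact ⟨w, hwz, (eq_of_subset_of_card_le (by simp [insert_subset_iff, hcenter b hb, hw])
      (by rw [hQ2, card_pair hwz.symm])).symm⟩
  choose g hgz hg using hother
  refine ⟨fun b => if hb : b = a0 then z else g b hb, ?_, ?_⟩
  · intro p q hpq
    simp only at hpq
    split_ifs at hpq with hp hq hq
    · rw [hp, hq]
    · exact absurd hpq.symm (hgz q hq)
    · exact absurd hpq (hgz p hp)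
    · by_contra hne
      obtain ⟨z', w, w', hz'w, hz'w', hww', f1, f2⟩ := hF p hp q hq hne
      rw [hg p hp] at f1
      rw [hg q hq] at f2
      rw [← hpq] at f2
      have : ({z', w} : Finset α) = {z', w'} := f1.symm.trans f2
      have hw : w ∈ ({z', w'} : Finset α) := by rw [← this]; simp
      simp [hz'w.symm, hww'] at hw
  · intro c a b
    have hbase : ∀ p, (c : α → ZMod 2) z + (c : α → ZMod 2) (if hp : p = a0 then z else g p hp) =
        (y c : α → ZMod 2) a0 + (y c : α → ZMod 2) p := by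
      intro p
      by_cases hp : p = a0
      · subst hp; simp [CharTwo.add_self_eq_zero]
      · rw [dif_neg hp, ← sum_pair (hgz p hp).symm, ← hg p hp, hQ]
    have e1 := hbase a
    have e2 := hbase b
    have hz2 : ∀ z A B a0 a b : ZMod 2, z + A = a0 + a → z + B = a0 + b → A + B = a + b := by decide
    exact hz2 _ _ _ _ _ _ e1 e2

end GolayFullLike

theorem mathieu_rigidity (h : GolayFullLike Cfsg.golayCode)
    (X : Subgroup (↥Cfsg.golayCode ≃ₗ[ZMod 2] ↥Cfsg.golayCode))
    (h1 : ∀ x ∈ X, ∀ e : ↥Cfsg.golayCode,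
      (e : Cfsg.GolayPt → ZMod 2) = (fun _ => (1 : ZMod 2)) → x e = e)
    (horb : ∀ x ∈ X, ∀ c : ↥Cfsg.golayCode, ∃ σ ∈ Cfsg.M24,
      ((x c : ↥Cfsg.golayCode) : Cfsg.GolayPt → ZMod 2) =
        (fun p => (c : Cfsg.GolayPt → ZMod 2) (σ.symm p)) ∨
      ((x c : ↥Cfsg.golayCode) : Cfsg.GolayPt → ZMod 2) =
        (fun p => (c : Cfsg.GolayPt → ZMod 2) (σ.symm p)) + fun _ => (1 : ZMod 2))
    (x : ↥Cfsg.golayCode ≃ₗ[ZMod 2] ↥Cfsg.golayCode) (hx : x ∈ X) :
    ∃ σ ∈ Cfsg.M24, ∀ c : ↥Cfsg.golayCode,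
      ((x c : ↥Cfsg.golayCode) : Cfsg.GolayPt → ZMod 2) =
        (fun p => (c : Cfsg.GolayPt → ZMod 2) (σ.symm p)) ∨
      ((x c : ↥Cfsg.golayCode) : Cfsg.GolayPt → ZMod 2) =
        (fun p => (c : Cfsg.GolayPt → ZMod 2) (σ.symm p)) + fun _ => (1 : ZMod 2) := by
  obtain ⟨π, hπ, hπc⟩ := h.exists_perm x⁻¹ (h1 _ (X.inv_mem hx) _ rfl) (fun c hc => by
    obtain ⟨σ, -, hh⟩ := horb _ (X.inv_mem hx) c
    have e : hammingNorm (fun p => (c : Cfsg.GolayPt → ZMod 2) (σ.symm p)) = 8 := by
      rw [← hc, hammingNorm_eq_sup2, hammingNorm_eq_sup2, ← card_map σ.toEmbedding (s := sup2 (c : Cfsg.GolayPt → ZMod 2))]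
      congr 1
      ext p
      simp [mem_sup2]
    rcases hh with hh | hh <;> rw [hh]
    · exact Or.inl e
    · right
      have := h.norm_add_one (fun p => (c : Cfsg.GolayPt → ZMod 2) (σ.symm p))
      omega)
  let σ : Equiv.Perm Cfsg.GolayPt := Equiv.ofBijective π (Finite.injective_iff_bijective.mp hπ)
  have hdiff : ∀ c : ↥Cfsg.golayCode,
      ((x c : ↥Cfsg.golayCode) : Cfsg.GolayPt → ZMod 2) =
        (fun p => (c : Cfsg.GolayPt → ZMod 2) (σ.symm p)) ∨
      ((x c : ↥Cfsg.golayCode) : Cfsg.GolayPt → ZMod 2) =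
        (fun p => (c : Cfsg.GolayPt → ZMod 2) (σ.symm p)) + fun _ => (1 : ZMod 2) := by
    intro c
    have hinv : x⁻¹ (x c) = c := x.symm_apply_apply c
    have hk : ∀ p q, (x c : Cfsg.GolayPt → ZMod 2) p + (c : Cfsg.GolayPt → ZMod 2) (σ.symm p) =
        (x c : Cfsg.GolayPt → ZMod 2) q + (c : Cfsg.GolayPt → ZMod 2) (σ.symm q) := by
      intro p q
      have := hπc (x c) (σ.symm p) (σ.symm q)
      rw [hinv, show π (σ.symm p) = p from σ.apply_symm_apply p,
        show π (σ.symm q) = q from σ.apply_symm_apply q] at this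
      have hz : ∀ a b c d : ZMod 2, a + b = c + d → a + c = b + d := by decide
      exact hz _ _ _ _ this
    rcases zmod2_cases ((x c : Cfsg.GolayPt → ZMod 2) none +
      (c : Cfsg.GolayPt → ZMod 2) (σ.symm none)) with h0 | h0
    · left
      funext p
      have hz : ∀ a b : ZMod 2, a + b = 0 → a = b := by decide
      exact hz _ _ (by rw [hk p none, h0])
    · right
      funext p
      have hz : ∀ a b : ZMod 2, a + b = 1 → a = b + 1 := by decide
      exact hz _ _ (by rw [hk p none, h0])
  refine ⟨σ, H95.mem_M24_of_code fun w hw => ?_, hdiff⟩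
  rcases hdiff ⟨w, hw⟩ with e | e
  · rw [← e]; exact (x ⟨w, hw⟩).2
  · have := Cfsg.golayCode.add_mem (x ⟨w, hw⟩).2 h.one_mem
    rwa [e, add_assoc, add_self2, add_zero] at this

end H94
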