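import Cfsg.Agent.H90.Code
import Cfsg.Agent.H94.CodeDuality

set_option autoImplicit false

namespace H94

theorem card_golayPt : Fintype.card Cfsg.GolayPt = 24 := by simp [Cfsg.GolayPt]

theorem golay_like : GolayLike Cfsg.golayCode :=
  ⟨card_golayPt, H90.finrank_golayCode, fun _ hw h0 => H90.eight_le_weight hw h0⟩

theorem golay_full : GolayFullLike Cfsg.golayCode :=
  ⟨golay_like, fun v hv w hw => H90.self_orthogonal v w hv hw,
    Submodule.subset_span (Or.inr rfl)⟩

end H94
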