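import Cfsg.Agent.H94.Classes

/-!
Fixed points and invariant objects of an element of `M24`.
-/

set_option autoImplicit false

namespace H94

open Cfsg
open scoped Pointwise

theorem card_fix_of_reps {P : ℕ} {g : Equiv.Perm GolayPt} (hR : Reps P g) :
    (Finset.univ.filter fun p => g p = p).card =
      ((List.range 24).filter fun i => Nat.beq (pap P i) i).length := by
  rw [← List.toFinset_card_of_nodup (List.nodup_range.filter _)]
  refine Finset.card_bij (fun p _ => idxN p) (fun p hp => ?_)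
    (fun p _ q _ e => idxN_injective e) (fun i hi => ?_)
  · rw [Finset.mem_filter] at hp
    rw [List.mem_toFinset, List.mem_filter]
    refine ⟨List.mem_range.mpr (idxN_lt p), ?_⟩
    rw [hR _ (idxN_lt p), ptN_idxN, hp.2]
    exact Nat.beq_refl _
  · rw [List.mem_toFinset, List.mem_filter, List.mem_range] at hi
    refine ⟨ptN i, Finset.mem_filter.mpr ⟨Finset.mem_univ _, idxN_injective ?_⟩, idxN_ptN hi.1⟩
    rw [← hR _ hi.1, Nat.eq_of_beq_eq_true hi.2, idxN_ptN hi.1]

theorem card_fix_conj (g u : Equiv.Perm GolayPt) :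
    (Finset.univ.filter fun p => (u * g * u⁻¹) p = p).card =
      (Finset.univ.filter fun p => g p = p).card := by
  rw [← Finset.card_map (f := u.toEmbedding) (s := Finset.univ.filter fun p => g p = p)]
  congr 1
  ext p
  rw [Finset.mem_filter, Finset.mem_map]
  constructor
  · rintro ⟨-, h⟩
    refine ⟨u⁻¹ p, Finset.mem_filter.mpr ⟨Finset.mem_univ _, u.injective ?_⟩, ?_⟩
    · rw [Equiv.Perm.mul_apply, Equiv.Perm.mul_apply] at h
      rw [h, Equiv.Perm.inv_def, Equiv.apply_symm_apply]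
    · show u (u⁻¹ p) = p
      rw [Equiv.Perm.inv_def, Equiv.apply_symm_apply]
  · rintro ⟨q, hq, rfl⟩
    refine ⟨Finset.mem_univ _, ?_⟩
    rw [Finset.mem_filter] at hq
    show (u * g * u⁻¹) (u q) = u q
    rw [Equiv.Perm.mul_apply, Equiv.Perm.mul_apply, Equiv.Perm.inv_def, Equiv.symm_apply_apply, hq.2]

/-- number of fixed positions -/
def fixCount (P : ℕ) : ℕ := ((List.range 24).filter fun i => Nat.beq (pap P i) i).length

theorem fixCount_reps : fixCount rep3six = 6 ∧ fixCount rep3free = 0 ∧ fixCount rep2eight = 8 ∧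
    fixCount rep2free = 0 := by decide +kernel

theorem class_three_fix {g : Equiv.Perm GolayPt} (hg : g ∈ M24) (h3 : orderOf g = 3) :
    ((Finset.univ.filter fun p => g p = p).card = 6 ∧ ∃ u ∈ M24, Reps rep3six (u * g * u⁻¹)) ∨
    ((Finset.univ.filter fun p => g p = p).card = 0 ∧ ∃ u ∈ M24, Reps rep3free (u * g * u⁻¹)) := by
  obtain ⟨r, hr, u, hu, hR⟩ := class_three hg (h3 ▸ pow_orderOf_eq_one g)
    (fun e => by rw [e, orderOf_one] at h3; omega)
  have hc := card_fix_of_reps hR
  rw [card_fix_conj] at hc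
  simp only [List.mem_cons, List.not_mem_nil, or_false] at hr
  rcases hr with rfl | rfl
  · exact Or.inl ⟨hc.trans fixCount_reps.1, u, hu, hR⟩
  · exact Or.inr ⟨hc.trans fixCount_reps.2.1, u, hu, hR⟩

theorem class_two_fix {g : Equiv.Perm GolayPt} (hg : g ∈ M24) (h2 : orderOf g = 2) :
    ((Finset.univ.filter fun p => g p = p).card = 8 ∧ ∃ u ∈ M24, Reps rep2eight (u * g * u⁻¹)) ∨
    ((Finset.univ.filter fun p => g p = p).card = 0 ∧ ∃ u ∈ M24, Reps rep2free (u * g * u⁻¹)) := by
  obtain ⟨r, hr, u, hu, hR⟩ := class_two hg (h2 ▸ pow_orderOf_eq_one g)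
    (fun e => by rw [e, orderOf_one] at h2; omega)
  have hc := card_fix_of_reps hR
  rw [card_fix_conj] at hc
  simp only [List.mem_cons, List.not_mem_nil, or_false] at hr
  rcases hr with rfl | rfl
  · exact Or.inl ⟨hc.trans fixCount_reps.2.2.1, u, hu, hR⟩
  · exact Or.inr ⟨hc.trans fixCount_reps.2.2.2, u, hu, hR⟩

theorem card_fix_zero {g : Equiv.Perm GolayPt} (h : ∀ p, g p ≠ p) :
    (Finset.univ.filter fun p => g p = p).card = 0 := by
  rw [Finset.card_eq_zero, Finset.filter_eq_empty_iff]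
  exact fun p _ => h p

theorem ncard_fixed_conj {β : Type*} [MulAction (Equiv.Perm GolayPt) β] (X : Set β)
    (hX : ∀ k ∈ M24, ∀ x ∈ X, k • x ∈ X) (g : Equiv.Perm GolayPt) {u : Equiv.Perm GolayPt}
    (hu : u ∈ M24) :
    {x | x ∈ X ∧ (u * g * u⁻¹) • x = x}.ncard = {x | x ∈ X ∧ g • x = x}.ncard := by
  rw [← Set.ncard_smul_set u {x | x ∈ X ∧ g • x = x}]
  congr 1
  ext x
  rw [Set.mem_smul_set_iff_inv_smul_mem, Set.mem_ofPred_eq, Set.mem_ofPred_eq, mul_smul, mul_smul,
    eq_inv_smul_iff]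
  exact and_congr_left fun _ => ⟨fun h => hX _ (M24.inv_mem hu) _ h,
    fun h => by simpa using hX u hu _ h⟩

/-- invariant masks in a list -/
noncomputable def fixMasks (P : ℕ) (L : List ℕ) : List ℕ := L.filter fun m => Nat.beq (pmask P m) m

/-- invariant families in a list of keys -/
noncomputable def fixFams (P n : ℕ) (L : List ℕ) : List ℕ :=
  L.filter fun x => sameB ((parts n x).map (pmask P)) (parts n x)

theorem ncard_fix_masks (X : Set (Finset GolayPt)) (L : List ℕ) (hnd : L.Nodup)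
    (hlt : ∀ m ∈ L, m < 2 ^ 24) (hX : ∀ s, s ∈ X ↔ ∃ m ∈ L, H90.setOf' m = s)
    {P : ℕ} {g : Equiv.Perm GolayPt} (hR : Reps P g) :
    {o | o ∈ X ∧ g • o = o}.ncard = (fixMasks P L).length := by
  rw [show {o | o ∈ X ∧ g • o = o} = ↑((fixMasks P L).toFinset.image H90.setOf') by
    ext o
    simp only [fixMasks, Set.mem_ofPred_eq, Finset.coe_image, List.coe_toFinset, Set.mem_image,
      List.mem_filter, hX o]
    constructor
    · rintro ⟨⟨m, hm, rfl⟩, hgo⟩
      refine ⟨m, ⟨hm, ?_⟩, rfl⟩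
      rw [H90.setOf'_injOn (hR.pmask_lt m) (hlt m hm) (by rw [hR.setOf', hgo])]
      exact Nat.beq_refl _
    · rintro ⟨m, ⟨hm, hb⟩, rfl⟩
      exact ⟨⟨m, hm, rfl⟩, by rw [← hR.setOf', Nat.eq_of_beq_eq_true hb]⟩,
    Set.ncard_coe_finset, Finset.card_image_of_injOn]
  · exact List.toFinset_card_of_nodup (hnd.filter _)
  · intro a ha b hb e
    simp only [fixMasks, List.coe_toFinset, Set.mem_ofPred_eq, List.mem_filter] at ha hb
    exact H90.setOf'_injOn (hlt a ha.1) (hlt b hb.1) e

theorem ncard_fix_fams (n : ℕ) (L : List ℕ) (hnd : L.Nodup) (hcan : ∀ x ∈ L, canB n x = true)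
    (X : Set (Finset (Finset GolayPt))) (hX : ∀ S, S ∈ X ↔ ∃ x ∈ L, famOf n x = S)
    {P : ℕ} {g : Equiv.Perm GolayPt} (hR : Reps P g) :
    {S | S ∈ X ∧ g • S = S}.ncard = (fixFams P n L).length := by
  have key : ∀ x, g • famOf n x = famOf n x ↔
      sameB ((parts n x).map (pmask P)) (parts n x) = true := by
    intro x
    rw [famOf, ← famList_smul hR, famList_eq_iff (fun m hm => ?_) (parts_lt n x)]
    obtain ⟨m', -, rfl⟩ := List.mem_map.mp hm
    exact hR.pmask_lt m'
  rw [show {S | S ∈ X ∧ g • S = S} = ↑((fixFams P n L).toFinset.image (famOf n)) by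
    ext S
    simp only [fixFams, Set.mem_ofPred_eq, Finset.coe_image, List.coe_toFinset, Set.mem_image,
      List.mem_filter, hX S]
    constructor
    · rintro ⟨⟨x, hx, rfl⟩, hgS⟩
      exact ⟨x, ⟨hx, (key x).mp hgS⟩, rfl⟩
    · rintro ⟨x, ⟨hx, hb⟩, rfl⟩
      exact ⟨⟨x, hx, rfl⟩, (key x).mpr hb⟩,
    Set.ncard_coe_finset, Finset.card_image_of_injOn]
  · exact List.toFinset_card_of_nodup (hnd.filter _)
  · intro a ha b hb e
    simp only [fixFams, List.coe_toFinset, Set.mem_ofPred_eq, List.mem_filter] at ha hb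
    exact famOf_injOn (hcan a ha.1) (hcan b hb.1) e

theorem trio_canB : ∀ x ∈ trioList, canB 3 x = true := fun x hx => by
  have hok := trioList_ok
  rw [Bool.and_eq_true] at hok
  have := List.all_eq_true.mp hok.1 x hx
  simp only [trioB, Bool.and_eq_true] at this
  exact this.1.1

theorem sext_canB : ∀ x ∈ sextList, canB 6 x = true := fun x hx => by
  have hok := sextList_ok
  rw [Bool.and_eq_true] at hok
  have := List.all_eq_true.mp hok.1 x hx
  simp only [sextB, Bool.and_eq_true] at this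
  exact this.1.1

section Transport
variable {g u : Equiv.Perm GolayPt} {P : ℕ}

theorem ncard_inv_octads (hu : u ∈ M24) (hR : Reps P (u * g * u⁻¹)) :
    {o | o ∈ octads ∧ g • o = o}.ncard = (fixMasks P octList).length :=
  (ncard_fixed_conj octads (fun _ hk _ hx => smul_mem_octads hk hx) g hu).symm.trans
    (ncard_fix_masks octads octList octList_nodup (fun _ h => (mem_octList_lt h).1)
      (fun _ => mem_octads_iff) hR)

theorem ncard_inv_dodecads (hu : u ∈ M24) (hR : Reps P (u * g * u⁻¹)) :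
    {d | d ∈ dodecads ∧ g • d = d}.ncard = (fixMasks P dodList).length :=
  (ncard_fixed_conj dodecads (fun _ hk _ hx => smul_mem_dodecads hk hx) g hu).symm.trans
    (ncard_fix_masks dodecads dodList dodList_nodup (fun _ h => (mem_dodList h).1)
      (fun _ => mem_dodecads_iff) hR)

theorem ncard_inv_trios (hu : u ∈ M24) (hR : Reps P (u * g * u⁻¹)) :
    {S | S ∈ trios ∧ g • S = S}.ncard = (fixFams P 3 trioList).length :=
  (ncard_fixed_conj trios (fun _ hk _ hx => smul_mem_trios hk hx) g hu).symm.trans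
    (ncard_fix_fams 3 trioList trioList_nodup trio_canB trios (fun _ => mem_trios_iff) hR)

theorem ncard_inv_sextets (hu : u ∈ M24) (hR : Reps P (u * g * u⁻¹)) :
    {S | S ∈ sextets ∧ g • S = S}.ncard = (fixFams P 6 sextList).length :=
  (ncard_fixed_conj sextets (fun _ hk _ hx => smul_mem_sextets hk hx) g hu).symm.trans
    (ncard_fix_fams 6 sextList sextList_nodup sext_canB sextets (fun _ => mem_sextets_iff) hR)

end Transport

end H94
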