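import Cfsg.Agent.H94.Perm

/-! Elements commuting with the fixed-point-free involution, moving position 0 everywhere. -/

set_option autoImplicit false

namespace H94

def centTrans : List ℕ := [
  984818244535754528103549039458486304, 721091104923814455432065088565118977, 967616069900692509306086327477895266,
  714286430768822649131667335214563395, 680731527416121019254444321532838052, 890833397242247995994386570063937669,
  419913589459577900130284404819919142, 636802404342332032581792187216331303, 518885302278633742699944949456077448,
  294200487664326034840870415721595081, 342251225727600704625858819588653802, 417469885915788235804915319313631947,
  795241923014907750746930096338141644, 607931921268687335259252288024248813, 754811666697155593232481539917382030,
  177252086803606121356833027463872943, 315645176149169009179980936173879888, 861412535280477861155743275337941233,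
  983154871146452415516094146998731282, 436740340566311424412796108941591219, 224874296888505790465785602288681236,
  729696660689009949602865389756252789, 291518465815324438689451424440486262, 562722247206445354187342115866968407]

def centSextet : ℕ := 11326128774249486121518165213125069223494220

end H94
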