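import Cfsg.Agent.H94.Chain
import Cfsg.Agent.H94.ObjectData
import Cfsg.Agent.H94.Fast
import Cfsg.Agent.H94.GolayFacts
import Cfsg.Prelude.Def_SporadicCombinatorics

/-!
The complete lists of octads, trios and sextets.
-/

set_option autoImplicit false

namespace H94

open Cfsg
open scoped Pointwise

/-- strictly increasing -/
def incrB : List ℕ → Bool
  | [] => true
  | [_] => true
  | a :: b :: l => Nat.blt a b && incrB (b :: l)

theorem incrB_pairwise : ∀ l : List ℕ, incrB l = true → l.Pairwise (· < ·)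
  | [], _ => List.Pairwise.nil
  | [a], _ => by simp
  | a :: b :: l, h => by
    rw [incrB, Bool.and_eq_true] at h
    have ih := incrB_pairwise (b :: l) h.2
    refine List.pairwise_cons.mpr ⟨?_, ih⟩
    intro x hx
    rcases List.mem_cons.mp hx with rfl | hx
    · exact Nat.le_of_ble_eq_true h.1
    · exact lt_trans (Nat.le_of_ble_eq_true h.1) ((List.pairwise_cons.mp ih).1 x hx)

theorem incrB_nodup {l : List ℕ} (h : incrB l = true) : l.Nodup :=
  (incrB_pairwise l h).imp Nat.ne_of_lt

/-- the members encoded in a key -/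
def parts : ℕ → ℕ → List ℕ
  | 0, _ => []
  | n + 1, x => Nat.land x 16777215 :: parts n (Nat.shiftRight x 24)

theorem parts_def (n x : ℕ) : parts (n + 1) x = x % 2 ^ 24 :: parts n (x / 2 ^ 24) := by
  show (x &&& 16777215) :: parts n (x >>> 24) = _
  rw [show (16777215 : ℕ) = 2 ^ 24 - 1 from rfl, Nat.and_two_pow_sub_one_eq_mod,
    Nat.shiftRight_eq_div_pow]

theorem parts_lt : ∀ n x, ∀ m ∈ parts n x, m < 2 ^ 24
  | 0, x, m, hm => by simp [parts] at hm
  | n + 1, x, m, hm => by
    rw [parts_def, List.mem_cons] at hm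
    rcases hm with rfl | hm
    · exact Nat.mod_lt _ (by norm_num)
    · exact parts_lt n _ m hm

theorem parts_inj : ∀ n x y, x < 2 ^ (24 * n) → y < 2 ^ (24 * n) → parts n x = parts n y → x = y
  | 0, x, y, hx, hy, _ => by simp at hx hy; omega
  | n + 1, x, y, hx, hy, h => by
    rw [parts_def, parts_def, List.cons.injEq] at h
    rw [show 24 * (n + 1) = 24 * n + 24 by ring, pow_add] at hx hy
    have := parts_inj n _ _ ((Nat.div_lt_iff_lt_mul (by norm_num)).mpr hx)
      ((Nat.div_lt_iff_lt_mul (by norm_num)).mpr hy) h.2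
    omega

theorem parts_cons {n m y : ℕ} (hm : m < 2 ^ 24) : parts (n + 1) (m + 2 ^ 24 * y) = m :: parts n y := by
  rw [parts_def, Nat.add_mul_mod_self_left, Nat.mod_eq_of_lt hm,
    Nat.add_mul_div_left _ _ (by norm_num : 0 < 2 ^ 24), Nat.div_eq_of_lt hm, zero_add]

/-- the key is canonical: `n` members in increasing order and nothing above -/
def canB (n x : ℕ) : Bool := Nat.blt x (2 ^ (24 * n)) && incrB (parts n x)

/-- the family encoded by a list of masks -/
def famList (L : List ℕ) : Finset (Finset GolayPt) := L.toFinset.image H90.setOf'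

/-- the family encoded by a key -/
def famOf (n x : ℕ) : Finset (Finset GolayPt) := famList (parts n x)

theorem mem_famList {L : List ℕ} {s : Finset GolayPt} :
    s ∈ famList L ↔ ∃ m ∈ L, H90.setOf' m = s := by simp [famList]

theorem famList_smul {P : ℕ} {g : Equiv.Perm GolayPt} (h : Reps P g) (L : List ℕ) :
    famList (L.map (pmask P)) = g • famList L := by
  ext s
  simp only [mem_famList, List.mem_map, Finset.mem_smul_finset]
  constructor
  · rintro ⟨_, ⟨m, hm, rfl⟩, rfl⟩
    exact ⟨H90.setOf' m, ⟨m, hm, rfl⟩, (h.setOf' m).symm⟩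
  · rintro ⟨_, ⟨m, hm, rfl⟩, rfl⟩
    exact ⟨_, ⟨m, hm, rfl⟩, h.setOf' m⟩

/-- two lists of masks give the same family -/
def sameB (L L' : List ℕ) : Bool :=
  L.all (fun a => L'.any (Nat.beq a)) && L'.all (fun a => L.any (Nat.beq a))

theorem any_beq_iff (L : List ℕ) (a : ℕ) : L.any (Nat.beq a) = true ↔ a ∈ L := by
  rw [List.any_eq_true]
  exact ⟨fun ⟨b, hb, h⟩ => Nat.eq_of_beq_eq_true h ▸ hb, fun h => ⟨a, h, Nat.beq_refl a⟩⟩

theorem sameB_iff (L L' : List ℕ) : sameB L L' = true ↔ ∀ a, a ∈ L ↔ a ∈ L' := by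
  simp only [sameB, Bool.and_eq_true, List.all_eq_true, any_beq_iff]
  exact ⟨fun h a => ⟨h.1 a, h.2 a⟩, fun h => ⟨fun a => (h a).1, fun a => (h a).2⟩⟩

theorem famList_eq_iff {L L' : List ℕ} (hL : ∀ m ∈ L, m < 2 ^ 24) (hL' : ∀ m ∈ L', m < 2 ^ 24) :
    famList L = famList L' ↔ sameB L L' = true := by
  rw [sameB_iff]
  constructor
  · intro h a
    constructor
    · intro ha
      obtain ⟨b, hb, e⟩ := mem_famList.mp (h ▸ mem_famList.mpr ⟨a, ha, rfl⟩)
      exact H90.setOf'_injOn (hL' b hb) (hL a ha) e ▸ hb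
    · intro ha
      obtain ⟨b, hb, e⟩ := mem_famList.mp (h ▸ mem_famList.mpr ⟨a, ha, rfl⟩)
      exact H90.setOf'_injOn (hL b hb) (hL' a ha) e ▸ hb
  · intro h
    ext s
    simp only [mem_famList, h]

theorem famOf_injOn {n x y : ℕ} (hx : canB n x = true) (hy : canB n y = true)
    (h : famOf n x = famOf n y) : x = y := by
  rw [canB, Bool.and_eq_true] at hx hy
  have hs := (sameB_iff _ _).mp ((famList_eq_iff (parts_lt n x) (parts_lt n y)).mp h)
  refine parts_inj n x y (Nat.le_of_ble_eq_true hx.1) (Nat.le_of_ble_eq_true hy.1) ?_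
  exact List.Perm.eq_of_pairwise (fun a b _ _ h1 h2 => absurd (h1.trans h2) (lt_irrefl a))
    (incrB_pairwise _ hx.2) (incrB_pairwise _ hy.2)
    ((List.perm_ext_iff_of_nodup (incrB_nodup hx.2) (incrB_nodup hy.2)).mpr hs)

theorem card_famOf {n x : ℕ} (hx : canB n x = true) : (famOf n x).card = (parts n x).length := by
  rw [canB, Bool.and_eq_true] at hx
  rw [famOf, famList, Finset.card_image_of_injOn, List.toFinset_card_of_nodup (incrB_nodup hx.2)]
  intro a ha b hb e
  simp only [List.coe_toFinset, Set.mem_ofPred_eq] at ha hb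
  exact H90.setOf'_injOn (parts_lt n x a ha) (parts_lt n x b hb) e

theorem parts_length : ∀ n x, (parts n x).length = n
  | 0, _ => rfl
  | n + 1, x => by simp [parts, parts_length n]

/-! ### Octads -/

/-- validity of an octad mask -/
def octB (m : ℕ) : Bool := Nat.blt m 16777216 && fcode m && Nat.beq (fpopc m) 8

theorem octB_mem {m : ℕ} (h : octB m = true) : H90.setOf' m ∈ octads := by
  simp only [octB, fcode_eq, fpopc_eq, Bool.and_eq_true] at h
  exact mem_golay_octad (Nat.le_of_ble_eq_true h.1.1) h.1.2 (Nat.eq_of_beq_eq_true h.2)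

theorem octB_of_mem {m : ℕ} (hlt : m < 2 ^ 24) (h : H90.setOf' m ∈ octads) : octB m = true := by
  have h8 : H90.popc m = 8 := by rw [← H90.card_setOf']; exact h.2
  rw [octB, fcode_eq, fpopc_eq, (H90.setOf'_mem_supports_iff hlt).mp h.1, h8]
  simp only [Bool.and_true]
  exact Bool.and_eq_true _ _ |>.mpr ⟨Nat.ble_eq_true_of_le hlt, Nat.beq_refl 8⟩

theorem octList_ok : (octList.all octB && incrB octList && Nat.beq octList.length 759) = true := by
  decide +kernel

theorem mem_octList_lt {m : ℕ} (h : m ∈ octList) : m < 2 ^ 24 ∧ H90.setOf' m ∈ octads := by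
  have hok := octList_ok
  simp only [Bool.and_eq_true] at hok
  have hb := List.all_eq_true.mp hok.1.1 m h
  refine ⟨?_, octB_mem hb⟩
  simp only [octB, Bool.and_eq_true] at hb
  exact Nat.le_of_ble_eq_true hb.1.1

theorem octads_eq_image : octads = ↑(octList.toFinset.image H90.setOf') := by
  have hok := octList_ok
  simp only [Bool.and_eq_true] at hok
  symm
  refine Set.eq_of_subset_of_ncard_le ?_ ?_ (Set.toFinite _)
  · intro s hs
    simp only [Finset.coe_image, List.coe_toFinset, Set.mem_image, Set.mem_ofPred_eq] at hs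
    obtain ⟨m, hm, rfl⟩ := hs
    exact (mem_octList_lt hm).2
  · rw [H90.octads_ncard, Set.ncard_coe_finset, Finset.card_image_of_injOn,
      List.toFinset_card_of_nodup (incrB_nodup hok.1.2), Nat.eq_of_beq_eq_true hok.2]
    intro a ha b hb e
    simp only [List.coe_toFinset, Set.mem_ofPred_eq] at ha hb
    exact H90.setOf'_injOn (mem_octList_lt ha).1 (mem_octList_lt hb).1 e

theorem mem_octads_iff {s : Finset GolayPt} : s ∈ octads ↔ ∃ m ∈ octList, H90.setOf' m = s := by
  rw [octads_eq_image]; simp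

/-! ### Trios -/

/-- all trios by a double loop over octads -/
def trioGen : List ℕ :=
  (octList.filter fun a => bitB a 23).flatMap fun a => octList.filterMap fun c =>
    if Nat.beq (Nat.land a c) 0 && Nat.blt (16777215 - a - c) c then
      some (16777215 - a - c + Nat.shiftLeft c 24 + Nat.shiftLeft a 48) else none

theorem trioGen_eq : trioGen = trioList := by decide +kernel

theorem add_of_and_zero (a b : ℕ) (h : a &&& b = 0) : a + b = a ||| b := by
  induction a using Nat.strong_induction_on generalizing b with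
  | _ a ih =>
    by_cases ha : a = 0
    · simp [ha]
    have h2 : a / 2 &&& b / 2 = 0 := by rw [← Nat.and_div_two, h]
    have e := ih (a / 2) (by omega) (b / 2) h2
    have e' : (a ||| b) / 2 = a / 2 ||| b / 2 := Nat.or_div_two
    have h0 : ¬ (a % 2 = 1 ∧ b % 2 = 1) := by
      intro hh
      have := congrArg (fun n : ℕ => n.testBit 0) h
      simp [Nat.testBit_and, Nat.testBit_zero, hh.1, hh.2] at this
    have h1 : (a ||| b) % 2 = 1 ↔ a % 2 = 1 ∨ b % 2 = 1 := by
      have := Nat.testBit_or a b 0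
      simp only [Nat.testBit_zero] at this
      simpa [← decide_eq_decide, ← Bool.decide_or] using this
    omega

/-- validity of a trio key -/
def trioB (x : ℕ) : Bool :=
  canB 3 x && (parts 3 x).all octB &&
    (parts 3 x).all fun a => (parts 3 x).all fun b => Nat.beq a b || Nat.beq (Nat.land a b) 0

theorem trioList_ok : (trioList.all trioB && incrB trioList) = true := by decide +kernel

theorem disjoint_of_and_eq_zero {a b : ℕ} (h : a &&& b = 0) :
    Disjoint (H90.setOf' a) (H90.setOf' b) := by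
  rw [Finset.disjoint_iff_inter_eq_empty, ← H90.setOf'_and, h]
  ext p; simp [H90.mem_setOf']

theorem and_eq_zero_of_disjoint {a b : ℕ} (ha : a < 2 ^ 24)
    (h : Disjoint (H90.setOf' a) (H90.setOf' b)) : a &&& b = 0 := by
  refine H90.setOf'_injOn (lt_of_le_of_lt Nat.and_le_left ha) (by norm_num) ?_
  rw [H90.setOf'_and, Finset.disjoint_iff_inter_eq_empty.mp h]
  ext p; simp [H90.mem_setOf']

theorem trio_cover {T : Finset (Finset GolayPt)} (hT : T ∈ trios) (p : GolayPt) :
    ∃ o ∈ T, p ∈ o := by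
  have h : T.biUnion (fun o => o) = Finset.univ := by
    apply Finset.eq_univ_of_card
    rw [Finset.card_biUnion fun o ho o' ho' hne => hT.2.2 o ho o' ho' hne,
      Finset.sum_congr rfl (g := fun _ => 8) fun o ho => (hT.2.1 o ho).2, Finset.sum_const, hT.1]
    simp [GolayPt]
  obtain ⟨o, ho, hp⟩ := Finset.mem_biUnion.mp (h ▸ Finset.mem_univ p)
  exact ⟨o, ho, hp⟩

theorem mem_trios_iff {T : Finset (Finset GolayPt)} :
    T ∈ trios ↔ ∃ x ∈ trioList, famOf 3 x = T := by
  have hok := trioList_ok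
  rw [Bool.and_eq_true] at hok
  constructor
  · intro hT
    obtain ⟨A, hA, hpA⟩ := trio_cover hT (ptN 23)
    obtain ⟨B, C, hBC, hBC'⟩ := Finset.card_eq_two.mp
      (show (T.erase A).card = 2 by rw [Finset.card_erase_of_mem hA, hT.1])
    have hB : B ∈ T.erase A := by rw [hBC']; simp
    have hC : C ∈ T.erase A := by rw [hBC']; simp
    rw [Finset.mem_erase] at hB hC
    have hTeq : T = {A, B, C} := by
      rw [← Finset.insert_erase hA, hBC']
    obtain ⟨a, ha, rfl⟩ := mem_octads_iff.mp (hT.2.1 A hA)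
    obtain ⟨b, hb, rfl⟩ := mem_octads_iff.mp (hT.2.1 B hB.2)
    obtain ⟨c, hc, rfl⟩ := mem_octads_iff.mp (hT.2.1 C hC.2)
    suffices key : ∀ b c, b ∈ octList → c ∈ octList → b < c →
        Disjoint (H90.setOf' a) (H90.setOf' b) → Disjoint (H90.setOf' a) (H90.setOf' c) →
        Disjoint (H90.setOf' b) (H90.setOf' c) → H90.setOf' b ∈ T → H90.setOf' c ∈ T →
        T = {H90.setOf' a, H90.setOf' b, H90.setOf' c} → ∃ x ∈ trioList, famOf 3 x = T by
      rcases lt_trichotomy b c with h | h | h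
      · exact key b c hb hc h (hT.2.2 _ hA _ hB.2 (Ne.symm hB.1))
          (hT.2.2 _ hA _ hC.2 (Ne.symm hC.1)) (hT.2.2 _ hB.2 _ hC.2 hBC) hB.2 hC.2 hTeq
      · exact absurd (by rw [h]) hBC
      · exact key c b hc hb h (hT.2.2 _ hA _ hC.2 (Ne.symm hC.1))
          (hT.2.2 _ hA _ hB.2 (Ne.symm hB.1)) (hT.2.2 _ hC.2 _ hB.2 (Ne.symm hBC)) hC.2 hB.2
          (by rw [hTeq, Finset.pair_comm])
    intro b c hb hc hlt dab dac dbc _ _ hTeq
    obtain ⟨ha24, hao⟩ := mem_octList_lt ha
    obtain ⟨hb24, hbo⟩ := mem_octList_lt hb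
    obtain ⟨hc24, hco⟩ := mem_octList_lt hc
    have hac := and_eq_zero_of_disjoint ha24 dac
    have hab := and_eq_zero_of_disjoint ha24 dab
    have hbc := and_eq_zero_of_disjoint hb24 dbc
    have hsum : a + b + c = 16777215 := by
      have hfull : H90.setOf' (a ||| b ||| c) = H90.setOf' 16777215 := by
        ext p
        obtain ⟨o, ho, hp⟩ := trio_cover hT p
        rw [hTeq] at ho
        have hr : (16777215 : ℕ).testBit (idxN p) = true := by
          rw [show (16777215 : ℕ) = 2 ^ 24 - 1 from rfl, Nat.testBit_two_pow_sub_one]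
          simp [idxN_lt]
        refine iff_of_true ?_ (mem_setOf'_idxN.mpr hr)
        rw [H90.setOf'_or, H90.setOf'_or]
        simp only [Finset.mem_insert, Finset.mem_singleton] at ho
        rcases ho with rfl | rfl | rfl <;> simp [hp]
      have hor := H90.setOf'_injOn (Nat.or_lt_two_pow (Nat.or_lt_two_pow ha24 hb24) hc24)
        (by norm_num) hfull
      rw [add_of_and_zero _ _ hab, add_of_and_zero, hor]
      rw [Nat.and_or_distrib_right, hac, hbc]; rfl
    refine ⟨b + Nat.shiftLeft c 24 + Nat.shiftLeft a 48, ?_, ?_⟩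
    · rw [← trioGen_eq, trioGen, List.mem_flatMap]
      refine ⟨a, List.mem_filter.mpr ⟨ha, ?_⟩, List.mem_filterMap.mpr ⟨c, hc, ?_⟩⟩
      · rw [bitB_eq]; exact (mem_setOf'_ptN (by norm_num)).mp hpA
      · have hb' : 16777215 - a - c = b := by omega
        rw [hb', if_pos]
        rw [Bool.and_eq_true]
        exact ⟨by rw [show Nat.land a c = a &&& c from rfl, hac]; rfl, Nat.ble_eq_true_of_le hlt⟩
    · have hparts : parts 3 (b + Nat.shiftLeft c 24 + Nat.shiftLeft a 48) = [b, c, a] := by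
        show parts 3 (b + c <<< 24 + a <<< 48) = _
        rw [show b + c <<< 24 + a <<< 48 = b + 2 ^ 24 * (c + 2 ^ 24 * (a + 2 ^ 24 * 0)) by
          rw [Nat.shiftLeft_eq, Nat.shiftLeft_eq]; ring]
        rw [parts_cons hb24, parts_cons hc24, parts_cons ha24]
        rfl
      rw [famOf, hparts, hTeq]
      ext s
      simp only [mem_famList, List.mem_cons, List.not_mem_nil, or_false, Finset.mem_insert,
        Finset.mem_singleton]
      constructor
      · rintro ⟨m, rfl | rfl | rfl, rfl⟩ <;> simp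
      · rintro (rfl | rfl | rfl)
        · exact ⟨a, by simp, rfl⟩
        · exact ⟨b, by simp, rfl⟩
        · exact ⟨c, by simp, rfl⟩
  · rintro ⟨x, hx, rfl⟩
    have hb := List.all_eq_true.mp hok.1 x hx
    simp only [trioB, Bool.and_eq_true, List.all_eq_true, Bool.or_eq_true] at hb
    refine ⟨by rw [card_famOf hb.1.1, parts_length], fun o ho => ?_, fun o ho o' ho' hne => ?_⟩
    · obtain ⟨m, hm, rfl⟩ := mem_famList.mp ho
      exact octB_mem (hb.1.2 m hm)
    · obtain ⟨m, hm, rfl⟩ := mem_famList.mp ho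
      obtain ⟨m', hm', rfl⟩ := mem_famList.mp ho'
      rcases hb.2 m hm m' hm' with h | h
      · exact absurd (by rw [Nat.eq_of_beq_eq_true h]) hne
      · exact disjoint_of_and_eq_zero (Nat.eq_of_beq_eq_true h)

/-! ### Sextets -/

/-- validity of a sextet key: the top member contains position 23 -/
def sextB (x : ℕ) : Bool :=
  canB 6 x && bitB (Nat.shiftRight x 120) 23 &&
    (parts 6 x).all (fun a => Nat.beq (fpopc a) 4 &&
      (parts 6 x).all fun b => Nat.ble b a || octB (Nat.lor a b))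

/-- the tetrads through position 23 -/
def tetGen : List ℕ :=
  (List.range 23).flatMap fun k => (List.range k).flatMap fun j => (List.range j).map fun i =>
    Nat.shiftLeft 1 i + Nat.shiftLeft 1 j + Nat.shiftLeft 1 k + 8388608

theorem sextList_ok :
    (sextList.all sextB && incrB sextList) = true := by decide +kernel

theorem sextList_tops : sextList.map (fun x => Nat.shiftRight x 120) = tetGen := by decide +kernel

theorem sextList_mem_sextets {x : ℕ} (hx : x ∈ sextList) : famOf 6 x ∈ sextets := by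
  have hok := sextList_ok
  rw [Bool.and_eq_true] at hok
  have hb := List.all_eq_true.mp hok.1 x hx
  simp only [sextB, Bool.and_eq_true, List.all_eq_true, Bool.or_eq_true] at hb
  refine ⟨by rw [card_famOf hb.1.1, parts_length], fun t ht => ?_, fun t ht u hu hne => ?_⟩
  · obtain ⟨m, hm, rfl⟩ := mem_famList.mp ht
    rw [H90.card_setOf', ← fpopc_eq, Nat.eq_of_beq_eq_true (hb.2 m hm).1]
  · obtain ⟨m, hm, rfl⟩ := mem_famList.mp ht
    obtain ⟨m', hm', rfl⟩ := mem_famList.mp hu
    rcases (hb.2 m hm).2 m' hm' with h | h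
    · rcases (hb.2 m' hm').2 m hm with h' | h'
      · exact absurd (by rw [Nat.le_antisymm (Nat.le_of_ble_eq_true h) (Nat.le_of_ble_eq_true h')]) hne
      · rw [Finset.union_comm, ← H90.setOf'_or]; exact octB_mem h'
    · rw [← H90.setOf'_or]; exact octB_mem h

theorem sextet_disjoint {S : Finset (Finset GolayPt)} (hS : S ∈ sextets) {t u : Finset GolayPt}
    (ht : t ∈ S) (hu : u ∈ S) (hne : t ≠ u) : Disjoint t u := by
  rw [Finset.disjoint_iff_inter_eq_empty, ← Finset.card_eq_zero]
  have h := Finset.card_union_add_card_inter t u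
  have h8 : (t ∪ u).card = 8 := (hS.2.2 t ht u hu hne).2
  rw [h8, hS.2.1 t ht, hS.2.1 u hu] at h
  omega

theorem sextet_cover {S : Finset (Finset GolayPt)} (hS : S ∈ sextets) (p : GolayPt) :
    ∃ t ∈ S, p ∈ t := by
  have h : S.biUnion (fun o => o) = Finset.univ := by
    apply Finset.eq_univ_of_card
    rw [Finset.card_biUnion fun t ht u hu hne => sextet_disjoint hS ht hu hne,
      Finset.sum_congr rfl (g := fun _ => 4) fun t ht => hS.2.1 t ht, Finset.sum_const, hS.1]
    simp [GolayPt]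
  obtain ⟨o, ho, hp⟩ := Finset.mem_biUnion.mp (h ▸ Finset.mem_univ p)
  exact ⟨o, ho, hp⟩

/-- A sextet is determined by any of its tetrads. -/
theorem sextet_unique {S S' : Finset (Finset GolayPt)} (hS : S ∈ sextets) (hS' : S' ∈ sextets)
    {t : Finset GolayPt} (ht : t ∈ S) (ht' : t ∈ S') : S = S' := by
  suffices key : ∀ S S' : Finset (Finset GolayPt), S ∈ sextets → S' ∈ sextets →
      t ∈ S → t ∈ S' → S ⊆ S' from
    Finset.Subset.antisymm (key S S' hS hS' ht ht') (key S' S hS' hS ht' ht)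
  intro S S' hS hS' ht ht' u hu
  by_cases hut : u = t
  · exact hut ▸ ht'
  obtain ⟨p, hp⟩ := Finset.card_pos.mp (by rw [hS.2.1 u hu]; norm_num : 0 < u.card)
  have hdu := sextet_disjoint hS ht hu (Ne.symm hut)
  have hpt : p ∉ t := fun h => Finset.disjoint_left.mp hdu h hp
  obtain ⟨u', hu', hp'⟩ := sextet_cover hS' p
  have hne' : t ≠ u' := fun e => hpt (e ▸ hp')
  have hdu' := sextet_disjoint hS' ht' hu' hne'
  have e : t ∪ u = t ∪ u' := by
    refine H90.octad_eq_of_five_le_inter (hS.2.2 t ht u hu (Ne.symm hut))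
      (hS'.2.2 t ht' u' hu' hne') ?_
    have h5 : (insert p t).card = 5 := by rw [Finset.card_insert_of_notMem hpt, hS.2.1 t ht]
    rw [← h5]
    refine Finset.card_le_card fun q hq => ?_
    rcases Finset.mem_insert.mp hq with rfl | hq
    · simp [hp, hp']
    · simp [hq]
  have : u = u' := by
    rw [← Finset.union_sdiff_cancel_left hdu, e, Finset.union_sdiff_cancel_left hdu']
  exact this ▸ hu'

theorem two_pow_and {i j : ℕ} (h : i ≠ j) : (1 <<< i) &&& (1 <<< j) = 0 := by
  apply Nat.eq_of_testBit_eq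
  intro k
  rw [Nat.testBit_and, Nat.one_shiftLeft, Nat.one_shiftLeft, Nat.testBit_two_pow,
    Nat.testBit_two_pow, Nat.zero_testBit]
  by_cases hk : i = k <;> by_cases hk' : j = k <;> simp [hk, hk'] <;> omega

theorem pow_lt {i : ℕ} (h : i < 24) : 1 <<< i < 2 ^ 24 := by
  rw [Nat.one_shiftLeft]; exact Nat.pow_lt_pow_right (by norm_num) h

theorem single (p : GolayPt) : H90.setOf' (1 <<< idxN p) = {p} := by
  ext q
  rw [mem_setOf'_idxN, Nat.one_shiftLeft, Nat.testBit_two_pow, decide_eq_true_iff,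
    Finset.mem_singleton]
  exact ⟨fun e => idxN_injective e.symm, fun e => by rw [e]⟩

theorem tetrad_mem {t : Finset GolayPt} (h4 : t.card = 4) (hp : ptN 23 ∈ t) : H90.maskOfSet t ∈ tetGen := by
  obtain ⟨a, b, c, hab, hac, hbc, he⟩ := Finset.card_eq_three.mp
    (show (t.erase (ptN 23)).card = 3 by rw [Finset.card_erase_of_mem hp, h4])
  have h23 : ∀ p ∈ t.erase (ptN 23), idxN p < 23 := by
    intro p hp'
    have := idxN_lt p
    have hne : idxN p ≠ 23 := fun e => (Finset.mem_erase.mp hp').1 (by rw [← ptN_idxN p, e])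
    omega
  suffices key : ∀ a b c, idxN a < idxN b → idxN b < idxN c → t.erase (ptN 23) = {a, b, c} →
      H90.maskOfSet t ∈ tetGen by
    have iab : idxN a ≠ idxN b := fun e => hab (idxN_injective e)
    have iac : idxN a ≠ idxN c := fun e => hac (idxN_injective e)
    have ibc : idxN b ≠ idxN c := fun e => hbc (idxN_injective e)
    rcases lt_or_gt_of_ne iab with h1 | h1 <;> rcases lt_or_gt_of_ne iac with h2 | h2 <;>
      rcases lt_or_gt_of_ne ibc with h3 | h3
    · exact key a b c h1 h3 he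
    · exact key a c b h2 h3 (by rw [he]; ext q; simp; tauto)
    · omega
    · exact key c a b h2 h1 (by rw [he]; ext q; simp; tauto)
    · exact key b a c h1 h2 (by rw [he]; ext q; simp; tauto)
    · omega
    · exact key b c a h3 h2 (by rw [he]; ext q; simp; tauto)
    · exact key c b a h3 h1 (by rw [he]; ext q; simp; tauto)
  intro a b c h1 h2 he
  have hc := h23 c (by rw [he]; simp)
  rw [tetGen, List.mem_flatMap]
  refine ⟨idxN c, List.mem_range.mpr hc, List.mem_flatMap.mpr ⟨idxN b, List.mem_range.mpr h2,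
    List.mem_map.mpr ⟨idxN a, List.mem_range.mpr h1, ?_⟩⟩⟩
  show 1 <<< idxN a + 1 <<< idxN b + 1 <<< idxN c + 8388608 = H90.maskOfSet t
  have ha1 : idxN a < 24 := idxN_lt a
  have e1 : (1 <<< idxN a) &&& (1 <<< idxN b) = 0 := two_pow_and (by omega)
  have e2 : ((1 <<< idxN a) ||| (1 <<< idxN b)) &&& (1 <<< idxN c) = 0 := by
    rw [Nat.and_or_distrib_right, two_pow_and (by omega), two_pow_and (by omega)]; rfl
  have e3 : ((1 <<< idxN a) ||| (1 <<< idxN b) ||| (1 <<< idxN c)) &&& (1 <<< 23) = 0 := by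
    rw [Nat.and_or_distrib_right, Nat.and_or_distrib_right, two_pow_and (by omega),
      two_pow_and (by omega), two_pow_and (by omega)]; rfl
  rw [show (8388608 : ℕ) = 1 <<< 23 from rfl, add_of_and_zero _ _ e1,
    add_of_and_zero _ _ e2, add_of_and_zero _ _ e3]
  refine H90.setOf'_injOn ?_ (H90.maskOfSet_lt t) ?_
  · exact Nat.or_lt_two_pow (Nat.or_lt_two_pow (Nat.or_lt_two_pow (pow_lt (by omega))
      (pow_lt (by omega))) (pow_lt (by omega))) (pow_lt (by omega))
  rw [H90.setOf'_maskOfSet, H90.setOf'_or, H90.setOf'_or, H90.setOf'_or, single, single, single,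
    show H90.setOf' (1 <<< 23) = {ptN 23} by
      rw [← single (ptN 23), idxN_ptN (by norm_num : 23 < 24)],
    ← Finset.insert_erase hp, he]
  ext q; simp; tauto

theorem mem_sextets_iff {S : Finset (Finset GolayPt)} :
    S ∈ sextets ↔ ∃ x ∈ sextList, famOf 6 x = S := by
  refine ⟨fun hS => ?_, fun ⟨x, hx, e⟩ => e ▸ sextList_mem_sextets hx⟩
  obtain ⟨t, ht, hp⟩ := sextet_cover hS (ptN 23)
  obtain ⟨a, b, c, d, hab, hac, had, hbc, hbd, hcd, hte⟩ :=
    Finset.card_eq_four.mp (hS.2.1 t ht)
  have hm : H90.maskOfSet t ∈ tetGen := tetrad_mem (hS.2.1 t ht) hp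
  rw [← sextList_tops, List.mem_map] at hm
  obtain ⟨x, hx, hxe⟩ := hm
  refine ⟨x, hx, sextet_unique (sextList_mem_sextets hx) hS (t := t) ?_ ht⟩
  refine mem_famList.mpr ⟨H90.maskOfSet t, ?_, H90.setOf'_maskOfSet t⟩
  have hlt : x < 2 ^ (24 * 6) := by
    have hok := sextList_ok
    rw [Bool.and_eq_true] at hok
    have hb := List.all_eq_true.mp hok.1 x hx
    simp only [sextB, Bool.and_eq_true, canB] at hb
    exact Nat.le_of_ble_eq_true hb.1.1.1
  have htop : parts 6 x = [x % 2 ^ 24, x / 2 ^ 24 % 2 ^ 24, x / 2 ^ 24 / 2 ^ 24 % 2 ^ 24,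
      x / 2 ^ 24 / 2 ^ 24 / 2 ^ 24 % 2 ^ 24, x / 2 ^ 24 / 2 ^ 24 / 2 ^ 24 / 2 ^ 24 % 2 ^ 24,
      x / 2 ^ 24 / 2 ^ 24 / 2 ^ 24 / 2 ^ 24 / 2 ^ 24 % 2 ^ 24] := by
    simp only [parts_def, show ∀ y, parts 0 y = [] from fun _ => rfl]
  rw [htop]
  simp only [List.mem_cons, List.not_mem_nil, or_false]
  refine Or.inr (Or.inr (Or.inr (Or.inr (Or.inr ?_))))
  rw [← hxe]
  show x >>> 120 = _
  rw [Nat.shiftRight_eq_div_pow]
  norm_num at hlt ⊢
  omega

end H94
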