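import Cfsg.Agent.H94.Trans5
import Cfsg.Agent.H94.Objects

/-!
The action of `M24` on six points: transitivity by octad type and the pointwise stabilisers.
-/

set_option autoImplicit false

namespace H94

open Cfsg
open scoped Pointwise

/-- duplicate-free -/
def nodupB : List ℕ → Bool
  | [] => true
  | a :: l => l.all (fun b => !Nat.beq a b) && nodupB l

theorem nodupB_spec : ∀ l : List ℕ, nodupB l = true → l.Nodup
  | [], _ => List.nodup_nil
  | a :: l, h => by
    rw [nodupB, Bool.and_eq_true] at h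
    refine List.nodup_cons.mpr ⟨fun ha => ?_, nodupB_spec l h.2⟩
    have := List.all_eq_true.mp h.1 a ha
    simp at this

/-- normal form of a packed permutation -/
def canon (P : ℕ) : ℕ := packFn (pap P) 24 0

theorem packFn_congr (f f' : ℕ → ℕ) : ∀ k i, (∀ j, i ≤ j → j < i + k → f j = f' j) →
    packFn f k i = packFn f' k i
  | 0, _, _ => rfl
  | k + 1, i, h => by
    rw [packFn, packFn, h i le_rfl (by omega),
      packFn_congr f f' k (i + 1) fun j h1 h2 => h j (by omega) (by omega)]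

theorem canon_eq_of_reps {P Q : ℕ} {g : Equiv.Perm GolayPt} (hP : Reps P g) (hQ : Reps Q g) :
    canon P = canon Q :=
  packFn_congr _ _ 24 0 fun j _ h => by rw [hP j (by omega), hQ j (by omega)]

/-- the elements with a property, counted by a list of packed forms -/
theorem card_of_list (p : Equiv.Perm GolayPt → Prop) (l : List ℕ)
    (hnd : nodupB (l.map canon) = true) (hsound : ∀ P ∈ l, ∃ g, p g ∧ Reps P g)
    (hcomplete : ∀ g, p g → ∃ P ∈ l, Reps P g) : Nat.card {g : Equiv.Perm GolayPt // p g} = l.length := by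
  have hs : ∀ i : Fin l.length, ∃ g : {g : Equiv.Perm GolayPt // p g}, Reps l[i.1] g.1 := fun i => by
    obtain ⟨g, hg, hR⟩ := hsound _ (List.getElem_mem i.2)
    exact ⟨⟨g, hg⟩, hR⟩
  choose f hf using hs
  rw [← Nat.card_fin l.length]
  refine (Nat.card_congr (Equiv.ofBijective f ⟨?_, ?_⟩)).symm
  · intro i j e
    have h1 := canon_eq_of_reps (hf i) (e ▸ hf j)
    exact Fin.ext ((nodupB_spec _ hnd).getElem_inj_iff.mp
      (show (l.map canon)[i.1]'(by simp) = (l.map canon)[j.1]'(by simp) by simpa using h1))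
  · rintro ⟨g, hg⟩
    obtain ⟨P, hP, hR⟩ := hcomplete g hg
    obtain ⟨i, hi, rfl⟩ := List.getElem_of_mem hP
    exact ⟨⟨i, hi⟩, Subtype.ext ((hf ⟨i, hi⟩).unique hR)⟩

/-- elements fixing the positions 0..4 and `x` -/
def fix6List (x : ℕ) : List ℕ := stab5.filter fun t => Nat.beq (pap t x) x

theorem fix6List_ok : ((List.range 24).all fun x => Nat.blt x 5 ||
    (nodupB ((fix6List x).map canon) &&
      Nat.beq (fix6List x).length (if bitB baseOctad x then 16 else 3))) = true := by decide +kernel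

theorem fix5_cover : ((List.range 24).all fun x => Nat.blt x 5 || (List.range 24).all fun y =>
    Nat.blt y 5 || !(bitB baseOctad x == bitB baseOctad y) ||
      stab5.any fun t => Nat.beq (pap t x) y) = true := by decide +kernel

theorem stab5_spec {t : ℕ} (ht : t ∈ stab5) :
    ∃ g ∈ M24, Reps t g ∧ ∀ i < 5, g (ptN i) = ptN i := by
  have hv := List.all_eq_true.mp stab5_ok t ht
  rw [Bool.and_eq_true] at hv
  obtain ⟨g, hg, hR⟩ := exists_perm_of_memB hv.1
  refine ⟨g, hg, hR, fun i hi => idxN_injective ?_⟩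
  rw [← hR i (by omega),
    Nat.eq_of_beq_eq_true (List.all_eq_true.mp hv.2 i (List.mem_range.mpr hi)), idxN_ptN (by omega)]

theorem baseOctad_facts : H90.setOf' baseOctad ∈ octads ∧
    ∀ i < 5, ptN i ∈ H90.setOf' baseOctad := by
  refine ⟨octB_mem (by decide +kernel), fun i hi => ?_⟩
  rw [mem_setOf'_ptN (by omega), ← bitB_eq]
  exact (show ∀ i < 5, bitB baseOctad i = true by decide +kernel) i hi

theorem octad_status {g : Equiv.Perm GolayPt} (hg : g ∈ M24) {a : ℕ → GolayPt}
    (hga : ∀ i < 5, g (ptN i) = a i) {x : GolayPt} :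
    g x ∈ g • H90.setOf' baseOctad ∧ g • H90.setOf' baseOctad ∈ octads ∧
        (∀ i < 5, a i ∈ g • H90.setOf' baseOctad) ↔ x ∈ H90.setOf' baseOctad := by
  rw [← Equiv.Perm.smul_def g x, Finset.smul_mem_smul_finset_iff]
  refine ⟨fun h => h.1, fun h => ⟨h, smul_mem_octads hg baseOctad_facts.1, fun i hi => ?_⟩⟩
  rw [← hga i hi, ← Equiv.Perm.smul_def, Finset.smul_mem_smul_finset_iff]
  exact baseOctad_facts.2 i hi

/-- six points lie in an octad -/
def InOctad (a : ℕ → GolayPt) : Prop := ∃ o ∈ octads, ∀ i < 6, a i ∈ o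

theorem normalise_six {a : ℕ → GolayPt} (ha : ∀ i < 6, ∀ j < 6, a i = a j → i = j) :
    ∃ g ∈ M24, (∀ i < 5, g (ptN i) = a i) ∧ 5 ≤ idxN (g⁻¹ (a 5)) ∧
      (InOctad a ↔ bitB baseOctad (idxN (g⁻¹ (a 5))) = true) := by
  obtain ⟨g, hg, hga⟩ := exists_five_images a 5 le_rfl
    fun i hi j hj => ha i (by omega) j (by omega)
  obtain ⟨x, hx⟩ : ∃ x, x = g⁻¹ (a 5) := ⟨_, rfl⟩
  have hgx : g x = a 5 := by rw [hx, Equiv.Perm.inv_def, Equiv.apply_symm_apply]
  refine ⟨g, hg, hga, ?_, ?_⟩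
  · rw [← hx]
    by_contra hlt
    have h1 : g (ptN (idxN x)) = a (idxN x) := hga _ (by omega)
    rw [ptN_idxN, hgx] at h1
    have := ha 5 (by norm_num) (idxN x) (by omega) h1
    omega
  · rw [← hx, bitB_eq, ← mem_setOf'_idxN, ← octad_status hg hga (x := x), hgx]
    constructor
    · rintro ⟨o, ho, hao⟩
      have hs : Finset.univ.map ⟨fun i : Fin 5 => a i, fun i j e => Fin.ext
          (ha i (by omega) j (by omega) e)⟩ ⊆ o ∩ g • H90.setOf' baseOctad := by
        intro p hp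
        obtain ⟨i, -, rfl⟩ := Finset.mem_map.mp hp
        refine Finset.mem_inter.mpr ⟨hao i (by omega), ?_⟩
        show a i ∈ _
        rw [← hga i i.2, ← Equiv.Perm.smul_def, Finset.smul_mem_smul_finset_iff]
        exact baseOctad_facts.2 i i.2
      have h5 := Finset.card_le_card hs
      simp only [Finset.card_map, Finset.card_univ, Fintype.card_fin] at h5
      obtain rfl := H90.octad_eq_of_five_le_inter ho (smul_mem_octads hg baseOctad_facts.1) h5
      exact ⟨hao 5 (by norm_num), smul_mem_octads hg baseOctad_facts.1, fun i hi => hao i (by omega)⟩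
    · rintro ⟨h5, ho, h4⟩
      refine ⟨_, ho, fun i hi => ?_⟩
      rcases Nat.lt_succ_iff_lt_or_eq.mp hi with hi' | rfl
      · exact h4 i hi'
      · exact h5

/-- `M24` is transitive on injective six-tuples of each octad type. -/
theorem trans_six {a b : ℕ → GolayPt} (ha : ∀ i < 6, ∀ j < 6, a i = a j → i = j)
    (hb : ∀ i < 6, ∀ j < 6, b i = b j → i = j) (hab : InOctad a ↔ InOctad b) :
    ∃ g ∈ M24, ∀ i < 6, g (a i) = b i := by
  obtain ⟨g, hg, hga, hga5, hgio⟩ := normalise_six ha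
  obtain ⟨h, hh, hhb, hhb5, hhio⟩ := normalise_six hb
  have hc := List.all_eq_true.mp fix5_cover (idxN (g⁻¹ (a 5))) (List.mem_range.mpr (idxN_lt _))
  have hna : ∀ {n}, 5 ≤ n → Nat.blt n 5 = false := fun {n} hn => by
    by_contra hb
    simp only [Bool.not_eq_false] at hb
    have := Nat.le_of_ble_eq_true hb
    omega
  rw [hna hga5, Bool.false_or] at hc
  have hd := List.all_eq_true.mp hc (idxN (h⁻¹ (b 5))) (List.mem_range.mpr (idxN_lt _))
  have heq : bitB baseOctad (idxN (g⁻¹ (a 5))) = bitB baseOctad (idxN (h⁻¹ (b 5))) := by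
    rw [Bool.eq_iff_iff, ← hgio, ← hhio]; exact hab
  rw [hna hhb5, heq] at hd
  simp only [beq_self_eq_true, Bool.not_true, Bool.false_or, List.any_eq_true] at hd
  obtain ⟨t, ht, hte⟩ := hd
  obtain ⟨k, hk, hR, hkfix⟩ := stab5_spec ht
  refine ⟨h * k * g⁻¹, M24.mul_mem (M24.mul_mem hh hk) (M24.inv_mem hg), fun i hi => ?_⟩
  rw [Equiv.Perm.mul_apply, Equiv.Perm.mul_apply]
  rcases Nat.lt_succ_iff_lt_or_eq.mp hi with hi' | rfl
  · rw [show g⁻¹ (a i) = ptN i by rw [Equiv.Perm.inv_def, Equiv.symm_apply_eq, hga i hi'],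
      hkfix i hi', hhb i hi']
  · have e : k (g⁻¹ (a 5)) = h⁻¹ (b 5) := by
      apply idxN_injective
      rw [← Nat.eq_of_beq_eq_true hte, hR _ (idxN_lt _), ptN_idxN]
    rw [e, Equiv.Perm.inv_def, Equiv.apply_symm_apply]

open Classical in
theorem card_fix_six {a : ℕ → GolayPt} (ha : ∀ i < 6, ∀ j < 6, a i = a j → i = j) :
    Nat.card {g : Equiv.Perm GolayPt // g ∈ M24 ∧ ∀ i < 6, g (a i) = a i} =
      if InOctad a then 16 else 3 := by
  obtain ⟨g, hg, hga, hga5, hgio⟩ := normalise_six ha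
  obtain ⟨x, hx⟩ : ∃ x, x = idxN (g⁻¹ (a 5)) := ⟨_, rfl⟩
  rw [← hx] at hga5 hgio
  have hgx : g (ptN x) = a 5 := by rw [hx, ptN_idxN, Equiv.Perm.inv_def, Equiv.apply_symm_apply]
  have hx24 : x < 24 := hx ▸ idxN_lt _
  have hok := List.all_eq_true.mp fix6List_ok x (List.mem_range.mpr hx24)
  have hna : Nat.blt x 5 = false := by
    by_contra hb
    simp only [Bool.not_eq_false] at hb
    have := Nat.le_of_ble_eq_true hb
    omega
  rw [hna, Bool.false_or, Bool.and_eq_true] at hok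
  have hstd : Nat.card {k : Equiv.Perm GolayPt // k ∈ M24 ∧ (∀ i < 5, k (ptN i) = ptN i) ∧
      k (ptN x) = ptN x} = (fix6List x).length := by
    refine card_of_list _ _ hok.1 (fun P hP => ?_) (fun k hk => ?_)
    · obtain ⟨hP5, hPx⟩ := List.mem_filter.mp hP
      obtain ⟨k, hk, hR, hfix⟩ := stab5_spec hP5
      refine ⟨k, ⟨hk, hfix, idxN_injective ?_⟩, hR⟩
      rw [← hR x hx24, Nat.eq_of_beq_eq_true hPx, idxN_ptN hx24]
    · obtain ⟨hk1, hk2, hk3⟩ := hk
      obtain ⟨t, ht, hR⟩ := stab5_complete hk1 hk2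
      refine ⟨t, List.mem_filter.mpr ⟨ht, ?_⟩, hR⟩
      rw [hR x hx24, hk3, idxN_ptN hx24]
      exact Nat.beq_refl x
  have hcase : (if bitB baseOctad x then 16 else 3) = if InOctad a then 16 else 3 := by
    split_ifs with h1 h2 h3 <;> first | rfl | tauto
  rw [← hcase, ← Nat.eq_of_beq_eq_true hok.2, ← hstd]
  refine Nat.card_congr
    { toFun := fun k => ⟨g⁻¹ * k.1 * g, M24.mul_mem (M24.mul_mem (M24.inv_mem hg) k.2.1) hg,
        fun i hi => ?_, ?_⟩
      invFun := fun k => ⟨g * k.1 * g⁻¹, M24.mul_mem (M24.mul_mem hg k.2.1) (M24.inv_mem hg),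
        fun i hi => ?_⟩
      left_inv := fun k => Subtype.ext (by group)
      right_inv := fun k => Subtype.ext (by group) }
  · rw [Equiv.Perm.mul_apply, Equiv.Perm.mul_apply, hga i hi, k.2.2 i (by omega), ← hga i hi,
      Equiv.Perm.inv_def, Equiv.symm_apply_apply]
  · rw [Equiv.Perm.mul_apply, Equiv.Perm.mul_apply, hgx, k.2.2 5 (by norm_num), ← hgx,
      Equiv.Perm.inv_def, Equiv.symm_apply_apply]
  · rw [Equiv.Perm.mul_apply, Equiv.Perm.mul_apply]
    rcases Nat.lt_succ_iff_lt_or_eq.mp hi with hi' | rfl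
    · rw [show g⁻¹ (a i) = ptN i by rw [Equiv.Perm.inv_def, Equiv.symm_apply_eq, hga i hi'],
        k.2.2.1 i hi', hga i hi']
    · rw [show g⁻¹ (a 5) = ptN x by rw [Equiv.Perm.inv_def, Equiv.symm_apply_eq, hgx],
        k.2.2.2, hgx]

end H94
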