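import Cfsg.Agent.H94.FixCounts
import Cfsg.Agent.H94.PointSix
import Cfsg.Agent.H94.CentData

/-!
Centralisers of the class representatives.
-/

set_option autoImplicit false

namespace H94

open Cfsg
open scoped Pointwise

/-- `P` and `R` commute -/
noncomputable def commB (R P : ℕ) : Bool := peq (pmul P R) (pmul R P)

/-- consistency of a prefix with commuting with `R` -/
def commF (R l Q : ℕ) : Bool :=
  (List.range (l + 1)).all fun i => Nat.blt l (pap R i) ||
    Nat.beq (pap Q (pap R i)) (pap R (pap Q i))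

theorem commF_spec {R : ℕ} {r g : Equiv.Perm GolayPt} (hR : Reps R r) (hc : g * r = r * g) :
    ∀ l, l < 5 → ∀ Q, Agree g (l + 1) Q → commF R l Q = true := by
  intro l hl Q hQ
  rw [commF, List.all_eq_true]
  intro i hi
  have hi' := List.mem_range.mp hi
  rw [Bool.or_eq_true]
  by_cases h : l < pap R i
  · exact Or.inl (Nat.ble_eq_true_of_le h)
  · refine Or.inr ?_
    rw [hQ i hi', hQ (pap R i) (by omega), hR i (by omega), hR _ (idxN_lt _), ptN_idxN, ptN_idxN,
      ← Equiv.Perm.mul_apply, ← Equiv.Perm.mul_apply, hc]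
    exact Nat.beq_refl _

theorem commB_of_commute {P R : ℕ} {g r : Equiv.Perm GolayPt} (hP : Reps P g) (hR : Reps R r)
    (hc : g * r = r * g) : commB R P = true :=
  (hc ▸ hP.mul hR).peq_of_eq (hR.mul hP)

theorem cent3six_ok : ((search (commF rep3six)).all fun P => !commB rep3six P ||
    !peq (pmul P P) pone || peq P pone || Nat.beq (fixCount P) 8) = true := by decide +kernel

theorem cent3free_ok : ((search (commF rep3free)).all fun P => !commB rep3free P ||
    !peq (pmul P P) pone || peq P pone || Nat.beq (fixCount P) 0) = true := by decide +kernel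

/-- fixed points of an involution commuting with an element of order three -/
theorem fix_of_commute {R k : ℕ}
    (hok : ((search (commF R)).all fun P => !commB R P ||
      !peq (pmul P P) pone || peq P pone || Nat.beq (fixCount P) k) = true)
    {x s u : Equiv.Perm GolayPt} (hu : u ∈ M24) (hR : Reps R (u * x * u⁻¹)) (hs : s ∈ M24)
    (h2 : orderOf s = 2) (hc : Commute x s) :
    (Finset.univ.filter fun p => s p = p).card = k := by
  have hσ : u * s * u⁻¹ ∈ M24 := M24.mul_mem (M24.mul_mem hu hs) (M24.inv_mem hu)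
  have hcomm : (u * s * u⁻¹) * (u * x * u⁻¹) = (u * x * u⁻¹) * (u * s * u⁻¹) := by
    simp only [mul_assoc, inv_mul_cancel_left]
    rw [← mul_assoc s x, ← mul_assoc x s, hc.eq]
  obtain ⟨P, hP, hPR⟩ := search_complete _ hσ (commF_spec hR hcomm)
  have h := List.all_eq_true.mp hok P hP
  have hsq : (u * s * u⁻¹) * (u * s * u⁻¹) = 1 := by
    have : s * s = 1 := by rw [← pow_two, ← h2]; exact pow_orderOf_eq_one s
    simp only [mul_assoc, inv_mul_cancel_left]
    rw [← mul_assoc s s, this, one_mul, mul_inv_cancel]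
  have hne : peq P pone = false := by
    rw [← Bool.not_eq_true]
    intro hp
    have e := hPR.eq_of_peq reps_one hp
    rw [conj_eq_one_iff] at e
    rw [e, orderOf_one] at h2
    omega
  have hp2 : Reps (pmul P P) 1 := hsq ▸ hPR.mul hPR
  rw [commB_of_commute hPR hR hcomm, hp2.peq_of_eq reps_one, hne] at h
  simp only [Bool.not_true, Bool.false_or] at h
  rw [← card_fix_conj s u, card_fix_of_reps hPR]
  exact Nat.eq_of_beq_eq_true h

/-! ### The fixed-point-free involution -/

/-- filter: commute with the involution and fix the position 0 -/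
noncomputable def cent0F (l Q : ℕ) : Bool := commF rep2free l Q && Nat.beq (pap Q 0) 0

/-- the centraliser of the involution fixing position 0 -/
noncomputable def cent0List : List ℕ := (search cent0F).filter fun P => commB rep2free P

theorem cent0_ok : nodupB (cent0List.map canon) = true ∧ cent0List.length = 320 := by
  decide +kernel

theorem centTrans_ok : ((centTrans.all fun c => memB c && commB rep2free c) &&
    (List.range 24).all (fun q => centTrans.any fun c => Nat.beq (pap c 0) q)) = true := by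
  decide +kernel

theorem centSextet_ok : (sextList.any (Nat.beq centSextet) &&
    (centTrans ++ cent0List).all fun c =>
      sameB ((parts 6 centSextet).map (pmask c)) (parts 6 centSextet)) = true := by decide +kernel

theorem cent0_complete {ρ g : Equiv.Perm GolayPt} (hρ : Reps rep2free ρ) (hg : g ∈ M24)
    (hc : g * ρ = ρ * g) (h0 : g (ptN 0) = ptN 0) : ∃ P ∈ cent0List, Reps P g := by
  obtain ⟨P, hP, hR⟩ := search_complete cent0F hg (fun l hl Q hQ => by
    rw [cent0F, Bool.and_eq_true]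
    refine ⟨commF_spec hρ hc l hl Q hQ, ?_⟩
    rw [hQ 0 (by omega), h0, idxN_ptN (by norm_num)]
    exact Nat.beq_refl _)
  exact ⟨P, List.mem_filter.mpr ⟨hP, commB_of_commute hR hρ hc⟩, hR⟩

theorem cent0_sound {ρ : Equiv.Perm GolayPt} (hρ : Reps rep2free ρ) {P : ℕ} (hP : P ∈ cent0List) :
    ∃ g, (g ∈ M24 ∧ g * ρ = ρ * g ∧ g (ptN 0) = ptN 0) ∧ Reps P g := by
  obtain ⟨hs, hb⟩ := List.mem_filter.mp hP
  obtain ⟨g, hg, hR⟩ := search_sound _ hs
  have h0 : cent0List.all (fun P => Nat.beq (pap P 0) 0) = true := by decide +kernel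
  refine ⟨g, ⟨hg, (hR.mul hρ).eq_of_peq (hρ.mul hR) hb, idxN_injective ?_⟩, hR⟩
  rw [← hR 0 (by norm_num), Nat.eq_of_beq_eq_true (List.all_eq_true.mp h0 P hP),
    idxN_ptN (by norm_num)]

theorem cent_trans {ρ : Equiv.Perm GolayPt} (hρ : Reps rep2free ρ) (q : GolayPt) :
    ∃ g, (g ∈ M24 ∧ g * ρ = ρ * g ∧ g (ptN 0) = q) ∧ ∃ P ∈ centTrans, Reps P g := by
  have h := centTrans_ok
  rw [Bool.and_eq_true] at h
  obtain ⟨c, hc, hc0⟩ := List.any_eq_true.mp
    (List.all_eq_true.mp h.2 (idxN q) (List.mem_range.mpr (idxN_lt q)))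
  have hv := List.all_eq_true.mp h.1 c hc
  rw [Bool.and_eq_true] at hv
  obtain ⟨g, hg, hR⟩ := exists_perm_of_memB hv.1
  refine ⟨g, ⟨hg, (hR.mul hρ).eq_of_peq (hρ.mul hR) hv.2, idxN_injective ?_⟩, c, hc, hR⟩
  rw [← hR 0 (by norm_num), Nat.eq_of_beq_eq_true hc0]

theorem cent_card {ρ : Equiv.Perm GolayPt} (hρ : Reps rep2free ρ) :
    Nat.card {c : Equiv.Perm GolayPt // c ∈ M24 ∧ c * ρ = ρ * c} = 7680 := by
  choose T hT _ using cent_trans hρ
  have h0 : Nat.card {g : Equiv.Perm GolayPt // g ∈ M24 ∧ g * ρ = ρ * g ∧ g (ptN 0) = ptN 0}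
      = 320 := by
    rw [card_of_list _ cent0List cent0_ok.1 (fun P hP => cent0_sound hρ hP)
      (fun g ⟨h1, h2, h3⟩ => cent0_complete hρ h1 h2 h3), cent0_ok.2]
  have e : {c : Equiv.Perm GolayPt // c ∈ M24 ∧ c * ρ = ρ * c} ≃
      GolayPt × {g : Equiv.Perm GolayPt // g ∈ M24 ∧ g * ρ = ρ * g ∧ g (ptN 0) = ptN 0} :=
    { toFun := fun c => (c.1 (ptN 0), ⟨(T (c.1 (ptN 0)))⁻¹ * c.1, by
        obtain ⟨h1, h2, h3⟩ := hT (c.1 (ptN 0))
        refine ⟨M24.mul_mem (M24.inv_mem h1) c.2.1, ?_, ?_⟩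
        · exact ((Commute.inv_left (show Commute _ ρ from h2)).mul_left
            (show Commute _ ρ from c.2.2)).eq
        · rw [Equiv.Perm.mul_apply, Equiv.Perm.inv_def, Equiv.symm_apply_eq, h3]⟩)
      invFun := fun e => ⟨T e.1 * e.2.1, M24.mul_mem (hT e.1).1 e.2.2.1,
        ((show Commute _ ρ from (hT e.1).2.1).mul_left (show Commute _ ρ from e.2.2.2.1)).eq⟩
      left_inv := fun c => Subtype.ext (mul_inv_cancel_left _ _)
      right_inv := fun e => by
        have h : (T e.1 * e.2.1) (ptN 0) = e.1 := by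
          rw [Equiv.Perm.mul_apply, e.2.2.2.2, (hT e.1).2.2]
        ext1
        · exact h
        · apply Subtype.ext
          show (T ((T e.1 * e.2.1) (ptN 0)))⁻¹ * (T e.1 * e.2.1) = e.2.1
          rw [h, inv_mul_cancel_left] }
  rw [Nat.card_congr e, Nat.card_prod, h0, Nat.card_eq_fintype_card]
  simp [GolayPt]

theorem cent_transitive {ρ : Equiv.Perm GolayPt} (hρ : Reps rep2free ρ) (p q : GolayPt) :
    ∃ c ∈ M24, c * ρ = ρ * c ∧ c p = q := by
  obtain ⟨a, ⟨ha, hac, hap⟩, -⟩ := cent_trans hρ p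
  obtain ⟨b, ⟨hb, hbc, hbq⟩, -⟩ := cent_trans hρ q
  refine ⟨b * a⁻¹, M24.mul_mem hb (M24.inv_mem ha),
    ((show Commute _ ρ from hbc).mul_left (Commute.inv_left (show Commute _ ρ from hac))).eq, ?_⟩
  rw [Equiv.Perm.mul_apply, show a⁻¹ p = ptN 0 by
    rw [Equiv.Perm.inv_def, Equiv.symm_apply_eq]; exact hap.symm, hbq]

theorem cent_fixes_sextet {ρ : Equiv.Perm GolayPt} (hρ : Reps rep2free ρ)
    {c : Equiv.Perm GolayPt} (hc : c ∈ M24) (hcc : c * ρ = ρ * c) :
    c • famOf 6 centSextet = famOf 6 centSextet := by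
  have h := centSextet_ok
  rw [Bool.and_eq_true] at h
  have key : ∀ P ∈ centTrans ++ cent0List, ∀ g : Equiv.Perm GolayPt, Reps P g →
      g • famOf 6 centSextet = famOf 6 centSextet := by
    intro P hP g hR
    rw [famOf, ← famList_smul hR, famList_eq_iff (fun m hm => ?_) (parts_lt 6 centSextet)]
    · exact List.all_eq_true.mp h.2 P hP
    · obtain ⟨m', -, rfl⟩ := List.mem_map.mp hm
      exact hR.pmask_lt m'
  obtain ⟨a, ⟨ha, hac, hap⟩, P, hP, hPR⟩ := cent_trans hρ (c (ptN 0))
  obtain ⟨Q, hQ, hQR⟩ := cent0_complete hρ (M24.mul_mem (M24.inv_mem ha) hc)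
    ((Commute.inv_left (show Commute _ ρ from hac)).mul_left (show Commute _ ρ from hcc)).eq
    (by rw [Equiv.Perm.mul_apply, Equiv.Perm.inv_def, Equiv.symm_apply_eq, hap])
  have h1 := key P (List.mem_append_left _ hP) a hPR
  have h2 := key Q (List.mem_append_right _ hQ) _ hQR
  rw [mul_smul, inv_smul_eq_iff, h1] at h2
  exact h2

end H94
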