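import Cfsg.Agent.H94.OrbitFacts
import Cfsg.Agent.H94.OrbAllDod

/-!
`M24` is transitive on dodecads.
-/

set_option autoImplicit false

namespace H94

open Cfsg
open scoped Pointwise

theorem smul_mem_dodecads {g : Equiv.Perm GolayPt} (hg : g ∈ M24) {d : Finset GolayPt}
    (hd : d ∈ dodecads) : g • d ∈ dodecads :=
  ⟨H95.smul_mem_supports hg hd.1, by rw [Finset.card_smul_finset]; exact hd.2⟩

theorem dodecads_transitive {d d' : Finset GolayPt} (hd : d ∈ dodecads) (hd' : d' ∈ dodecads) :
    ∃ g : M24, g • d = d' := by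
  have key : ∀ d ∈ dodecads, ∃ g : M24, g • d = H90.setOf' allDodData.roots.head! := by
    intro d hd
    obtain ⟨m, hm, rfl⟩ := mem_dodecads_iff.mp hd
    obtain ⟨r, hr, -, g, -, hg⟩ := allDodData.exists_smul allDodData_ok (x := m) hm
    obtain ⟨r0, hr0⟩ : ∃ r0, allDodData.roots = [r0] := ⟨_, rfl⟩
    rw [hr0, List.mem_singleton] at hr
    subst hr
    have hrlt : r < 2 ^ 24 :=
      (mem_dodList ((any_beq_iff _ _).mp (by
        have := allDodData_ok
        simp only [OrbitData.okB, certB, Bool.and_eq_true] at this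
        exact List.all_eq_true.mp this.2.1.2 r (by rw [hr0]; simp)))).1
    refine ⟨g, ?_⟩
    rw [hr0]
    change g • famOf 1 m = famOf 1 r at hg
    rw [famOf_one (mem_dodList hm).1, famOf_one hrlt, Finset.smul_finset_singleton] at hg
    exact Finset.singleton_injective hg
  obtain ⟨g, hg⟩ := key d hd
  obtain ⟨g', hg'⟩ := key d' hd'
  exact ⟨g'⁻¹ * g, by rw [mul_smul, hg, ← hg', inv_smul_smul]⟩

end H94
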