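import Cfsg.Agent.H94.Invariant
import Cfsg.Agent.H94.GolayFacts
import Cfsg.Agent.H94.DodFacts
import Cfsg.Agent.H94.Trans5

/-!
`M24` satisfies the hypotheses of `MathieuLike`.
-/

set_option autoImplicit false

namespace H94

open Cfsg
open scoped Pointwise

theorem golay_mathieu : MathieuLike Cfsg.golayCode Cfsg.M24 where
  full := golay_full
  pres := fun σ hσ w hw => H95.perm_symm_mem_code hσ hw
  trans5 := trans_five
  transOct := by
    intro v hv w hw h8 h8'
    obtain ⟨g, hg⟩ := octads_transitive (o := sup2 v) (o' := sup2 w) ⟨⟨v, hv, rfl⟩, h8⟩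
      ⟨⟨w, hw, rfl⟩, h8'⟩
    refine ⟨g, g.2, sup2_injective ?_⟩
    rw [sup2_moveWord, ← hg, Finset.map_eq_image]
    rfl
  transDod := by
    intro v hv w hw h8 h8'
    obtain ⟨g, hg⟩ := dodecads_transitive (d := sup2 v) (d' := sup2 w) ⟨⟨v, hv, rfl⟩, h8⟩
      ⟨⟨w, hw, rfl⟩, h8'⟩
    refine ⟨g, g.2, sup2_injective ?_⟩
    rw [sup2_moveWord, ← hg, Finset.map_eq_image]
    rfl

end H94
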