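import Cfsg.Agent.H94.Perm

/-! An element of order seven. -/

set_option autoImplicit false

namespace H94

def rep7 : ℕ := 358535540859810273282569403223903297

def seven1 : ℕ := 944319304547998642267612847938832416

def seven2 : ℕ := 24811812135198724585773516834161006

def sevenTrio : ℕ := 3138486617038479430815

end H94
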