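import Cfsg.Agent.H94.FixCounts
import Cfsg.Agent.H94.PointSix
import Cfsg.Agent.H90.Group
import Cfsg.Agent.H94.SevenData

/-!
The normaliser of a subgroup of order seven of `M24`.
-/

set_option autoImplicit false

namespace H94

open Cfsg
open scoped Pointwise

/-- the `k`th power of the element of order seven -/
noncomputable def pow7 : ℕ → ℕ
  | 0 => pone
  | k + 1 => pmul rep7 (pow7 k)

/-- the six non-trivial powers -/
noncomputable def pows7 : List ℕ := (List.range 6).map fun k => pow7 (k + 1)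

theorem pows7_ok : (memB rep7 && peq (pow7 7) pone && !peq rep7 pone) = true := by decide +kernel

theorem pow7_reps {x : Equiv.Perm GolayPt} (hx : Reps rep7 x) : ∀ k, Reps (pow7 k) (x ^ k)
  | 0 => by rw [pow_zero]; exact reps_one
  | k + 1 => by rw [pow_succ']; exact hx.mul (pow7_reps hx k)

/-- a prefix sends the cycle into some power of itself -/
noncomputable def normF (l Q : ℕ) : Bool :=
  pows7.any fun R => (List.range l).all fun i => Nat.blt l (pap rep7 i) ||
    Nat.beq (pap Q (pap rep7 i)) (pap R (pap Q i))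

/-- the normaliser of the subgroup of order seven -/
noncomputable def norm7List : List ℕ :=
  (search normF).filter fun P => pows7.any fun R => peq (pmul P rep7) (pmul R P)

/-- its centraliser -/
noncomputable def cent7List : List ℕ := norm7List.filter fun P => peq (pmul P rep7) (pmul rep7 P)

theorem norm7_ok : nodupB (norm7List.map canon) = true ∧ norm7List.length = 126 ∧
    nodupB (cent7List.map canon) = true ∧ cent7List.length = 42 ∧
    (trioList.any (Nat.beq sevenTrio) && norm7List.all fun P =>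
      sameB ((parts 3 sevenTrio).map (pmask P)) (parts 3 sevenTrio)) = true := by decide +kernel

theorem seven_noncomm : (memB seven1 && memB seven2 && peq (pmul seven1 rep7) (pmul rep7 seven1) &&
    peq (pmul seven2 rep7) (pmul rep7 seven2) && !peq (pmul seven1 seven2) (pmul seven2 seven1))
      = true := by decide +kernel

/-- `g` normalises the subgroup generated by `x` -/
def Norm7 (x g : Equiv.Perm GolayPt) : Prop := ∃ k < 6, g * x = x ^ (k + 1) * g

theorem norm7_complete {x g : Equiv.Perm GolayPt} (hx : Reps rep7 x) (hg : g ∈ M24)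
    (hn : Norm7 x g) : ∃ P ∈ norm7List, Reps P g := by
  obtain ⟨k, hk, e⟩ := hn
  have hR := pow7_reps hx (k + 1)
  have hmem : pow7 (k + 1) ∈ pows7 := List.mem_map.mpr ⟨k, List.mem_range.mpr hk, rfl⟩
  obtain ⟨P, hP, hPR⟩ := search_complete normF hg (fun l hl Q hQ => by
    rw [normF, List.any_eq_true]
    refine ⟨_, hmem, ?_⟩
    rw [List.all_eq_true]
    intro i hi
    have hi' := List.mem_range.mp hi
    rw [Bool.or_eq_true]
    by_cases h : l < pap rep7 i
    · exact Or.inl (Nat.ble_eq_true_of_le h)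
    · refine Or.inr ?_
      rw [hQ i (by omega), hQ (pap rep7 i) (by omega), hx i (by omega), hR _ (idxN_lt _),
        ptN_idxN, ptN_idxN, ← Equiv.Perm.mul_apply, ← Equiv.Perm.mul_apply, e]
      exact Nat.beq_refl _)
  refine ⟨P, List.mem_filter.mpr ⟨hP, List.any_eq_true.mpr ⟨_, hmem, ?_⟩⟩, hPR⟩
  exact (e ▸ hPR.mul hx).peq_of_eq (hR.mul hPR)

theorem norm7_sound {x : Equiv.Perm GolayPt} (hx : Reps rep7 x) {P : ℕ} (hP : P ∈ norm7List) :
    ∃ g, (g ∈ M24 ∧ Norm7 x g) ∧ Reps P g := by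
  obtain ⟨hs, hb⟩ := List.mem_filter.mp hP
  obtain ⟨g, hg, hR⟩ := search_sound _ hs
  obtain ⟨R, hR', hb⟩ := List.any_eq_true.mp hb
  obtain ⟨k, hk, rfl⟩ := List.mem_map.mp hR'
  exact ⟨g, ⟨hg, k, List.mem_range.mp hk,
    (hR.mul hx).eq_of_peq ((pow7_reps hx (k + 1)).mul hR) hb⟩, hR⟩

theorem card_norm7 {x : Equiv.Perm GolayPt} (hx : Reps rep7 x) :
    Nat.card {g : Equiv.Perm GolayPt // g ∈ M24 ∧ Norm7 x g} = 126 := by
  rw [card_of_list _ norm7List norm7_ok.1 (fun P hP => norm7_sound hx hP)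
    (fun g h => norm7_complete hx h.1 h.2), norm7_ok.2.1]

theorem card_cent7 {x : Equiv.Perm GolayPt} (hx : Reps rep7 x) :
    Nat.card {g : Equiv.Perm GolayPt // g ∈ M24 ∧ g * x = x * g} = 42 := by
  rw [card_of_list _ cent7List norm7_ok.2.2.1 (fun P hP => ?_) (fun g h => ?_), norm7_ok.2.2.2.1]
  · obtain ⟨hl, hb⟩ := List.mem_filter.mp hP
    obtain ⟨g, ⟨hg, -⟩, hR⟩ := norm7_sound hx hl
    exact ⟨g, ⟨hg, (hR.mul hx).eq_of_peq (hx.mul hR) hb⟩, hR⟩
  · obtain ⟨P, hP, hR⟩ := norm7_complete hx h.1 ⟨0, by norm_num, by rw [pow_one]; exact h.2⟩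
    exact ⟨P, List.mem_filter.mpr ⟨hP, (h.2 ▸ hR.mul hx).peq_of_eq (hx.mul hR)⟩, hR⟩

theorem norm7_fixes_trio {x g : Equiv.Perm GolayPt} (hx : Reps rep7 x) (hg : g ∈ M24)
    (hn : Norm7 x g) : g • famOf 3 sevenTrio = famOf 3 sevenTrio := by
  obtain ⟨P, hP, hR⟩ := norm7_complete hx hg hn
  have h := norm7_ok.2.2.2.2
  rw [Bool.and_eq_true] at h
  rw [famOf, ← famList_smul hR, famList_eq_iff (fun m hm => ?_) (parts_lt 3 sevenTrio)]
  · exact List.all_eq_true.mp h.2 P hP
  · obtain ⟨m', -, rfl⟩ := List.mem_map.mp hm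
    exact hR.pmask_lt m'

/-- every subgroup of order seven is conjugate to the standard one -/
theorem seven_conj {S : Subgroup ↥M24} (hS : Nat.card S = 7) :
    ∃ s : ↥M24, S = Subgroup.zpowers s ∧ orderOf s = 7 ∧
      ∃ u ∈ M24, Reps rep7 (u * (s : Equiv.Perm GolayPt) * u⁻¹) := by
  haveI : Fact (Nat.Prime 7) := ⟨by norm_num⟩
  have hok := pows7_ok
  simp only [Bool.and_eq_true, Bool.not_eq_true'] at hok
  obtain ⟨x, hxM, hx⟩ := exists_perm_of_memB hok.1.1
  have hne : x ≠ 1 := fun e => by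
    subst e
    rw [hx.peq_of_eq reps_one] at hok
    exact Bool.noConfusion hok.2
  have h7 : x ^ 7 = 1 := (pow7_reps hx 7).eq_of_peq reps_one hok.1.2
  have ho : orderOf (⟨x, hxM⟩ : ↥M24) = 7 :=
    orderOf_eq_prime (Subtype.ext h7) fun e => hne (congrArg Subtype.val e)
  have hsylow : ∀ T : Subgroup ↥M24, Nat.card T = 7 → ∃ P : Sylow 7 ↥M24, (P : Subgroup ↥M24) = T := by
    intro T hT
    have hp : IsPGroup 7 T := IsPGroup.of_card (n := 1) (by rw [hT, pow_one])
    obtain ⟨P, hP⟩ := hp.exists_le_sylow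
    refine ⟨P, (Subgroup.eq_of_le_of_card_ge hP ?_).symm⟩
    obtain ⟨n, hn⟩ := IsPGroup.iff_card.mp P.isPGroup'
    have hdvd : 7 ^ n ∣ 244823040 := by
      rw [← H90.natCard_M24, ← hn]; exact Subgroup.card_subgroup_dvd_card _
    rw [hn, hT]
    by_contra hlt
    rcases n with _ | _ | n
    · simp at hlt
    · simp at hlt
    · exact absurd ((pow_dvd_pow 7 (show 2 ≤ n + 2 by omega)).trans hdvd) (by norm_num)
  obtain ⟨P, hP⟩ := hsylow S hS
  obtain ⟨P0, hP0⟩ := hsylow (Subgroup.zpowers (⟨x, hxM⟩ : ↥M24)) (by rw [Nat.card_zpowers, ho])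
  obtain ⟨w, hw⟩ := MulAction.exists_smul_eq ↥M24 P0 P
  have hmap : S = MulAut.conj w • Subgroup.zpowers (⟨x, hxM⟩ : ↥M24) := by
    rw [← hP, ← hw, ← hP0]; rfl
  have hs : MulAut.conj w (⟨x, hxM⟩ : ↥M24) ∈ S := by
    rw [hmap]; exact Subgroup.smul_mem_pointwise_smul _ _ _ (Subgroup.mem_zpowers _)
  have hos : orderOf (MulAut.conj w (⟨x, hxM⟩ : ↥M24)) = 7 := by rw [MulEquiv.orderOf_eq, ho]
  refine ⟨MulAut.conj w ⟨x, hxM⟩, ?_, hos, (w : Equiv.Perm GolayPt)⁻¹, M24.inv_mem w.2, ?_⟩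
  · exact (Subgroup.eq_of_le_of_card_ge (Subgroup.zpowers_le.mpr hs)
      (by rw [Nat.card_zpowers, hos, hS])).symm
  · convert hx using 1
    simp [mul_assoc]

/-- normalising a subgroup of order seven, on a generator -/
theorem mem_normalizer_seven {S : Subgroup ↥M24} {s : ↥M24} (hS : S = Subgroup.zpowers s)
    (ho : orderOf s = 7) (n : ↥M24) :
    n ∈ Subgroup.normalizer (S : Set ↥M24) ↔ ∃ k < 6, n * s = s ^ (k + 1) * n := by
  haveI : Fact (Nat.Prime 7) := ⟨by norm_num⟩
  subst hS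
  constructor
  · intro hn
    have h := (Subgroup.mem_normalizer_iff.mp hn s).mp (Subgroup.mem_zpowers s)
    rw [← mem_powers_iff_mem_zpowers, Submonoid.mem_powers_iff] at h
    obtain ⟨j, hj⟩ := h
    rw [← pow_mod_orderOf, ho] at hj
    have hj7 : j % 7 < 7 := Nat.mod_lt _ (by norm_num)
    have hj0 : j % 7 ≠ 0 := fun e => by
      rw [e, pow_zero, eq_comm, conj_eq_one_iff] at hj
      rw [hj, orderOf_one] at ho
      omega
    refine ⟨j % 7 - 1, by omega, ?_⟩
    rw [show j % 7 - 1 + 1 = j % 7 by omega, hj, inv_mul_cancel_right]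
  · rintro ⟨k, hk, e⟩
    have hc : n * s * n⁻¹ = s ^ (k + 1) := by rw [e, mul_inv_cancel_right]
    have hgen : Subgroup.zpowers (s ^ (k + 1)) = Subgroup.zpowers s := by
      refine Subgroup.eq_of_le_of_card_ge (Subgroup.zpowers_le.mpr
        (Subgroup.pow_mem _ (Subgroup.mem_zpowers s) _)) ?_
      rw [Nat.card_zpowers, Nat.card_zpowers, ho, ← hc, ← MulAut.conj_apply, MulEquiv.orderOf_eq, ho]
    rw [Subgroup.mem_normalizer_iff]
    intro h
    rw [Subgroup.mem_zpowers_iff, ← hgen,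
      Subgroup.mem_zpowers_iff]
    constructor
    · rintro ⟨j, rfl⟩
      exact ⟨j, by rw [← hc]; exact (map_zpow (MulAut.conj n) s j).symm⟩
    · rintro ⟨j, hj⟩
      refine ⟨j, (MulAut.conj n).injective ?_⟩
      rw [map_zpow, MulAut.conj_apply, MulAut.conj_apply, hc]
      exact hj

end H94
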