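import Cfsg.Agent.H94.Chain

/-!
Byte tables for fast images of masks.
-/

set_option autoImplicit false

namespace H94

open Cfsg
open scoped Pointwise

/-- entry `x` of a table -/
def tget (T x : ℕ) : ℕ := Nat.land (Nat.shiftRight T (Nat.mul 24 x)) 16777215

/-- image of a mask by three byte tables -/
def tmask (T : ℕ × ℕ × ℕ) (m : ℕ) : ℕ :=
  Nat.lor (Nat.lor (tget T.1 (Nat.land m 255)) (tget T.2.1 (Nat.land (Nat.shiftRight m 8) 255)))
    (tget T.2.2 (Nat.land (Nat.shiftRight m 16) 255))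

/-- the tables `T` belong to the packed permutation `P` -/
noncomputable def tabOK (P : ℕ) (T : ℕ × ℕ × ℕ) : Bool :=
  (List.range 256).all fun x => Nat.beq (tget T.1 x) (pmask P x) &&
    Nat.beq (tget T.2.1 x) (pmask P (Nat.shiftLeft x 8)) &&
    Nat.beq (tget T.2.2 x) (pmask P (Nat.shiftLeft x 16))

theorem pmask_or (P a b : ℕ) : pmask P (a ||| b) = pmask P a ||| pmask P b := by
  apply Nat.eq_of_testBit_eq
  intro j
  rw [Nat.testBit_or, Bool.eq_iff_iff, Bool.or_eq_true]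
  simp only [pmask, testBit_pmaskAux, Nat.testBit_or, Bool.or_eq_true]
  constructor
  · rintro ⟨i, hi, hb | hb, he⟩
    · exact Or.inl ⟨i, hi, hb, he⟩
    · exact Or.inr ⟨i, hi, hb, he⟩
  · rintro (⟨i, hi, hb, he⟩ | ⟨i, hi, hb, he⟩)
    · exact ⟨i, hi, Or.inl hb, he⟩
    · exact ⟨i, hi, Or.inr hb, he⟩

theorem tmask_eq {P : ℕ} {T : ℕ × ℕ × ℕ} (h : tabOK P T = true) {m : ℕ} (hm : m < 2 ^ 24) :
    tmask T m = pmask P m := by
  have h255 : ∀ y : ℕ, y &&& 255 < 256 := fun y =>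
    Nat.lt_succ_of_le Nat.and_le_right
  have key : ∀ x < 256, tget T.1 x = pmask P x ∧ tget T.2.1 x = pmask P (x <<< 8) ∧
      tget T.2.2 x = pmask P (x <<< 16) := by
    intro x hx
    have := List.all_eq_true.mp h x (List.mem_range.mpr hx)
    simp only [Bool.and_eq_true] at this
    exact ⟨Nat.eq_of_beq_eq_true this.1.1, Nat.eq_of_beq_eq_true this.1.2,
      Nat.eq_of_beq_eq_true this.2⟩
  show tget T.1 (m &&& 255) ||| tget T.2.1 ((m >>> 8) &&& 255) |||
    tget T.2.2 ((m >>> 16) &&& 255) = _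
  rw [(key _ (h255 m)).1, (key _ (h255 (m >>> 8))).2.1, (key _ (h255 (m >>> 16))).2.2,
    ← pmask_or, ← pmask_or]
  congr 1
  apply Nat.eq_of_testBit_eq
  intro i
  simp only [Nat.testBit_or, Nat.testBit_shiftLeft, Nat.testBit_and, Nat.testBit_shiftRight,
    show (255 : ℕ) = 2 ^ 8 - 1 from rfl, Nat.testBit_two_pow_sub_one]
  by_cases h24 : i < 24
  · rcases (show i < 8 ∨ (8 ≤ i ∧ i < 16) ∨ 16 ≤ i by omega) with h1 | ⟨h1, h2⟩ | h1
    · simp [h1, show ¬ 16 ≤ i by omega, show ¬ 8 ≤ i by omega]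
    · simp [h1, show ¬ i < 8 by omega, show ¬ 16 ≤ i by omega, show i - 8 < 8 by omega]
    · simp [h1, show ¬ i < 8 by omega, show 8 ≤ i by omega, show ¬ i - 8 < 8 by omega,
        show i - 16 < 8 by omega]
  · have hp : 2 ^ 24 ≤ 2 ^ i := Nat.pow_le_pow_right (by norm_num) (by omega)
    simp [show ¬ i < 8 by omega, show ¬ i - 8 < 8 by omega, show ¬ i - 16 < 8 by omega,
      Nat.testBit_lt_two_pow (lt_of_lt_of_le hm hp)]

end H94
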