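import Cfsg.Agent.H94.DodFacts
import Cfsg.Agent.H94.Trans5
import Cfsg.Agent.H94.ClassData

/-!
The classes of elements of orders three and two in `M24`, and invariant objects of an element.
-/

set_option autoImplicit false

namespace H94

open Cfsg
open scoped Pointwise

/-- filter fixing the images of the first positions -/
def imgF (L : List ℕ) (l Q : ℕ) : Bool := Nat.ble L.length l || Nat.beq (pap Q l) (L.getD l 0)

/-- `P` is conjugated to one of `reps` by one of `certs` -/
noncomputable def conjB (reps certs : List ℕ) (P : ℕ) : Bool :=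
  reps.any fun r => certs.any fun c => peq (pmul c P) (pmul r c)

/-- `P` moves a position `≥ n` -/
def movesB (n P : ℕ) : Bool := (List.range 24).any fun i => Nat.ble n i && !Nat.beq (pap P i) i

theorem conjData_ok : ([rep3six, rep3free, rep2eight, rep2free].all memB &&
    (conj3.all memB && conj2.all memB)) = true := by decide +kernel

theorem class3_ok : ((search (imgF [1, 2, 0, 4])).all fun P =>
    !peq (pmul P (pmul P P)) pone || conjB [rep3six, rep3free] conj3 P) = true := by decide +kernel

theorem class2_ok : ((search (imgF [1, 0, 3, 2])).all fun P =>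
    !peq (pmul P P) pone || conjB [rep2eight, rep2free] conj2 P) = true := by decide +kernel

theorem single3_ok : (search (imgF [1, 2, 0, 3, 4])).all (movesB 5) = true := by decide +kernel

theorem single2_ok : (search (imgF [1, 0, 2, 3, 4])).all (movesB 5) = true := by decide +kernel

theorem imgF_spec {g : Equiv.Perm GolayPt} {L : List ℕ}
    (h : ∀ i < L.length, idxN (g (ptN i)) = L.getD i 0) :
    ∀ l, l < 5 → ∀ Q, Agree g (l + 1) Q → imgF L l Q = true := by
  intro l _ Q hQ
  rw [imgF, Bool.or_eq_true]
  by_cases hl : L.length ≤ l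
  · exact Or.inl (Nat.ble_eq_true_of_le hl)
  · exact Or.inr (by rw [hQ l (by omega), h l (by omega)]; exact Nat.beq_refl _)

/-- An element with a given start outside of which nothing is moved is impossible. -/
theorem no_single {g : Equiv.Perm GolayPt} (hg : g ∈ M24) {L : List ℕ}
    (hok : (search (imgF L)).all (movesB 5) = true)
    (h : ∀ i < L.length, idxN (g (ptN i)) = L.getD i 0)
    (hfix : ∀ i < 24, 5 ≤ i → g (ptN i) = ptN i) : False := by
  obtain ⟨Q, hQ, hR⟩ := search_complete _ hg (imgF_spec h)
  obtain ⟨i, hi, hb⟩ := List.any_eq_true.mp (List.all_eq_true.mp hok Q hQ)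
  rw [Bool.and_eq_true, Bool.not_eq_true'] at hb
  have hi' := List.mem_range.mp hi
  have := hR i hi'
  rw [hfix i hi' (Nat.le_of_ble_eq_true hb.1), idxN_ptN hi'] at this
  rw [this, Nat.beq_refl] at hb
  exact Bool.noConfusion hb.2

theorem conjB_spec {g : Equiv.Perm GolayPt} {P : ℕ} {reps certs : List ℕ} (hR : Reps P g)
    (hc : ∀ c ∈ certs, memB c = true) (hr : ∀ r ∈ reps, memB r = true)
    (h : conjB reps certs P = true) :
    ∃ r ∈ reps, ∃ u ∈ M24, Reps r (u * g * u⁻¹) := by
  obtain ⟨r, hr', h⟩ := List.any_eq_true.mp h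
  obtain ⟨c, hc', h⟩ := List.any_eq_true.mp h
  obtain ⟨u, hu, hcu⟩ := exists_perm_of_memB (hc c hc')
  obtain ⟨ρ, -, hρ⟩ := exists_perm_of_memB (hr r hr')
  have e : u * g = ρ * u := (hcu.mul hR).eq_of_peq (hρ.mul hcu) h
  exact ⟨r, hr', u, hu, by rw [e, mul_inv_cancel_right]; exact hρ⟩

theorem exists_other (s : Finset GolayPt) (h : s.card < 24) : ∃ p, p ∉ s := by
  by_contra hh
  push Not at hh
  rw [Finset.eq_univ_of_forall hh] at h
  simp [GolayPt] at h

/-- conjugating by a base change -/
theorem conj_start (g : Equiv.Perm GolayPt) (a : ℕ → GolayPt)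
    (hinj : ∀ i < 5, ∀ j < 5, a i = a j → i = j) :
    ∃ h ∈ M24, (∀ i < 5, h (ptN i) = a i) ∧
      ∀ i < 5, ∀ j < 5, g (a i) = a j → idxN ((h⁻¹ * g * h) (ptN i)) = j := by
  obtain ⟨h, hh, hha⟩ := exists_five_images a 5 le_rfl hinj
  refine ⟨h, hh, hha, fun i hi j hj e => ?_⟩
  rw [Equiv.Perm.mul_apply, Equiv.Perm.mul_apply, hha i hi, e, ← hha j hj, Equiv.Perm.inv_def,
    Equiv.symm_apply_apply, idxN_ptN (by omega)]

/-- Every element of order three is conjugate to one of the two representatives. -/
theorem class_three {g : Equiv.Perm GolayPt} (hg : g ∈ M24) (h3 : g ^ 3 = 1) (hne : g ≠ 1) :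
    ∃ r ∈ [rep3six, rep3free], ∃ u ∈ M24, Reps r (u * g * u⁻¹) := by
  obtain ⟨a, ha⟩ : ∃ a, g a ≠ a := by
    by_contra hh
    push Not at hh
    exact hne (Equiv.ext hh)
  have hggg : ∀ p, g (g (g p)) = p := fun p => by
    have := congrArg (fun f : Equiv.Perm GolayPt => f p) h3
    simpa [pow_succ, Equiv.Perm.mul_apply] using this
  have hab : a ≠ g a := Ne.symm ha
  have hbc : g a ≠ g (g a) := fun e => hab (g.injective e)
  have hca : g (g a) ≠ a := fun e => ha (by
    have := hggg a
    rw [e] at this
    exact this)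
  by_cases hex : ∃ d, d ≠ a ∧ d ≠ g a ∧ d ≠ g (g a) ∧ g d ≠ d
  · obtain ⟨d, hda, hdb, hdc, hd⟩ := hex
    have h1 : g d ≠ a := fun e => hdc (g.injective (e.trans (hggg a).symm))
    have h2 : g d ≠ g a := fun e => hda (g.injective e)
    have h3' : g d ≠ g (g a) := fun e => hdb (g.injective e)
    obtain ⟨h, hh, hha, hconj⟩ := conj_start g (fun i => [a, g a, g (g a), d, g d].getD i a) (by
      intro i hi j hj e
      interval_cases i <;> interval_cases j <;> simp at e <;>
        first | rfl | exact absurd e (by assumption) | exact absurd e.symm (by assumption))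
    have hgM : h⁻¹ * g * h ∈ M24 := M24.mul_mem (M24.mul_mem (M24.inv_mem hh) hg) hh
    have himg : ∀ i < [1, 2, 0, 4].length, idxN ((h⁻¹ * g * h) (ptN i)) = [1, 2, 0, 4].getD i 0 := by
      intro i hi
      simp at hi
      interval_cases i
      · exact hconj 0 (by norm_num) 1 (by norm_num) rfl
      · exact hconj 1 (by norm_num) 2 (by norm_num) rfl
      · exact hconj 2 (by norm_num) 0 (by norm_num) (hggg a)
      · exact hconj 3 (by norm_num) 4 (by norm_num) rfl
    obtain ⟨Q, hQ, hR⟩ := search_complete _ hgM (imgF_spec himg)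
    have hc := List.all_eq_true.mp class3_ok Q hQ
    have hq3 : peq (pmul Q (pmul Q Q)) pone = true := by
      have e : (h⁻¹ * g * h) * ((h⁻¹ * g * h) * (h⁻¹ * g * h)) = 1 := by
        rw [pow_succ', pow_two] at h3
        simp only [mul_assoc, mul_inv_cancel_left]
        rw [show g * (g * (g * h)) = g * (g * g) * h by simp only [mul_assoc], h3, one_mul,
          inv_mul_cancel]
      exact (e ▸ hR.mul (hR.mul hR)).peq_of_eq reps_one
    rw [hq3, Bool.not_true, Bool.false_or] at hc
    have hd := conjData_ok
    simp only [Bool.and_eq_true, List.all_eq_true] at hd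
    obtain ⟨r, hr, u, hu, hru⟩ := conjB_spec hR hd.2.1 (fun r hr => hd.1 r (by
      simp only [List.mem_cons, List.not_mem_nil, or_false] at hr ⊢; tauto)) hc
    refine ⟨r, hr, u * h⁻¹, M24.mul_mem hu (M24.inv_mem hh), ?_⟩
    have e : u * h⁻¹ * g * (u * h⁻¹)⁻¹ = u * (h⁻¹ * g * h) * u⁻¹ := by group
    rw [e]; exact hru
  · push Not at hex
    obtain ⟨d, hd⟩ := exists_other {a, g a, g (g a)} (lt_of_le_of_lt Finset.card_le_three (by norm_num))
    obtain ⟨e, he⟩ := exists_other {a, g a, g (g a), d} (lt_of_le_of_lt Finset.card_le_four (by norm_num))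
    simp only [Finset.mem_insert, Finset.mem_singleton, not_or] at hd he
    obtain ⟨hda, hdb, hdc⟩ := hd
    obtain ⟨hea, heb, hec, hed⟩ := he
    obtain ⟨h, hh, hha, hconj⟩ := conj_start g (fun i => [a, g a, g (g a), d, e].getD i a) (by
      intro i hi j hj he
      interval_cases i <;> interval_cases j <;> simp at he <;>
        first | rfl | exact absurd he (by assumption) | exact absurd he.symm (by assumption))
    have hgM : h⁻¹ * g * h ∈ M24 := M24.mul_mem (M24.mul_mem (M24.inv_mem hh) hg) hh
    have hd' : g d = d := hex d hda hdb hdc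
    have he' : g e = e := hex e hea heb hec
    have h0 := hconj 0 (by norm_num) 1 (by norm_num) rfl
    have h1 := hconj 1 (by norm_num) 2 (by norm_num) rfl
    have h2 := hconj 2 (by norm_num) 0 (by norm_num) (hggg a)
    exfalso
    refine no_single hgM single3_ok (fun i hi => ?_) (fun i hi h5 => ?_)
    · simp at hi
      interval_cases i
      · exact h0
      · exact h1
      · exact h2
      · exact hconj 3 (by norm_num) 3 (by norm_num) hd'
      · exact hconj 4 (by norm_num) 4 (by norm_num) he'
    · have key : ∀ j < 3, h (ptN i) ≠ h (ptN j) := fun j hj e => by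
        have := ptN_inj hi (by omega) (h.injective e); omega
      have hp : g (h (ptN i)) = h (ptN i) :=
        hex _ (fun e => key 0 (by norm_num) (e.trans (hha 0 (by norm_num)).symm))
          (fun e => key 1 (by norm_num) (e.trans (hha 1 (by norm_num)).symm))
          (fun e => key 2 (by norm_num) (e.trans (hha 2 (by norm_num)).symm))
      rw [Equiv.Perm.mul_apply, Equiv.Perm.mul_apply, hp, Equiv.Perm.inv_def,
        Equiv.symm_apply_apply]

/-- Every involution is conjugate to one of the two representatives. -/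
theorem class_two {g : Equiv.Perm GolayPt} (hg : g ∈ M24) (h2 : g ^ 2 = 1) (hne : g ≠ 1) :
    ∃ r ∈ [rep2eight, rep2free], ∃ u ∈ M24, Reps r (u * g * u⁻¹) := by
  obtain ⟨a, ha⟩ : ∃ a, g a ≠ a := by
    by_contra hh
    push Not at hh
    exact hne (Equiv.ext hh)
  have hgg : ∀ p, g (g p) = p := fun p => by
    have := congrArg (fun f : Equiv.Perm GolayPt => f p) h2
    simpa [pow_succ, Equiv.Perm.mul_apply] using this
  have hab : a ≠ g a := Ne.symm ha
  by_cases hex : ∃ d, d ≠ a ∧ d ≠ g a ∧ g d ≠ d
  · obtain ⟨d, hda, hdb, hd⟩ := hex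
    have h1 : g d ≠ a := fun e => hdb (g.injective (e.trans (hgg a).symm))
    have h2' : g d ≠ g a := fun e => hda (g.injective e)
    obtain ⟨e, he⟩ := exists_other {a, g a, d, g d} (lt_of_le_of_lt Finset.card_le_four (by norm_num))
    simp only [Finset.mem_insert, Finset.mem_singleton, not_or] at he
    obtain ⟨hea, heb, hec, hed⟩ := he
    obtain ⟨h, hh, hha, hconj⟩ := conj_start g (fun i => [a, g a, d, g d, e].getD i a) (by
      intro i hi j hj he
      interval_cases i <;> interval_cases j <;> simp at he <;>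
        first | rfl | exact absurd he (by assumption) | exact absurd he.symm (by assumption))
    have hgM : h⁻¹ * g * h ∈ M24 := M24.mul_mem (M24.mul_mem (M24.inv_mem hh) hg) hh
    have himg : ∀ i < [1, 0, 3, 2].length,
        idxN ((h⁻¹ * g * h) (ptN i)) = [1, 0, 3, 2].getD i 0 := by
      intro i hi
      simp at hi
      interval_cases i
      · exact hconj 0 (by norm_num) 1 (by norm_num) rfl
      · exact hconj 1 (by norm_num) 0 (by norm_num) (hgg a)
      · exact hconj 2 (by norm_num) 3 (by norm_num) rfl
      · exact hconj 3 (by norm_num) 2 (by norm_num) (hgg d)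
    obtain ⟨Q, hQ, hR⟩ := search_complete _ hgM (imgF_spec himg)
    have hc := List.all_eq_true.mp class2_ok Q hQ
    have hq2 : peq (pmul Q Q) pone = true := by
      have e : (h⁻¹ * g * h) * (h⁻¹ * g * h) = 1 := by
        rw [pow_two] at h2
        simp only [mul_assoc, mul_inv_cancel_left]
        rw [← mul_assoc g g, h2, one_mul, inv_mul_cancel]
      exact (e ▸ hR.mul hR).peq_of_eq reps_one
    rw [hq2, Bool.not_true, Bool.false_or] at hc
    have hd := conjData_ok
    simp only [Bool.and_eq_true, List.all_eq_true] at hd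
    obtain ⟨r, hr, u, hu, hru⟩ := conjB_spec hR hd.2.2 (fun r hr => hd.1 r (by
      simp only [List.mem_cons, List.not_mem_nil, or_false] at hr ⊢; tauto)) hc
    refine ⟨r, hr, u * h⁻¹, M24.mul_mem hu (M24.inv_mem hh), ?_⟩
    have e : u * h⁻¹ * g * (u * h⁻¹)⁻¹ = u * (h⁻¹ * g * h) * u⁻¹ := by group
    rw [e]; exact hru
  · push Not at hex
    obtain ⟨c, hc⟩ := exists_other {a, g a} (lt_of_le_of_lt Finset.card_le_two (by norm_num))
    obtain ⟨d, hd⟩ := exists_other {a, g a, c} (lt_of_le_of_lt Finset.card_le_three (by norm_num))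
    obtain ⟨e, he⟩ := exists_other {a, g a, c, d} (lt_of_le_of_lt Finset.card_le_four (by norm_num))
    simp only [Finset.mem_insert, Finset.mem_singleton, not_or] at hc hd he
    obtain ⟨hca, hcb⟩ := hc
    obtain ⟨hda, hdb, hdc⟩ := hd
    obtain ⟨hea, heb, hec, hed⟩ := he
    obtain ⟨h, hh, hha, hconj⟩ := conj_start g (fun i => [a, g a, c, d, e].getD i a) (by
      intro i hi j hj he
      interval_cases i <;> interval_cases j <;> simp at he <;>
        first | rfl | exact absurd he (by assumption) | exact absurd he.symm (by assumption))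
    have hgM : h⁻¹ * g * h ∈ M24 := M24.mul_mem (M24.mul_mem (M24.inv_mem hh) hg) hh
    exfalso
    refine no_single hgM single2_ok (fun i hi => ?_) (fun i hi h5 => ?_)
    · simp at hi
      interval_cases i
      · exact hconj 0 (by norm_num) 1 (by norm_num) rfl
      · exact hconj 1 (by norm_num) 0 (by norm_num) (hgg a)
      · exact hconj 2 (by norm_num) 2 (by norm_num) (hex c hca hcb)
      · exact hconj 3 (by norm_num) 3 (by norm_num) (hex d hda hdb)
      · exact hconj 4 (by norm_num) 4 (by norm_num) (hex e hea heb)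
    · have key : ∀ j < 2, h (ptN i) ≠ h (ptN j) := fun j hj e => by
        have := ptN_inj hi (by omega) (h.injective e); omega
      have hp : g (h (ptN i)) = h (ptN i) :=
        hex _ (fun e => key 0 (by norm_num) (e.trans (hha 0 (by norm_num)).symm))
          (fun e => key 1 (by norm_num) (e.trans (hha 1 (by norm_num)).symm))
      rw [Equiv.Perm.mul_apply, Equiv.Perm.mul_apply, hp, Equiv.Perm.inv_def,
        Equiv.symm_apply_apply]

end H94
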