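import Cfsg.Agent.H94.Perm

/-! Elements stabilising an octad or a dodecad. -/

set_option autoImplicit false

namespace H94

def octStabGens : List ℕ := [646691268673134299901224603191680129, 482260268608059817348070542812480522, 278455036974773499692234604051267714]

def dodStabGens : List ℕ := [850713624823444371179877476407969897, 858604728660852943379353304584881570]

end H94
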