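import Cfsg.Agent.H94.DodFacts
import Cfsg.Agent.H94.CosetData

/-!
The stabiliser of an octad or of a dodecad fixes no non-trivial coset of the code.
-/

set_option autoImplicit false

namespace H94

open Cfsg
open scoped Pointwise

/-- `σ` acting on words -/
def actW (σ : Equiv.Perm GolayPt) (w : GolayPt → ZMod 2) : GolayPt → ZMod 2 :=
  fun p => w (σ.symm p)

theorem actW_wordOf {P : ℕ} {g : Equiv.Perm GolayPt} (hR : Reps P g) (m : ℕ) :
    actW g (H90.wordOf m) = H90.wordOf (pmask P m) := by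
  apply H90.support₂_injective
  rw [H90.support₂_wordOf, hR.setOf']
  ext q
  simp only [support₂, actW, Finset.mem_filter, Finset.mem_univ, true_and, H90.wordOf,
    Finset.mem_smul_finset, H90.mem_setOf', Equiv.Perm.smul_def, ne_eq, ite_eq_right_iff,
    one_ne_zero, imp_false, not_not]
  constructor
  · intro hq; exact ⟨g.symm q, hq, g.apply_symm_apply q⟩
  · rintro ⟨p, hp, rfl⟩; rwa [g.symm_apply_apply]

/-- every non-zero standard coset word is moved by one of the generators -/
noncomputable def movedB (gens : List ℕ) : Bool :=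
  (List.range 4096).all fun k => Nat.beq k 0 || gens.any fun P =>
    !H90.isCode (Nat.xor (pmask P (Nat.mul k 4096)) (Nat.mul k 4096))

theorem octMoved_ok : (octStabGens.all (fun P => memB P && Nat.beq (pmask P 5279) 5279) &&
    octB 5279 && movedB octStabGens) = true := by decide +kernel

theorem dodMoved_ok : (dodStabGens.all (fun P => memB P && Nat.beq (pmask P 340831) 340831) &&
    dodB 340831 && movedB dodStabGens) = true := by decide +kernel

theorem coset_moved {gens : List ℕ} {z : ℕ}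
    (hok : (gens.all fun P => memB P && Nat.beq (pmask P z) z) = true) (hm : movedB gens = true)
    {w : GolayPt → ZMod 2} (hw : w ∉ golayCode) :
    ∃ g ∈ M24, g • H90.setOf' z = H90.setOf' z ∧ actW g w - w ∉ golayCode := by
  obtain ⟨M, hM⟩ : ∃ M, M = H90.maskOf w := ⟨_, rfl⟩
  have hn : M % 4096 < 4096 := Nat.mod_lt _ (by norm_num)
  have hc := H90.wordOf_encode_mem (M % 4096)
  obtain ⟨m, hmdef⟩ : ∃ m, m = M ^^^ H90.encode (M % 4096) := ⟨_, rfl⟩
  have hmlt : m < 2 ^ 24 := hmdef ▸ Nat.xor_lt_two_pow (hM ▸ H90.maskOf_lt w) (H90.encode_lt hn)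
  have hlow : m % 4096 = 0 := by
    rw [hmdef, show (4096 : ℕ) = 2 ^ 12 from rfl, Nat.xor_mod_two_pow,
      show (2 : ℕ) ^ 12 = 4096 from rfl, H90.encode_mod hn, Nat.xor_self]
  have hwm : w = H90.wordOf m + H90.wordOf (H90.encode (M % 4096)) := by
    rw [← H90.wordOf_xor, hmdef, Nat.xor_assoc, Nat.xor_self, Nat.xor_zero, hM, H90.wordOf_maskOf]
  have hk0 : m / 4096 ≠ 0 := fun e => by
    have : m = 0 := by omega
    rw [this, H90.wordOf_zero, zero_add] at hwm
    exact hw (hwm ▸ hc)
  have h := List.all_eq_true.mp hm (m / 4096) (List.mem_range.mpr (by omega))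
  rw [show Nat.beq (m / 4096) 0 = false by
    rw [← Bool.not_eq_true]; exact fun h => hk0 (Nat.eq_of_beq_eq_true h), Bool.false_or] at h
  obtain ⟨P, hP, hb⟩ := List.any_eq_true.mp h
  rw [show Nat.mul (m / 4096) 4096 = m by show m / 4096 * 4096 = m; omega,
    Bool.not_eq_true'] at hb
  have hv := List.all_eq_true.mp hok P hP
  rw [Bool.and_eq_true] at hv
  obtain ⟨g, hg, hR⟩ := exists_perm_of_memB hv.1
  refine ⟨g, hg, by rw [← hR.setOf', Nat.eq_of_beq_eq_true hv.2], fun hmem => ?_⟩
  have hlin : actW g w = H90.wordOf (pmask P m) + actW g (H90.wordOf (H90.encode (M % 4096))) := by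
    rw [← actW_wordOf hR]
    funext p
    exact congrFun hwm (g.symm p)
  have hxor : H90.wordOf (pmask P m ^^^ m) ∈ golayCode := by
    have hsub : ∀ a b : GolayPt → ZMod 2, a - b = a + b := fun a b => by
      funext p; exact CharTwo.sub_eq_add _ _
    have e : H90.wordOf (pmask P m ^^^ m) = (actW g w - w) -
        (actW g (H90.wordOf (H90.encode (M % 4096))) - H90.wordOf (H90.encode (M % 4096))) := by
      rw [hlin, H90.wordOf_xor, ← hsub]
      conv_rhs => arg 1; arg 2; rw [hwm]
      abel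
    rw [e]
    exact Submodule.sub_mem _ hmem (Submodule.sub_mem _ (H95.perm_symm_mem_code hg hc) hc)
  rw [H90.wordOf_mem_iff (Nat.xor_lt_two_pow (hR.pmask_lt m) hmlt)] at hxor
  rw [show Nat.xor (pmask P m) m = pmask P m ^^^ m from rfl, hxor] at hb
  exact Bool.noConfusion hb

/-- the stabiliser of an octad or dodecad, or of nothing, moves every non-trivial coset -/
theorem coset_moved' {s : Finset GolayPt} (hs : s = ∅ ∨ s ∈ octads ∨ s ∈ dodecads)
    {w : GolayPt → ZMod 2} (hw : w ∉ golayCode) :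
    ∃ σ ∈ M24, σ • s = s ∧ actW σ w - w ∉ golayCode := by
  have ho := octMoved_ok
  have hd := dodMoved_ok
  simp only [Bool.and_eq_true] at ho hd
  suffices key : ∀ (gens : List ℕ) (z : ℕ), (gens.all fun P => memB P && Nat.beq (pmask P z) z) = true →
      movedB gens = true → (∃ h ∈ M24, h • s = H90.setOf' z ∨ s = ∅) →
      ∃ σ ∈ M24, σ • s = s ∧ actW σ w - w ∉ golayCode by
    rcases hs with hs | hs | hs
    · exact key _ _ ho.1.1 ho.2 ⟨1, M24.one_mem, Or.inr hs⟩
    · obtain ⟨⟨h, hh⟩, hhs⟩ := octads_transitive hs (octB_mem ho.1.2)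
      exact key _ _ ho.1.1 ho.2 ⟨h, hh, Or.inl hhs⟩
    · obtain ⟨⟨h, hh⟩, hhs⟩ := dodecads_transitive hs (dodB_mem hd.1.2)
      exact key _ _ hd.1.1 hd.2 ⟨h, hh, Or.inl hhs⟩
  intro gens z h1 h2 ⟨h, hh, hhs⟩
  have hw' : actW h w ∉ golayCode := fun hm => hw (by
    have := H95.perm_symm_mem_code (M24.inv_mem hh) hm
    simpa [actW, Equiv.Perm.inv_def] using this)
  obtain ⟨g, hg, hgz, hgw⟩ := coset_moved h1 h2 hw'
  refine ⟨h⁻¹ * g * h, M24.mul_mem (M24.mul_mem (M24.inv_mem hh) hg) hh, ?_, fun hm => hgw ?_⟩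
  · rcases hhs with hhs | hhs
    · rw [mul_smul, mul_smul, hhs, hgz, inv_smul_eq_iff, hhs]
    · rw [hhs, Finset.smul_finset_empty]
  · have := H95.perm_symm_mem_code hh hm
    have e : actW g (actW h w) - actW h w =
        fun p => (actW (h⁻¹ * g * h) w - w) (h.symm p) := by
      funext p
      simp [actW, Equiv.Perm.inv_def, Equiv.Perm.mul_def]
    rw [e]; exact this

end H94
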