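import Mathlib

/-!
Recognising a symmetric group from a faithful action on a finite set.
-/

set_option autoImplicit false

namespace H94

open scoped Pointwise

variable {α : Type*} [DecidableEq α] (K : Subgroup (Equiv.Perm α)) (H : Subgroup K) (D : Finset α)
  (hinv : ∀ g ∈ H, (g : Equiv.Perm α) • D = D)

include hinv

theorem mem_iff_of_smul_eq {g : K} (hg : g ∈ H) (p : α) : (g : Equiv.Perm α) p ∈ D ↔ p ∈ D := by
  conv_lhs => rw [← hinv g hg, ← Equiv.Perm.smul_def, Finset.smul_mem_smul_finset_iff]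

/-- the action on `D` -/
def restrictHom : H →* Equiv.Perm ↥D where
  toFun g := (g.1 : Equiv.Perm α).subtypePerm (mem_iff_of_smul_eq K H D hinv g.2)
  map_one' := by ext; rfl
  map_mul' g h := by ext; rfl

theorem restrictHom_injective (hfaith : ∀ g ∈ H, (∀ p ∈ D, (g : Equiv.Perm α) p = p) → g = 1) :
    Function.Injective (restrictHom K H D hinv) := by
  rw [injective_iff_map_eq_one]
  intro g hg
  refine Subtype.ext (hfaith g.1 g.2 fun p hp => ?_)
  exact congrArg Subtype.val (Equiv.ext_iff.mp hg ⟨p, hp⟩)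

theorem iso_perm_of_faithful (n : ℕ) (hn : D.card = n)
    (hfaith : ∀ g ∈ H, (∀ p ∈ D, (g : Equiv.Perm α) p = p) → g = 1)
    (hsurj : ∀ σ : Equiv.Perm ↥D, ∃ g ∈ H, ∀ p : ↥D, (g : Equiv.Perm α) p = σ p) :
    Nonempty (H ≃* Equiv.Perm (Fin n)) := by
  refine ⟨(MulEquiv.ofBijective _ ⟨restrictHom_injective K H D hinv hfaith, ?_⟩).trans
    (Equiv.permCongrHom (Fintype.equivFinOfCardEq (by rw [Fintype.card_coe, hn])))⟩
  intro σ
  obtain ⟨g, hg, hgσ⟩ := hsurj σ
  exact ⟨⟨g, hg⟩, Equiv.ext fun p => Subtype.ext (hgσ p)⟩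

theorem iso_perm_of_card [Finite α] (n : ℕ) (hn : D.card = n)
    (hfaith : ∀ g ∈ H, (∀ p ∈ D, (g : Equiv.Perm α) p = p) → g = 1)
    (hcard : Nat.card H = n.factorial) : Nonempty (H ≃* Equiv.Perm (Fin n)) := by
  refine ⟨(MulEquiv.ofBijective _
    ((Nat.bijective_iff_injective_and_card _).mpr
      ⟨restrictHom_injective K H D hinv hfaith, ?_⟩)).trans
    (Equiv.permCongrHom (Fintype.equivFinOfCardEq (by rw [Fintype.card_coe, hn])))⟩
  rw [hcard, Nat.card_eq_fintype_card, Fintype.card_perm, Fintype.card_coe, hn]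

end H94
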