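import Cfsg.Agent.H90.Orbits
import Cfsg.Agent.H94.Objects
import Cfsg.Agent.H94.FaithfulPerm
import Cfsg.Prelude.Def_Spor_Mathieu

/-!
Consequences of the sharp five-fold transitivity of a dodecad stabiliser.
-/

set_option autoImplicit false

namespace H94

open Cfsg
open scoped Pointwise

/-- enumerate five points of a finset -/
theorem exists_emb_five {s : Finset GolayPt} (hs : 5 ≤ s.card) :
    ∃ x : Fin 5 ↪ GolayPt, ∀ i, x i ∈ s := by
  obtain ⟨t, ht, htc⟩ := Finset.exists_subset_card_eq hs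
  exact ⟨(t.equivFinOfCardEq htc).symm.toEmbedding.trans ⟨Subtype.val, Subtype.val_injective⟩,
    fun i => ht (Subtype.coe_prop _)⟩

theorem dodecad_eq_one_of_fix {d : Finset GolayPt} (hd : d ∈ dodecads) {s : Finset GolayPt}
    (hs : 5 ≤ s.card) (hsd : s ⊆ d) {g : Equiv.Perm GolayPt} (hg : g ∈ M24) (hgd : g • d = d)
    (hfix : ∀ p ∈ s, g p = p) : g = 1 := by
  obtain ⟨x, hx⟩ := exists_emb_five hs
  obtain ⟨σ, -, huniq⟩ := H90.dodecad_sharp hd x x (fun i => hsd (hx i)) (fun i => hsd (hx i))
  have h1 := huniq g ⟨hg, hgd, fun i => hfix _ (hx i)⟩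
  have h2 := huniq 1 ⟨M24.one_mem, by simp, fun i => rfl⟩
  rw [h1, h2]

theorem hexad_octad_unique {d C : Finset GolayPt} {o o' : Finset GolayPt} (ho : o ∈ octads)
    (ho' : o' ∈ octads) (hC : o ∩ d = C) (hC6 : C.card = 6) (hsub : ∃ s ⊆ C, 5 ≤ s.card ∧ s ⊆ o') :
    o = o' := by
  obtain ⟨s, hs, h5, hso'⟩ := hsub
  exact H90.octad_eq_of_five_le_inter ho ho' (h5.trans (Finset.card_le_card
    (Finset.subset_inter ((hs.trans hC.symm.subset).trans Finset.inter_subset_left) hso')))

theorem hexad_stab_surjective {d C : Finset GolayPt} (hd : d ∈ dodecads) (hC : C ∈ hexadsOn d)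
    (σ : Equiv.Perm ↥C) : ∃ g ∈ M24, g • d = d ∧ g • C = C ∧ ∀ p : ↥C, g p = σ p := by
  classical
  obtain ⟨hC6, o, ho, hoC⟩ := hC
  have hCd : C ⊆ d := hoC ▸ Finset.inter_subset_right
  let e : Fin 6 ≃ ↥C := (Fintype.equivFinOfCardEq (by rw [Fintype.card_coe, hC6])).symm
  let x : Fin 5 ↪ GolayPt :=
    ((Fin.castLEEmb (show 5 ≤ 6 by norm_num)).trans e.toEmbedding).trans
      ⟨Subtype.val, Subtype.val_injective⟩
  let y : Fin 5 ↪ GolayPt :=
    ((Fin.castLEEmb (show 5 ≤ 6 by norm_num)).trans (e.trans σ).toEmbedding).trans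
      ⟨Subtype.val, Subtype.val_injective⟩
  obtain ⟨g, ⟨hg, hgd, hgx⟩, -⟩ := H90.dodecad_sharp hd x y (fun i => hCd (Subtype.coe_prop _))
    (fun i => hCd (Subtype.coe_prop _))
  have hgd' : g • d = d := hgd
  have hgo : g • o = o := by
    refine hexad_octad_unique (o := g • o) (C := g • C) (d := d) ?_ ho ?_
      (by rw [Finset.card_smul_finset]; exact hC6) ⟨Finset.univ.map y, ?_, by simp, ?_⟩
    · exact ⟨H95.smul_mem_supports hg ho.1, by rw [Finset.card_smul_finset]; exact ho.2⟩
    · rw [← hoC, Finset.smul_finset_inter, hgd']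
    · intro p hp
      obtain ⟨i, -, rfl⟩ := Finset.mem_map.mp hp
      rw [← hgx i]
      exact Finset.smul_mem_smul_finset (Subtype.coe_prop _)
    · intro p hp
      obtain ⟨i, -, rfl⟩ := Finset.mem_map.mp hp
      exact (hoC.symm.subset.trans Finset.inter_subset_left) (Subtype.coe_prop _)
  have hgC : g • C = C := by rw [← hoC, Finset.smul_finset_inter, hgd', hgo]
  refine ⟨g, hg, hgd', hgC, fun p => ?_⟩
  have hmem : ∀ q : ↥C, g q ∈ C := fun q => by
    have := Finset.smul_mem_smul_finset (a := g) q.2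
    rwa [hgC] at this
  let τ : Equiv.Perm ↥C := Equiv.ofBijective (fun q => ⟨g q, hmem q⟩)
    (Finite.injective_iff_bijective.mp fun a b h =>
      Subtype.ext (g.injective (congrArg Subtype.val h)))
  suffices τ = σ from congrArg Subtype.val (Equiv.ext_iff.mp this p)
  have key : ∀ a b : Equiv.Perm (Fin 6), (∀ i : Fin 5, a i.castSucc = b i.castSucc) → a = b := by
    intro a b hab
    apply Equiv.ext
    intro j
    induction j using Fin.lastCases with
    | last =>
      obtain ⟨j, hj⟩ := b.surjective (a (Fin.last 5))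
      induction j using Fin.lastCases with
      | last => exact hj.symm
      | cast i =>
        rw [← hab] at hj
        exact absurd (a.injective hj) (Fin.castSucc_lt_last i).ne
    | cast i => exact hab i
  have h := key ((e.trans τ).trans e.symm) ((e.trans σ).trans e.symm) fun i => by
    simp only [Equiv.trans_apply]
    exact congrArg e.symm (Subtype.ext (hgx i))
  apply Equiv.ext
  intro q
  obtain ⟨j, rfl⟩ := e.surjective q
  exact e.symm.injective (Equiv.ext_iff.mp h j)

end H94
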