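import Cfsg.Agent.H94.CodeDuality

/-!
The subspaces of the permutation module invariant under a highly transitive group preserving an
abstract Golay code.
-/

set_option autoImplicit false
set_option linter.unusedSectionVars false

namespace H94

open Finset

variable {α : Type*} [Fintype α] [DecidableEq α]

/-- the word moved by a permutation -/
def moveWord (σ : Equiv.Perm α) (w : α → ZMod 2) : α → ZMod 2 := fun p => w (σ.symm p)

theorem moveWord_add (σ : Equiv.Perm α) (v w : α → ZMod 2) :
    moveWord σ (v + w) = moveWord σ v + moveWord σ w := rfl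

theorem sup2_moveWord (σ : Equiv.Perm α) (w : α → ZMod 2) :
    sup2 (moveWord σ w) = (sup2 w).map σ.toEmbedding := by
  ext p; simp [mem_sup2, moveWord]

theorem moveWord_word2 (σ : Equiv.Perm α) (s : Finset α) :
    moveWord σ (word2 s) = word2 (s.map σ.toEmbedding) := by
  apply sup2_injective
  rw [sup2_moveWord, sup2_word2, sup2_word2]

theorem hammingNorm_moveWord (σ : Equiv.Perm α) (w : α → ZMod 2) :
    hammingNorm (moveWord σ w) = hammingNorm w := by
  rw [hammingNorm_eq_sup2, hammingNorm_eq_sup2, sup2_moveWord, card_map]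

theorem word2_add (s t : Finset α) : word2 s + word2 t = word2 (symmDiff s t) := by
  apply sup2_injective
  rw [sup2_add, sup2_word2, sup2_word2, sup2_word2]

/-- A group of code automorphisms, five-fold transitive, transitive on octads and dodecads. -/
structure MathieuLike (C : Submodule (ZMod 2) (α → ZMod 2)) (M : Subgroup (Equiv.Perm α)) : Prop where
  full : GolayFullLike C
  pres : ∀ σ ∈ M, ∀ w ∈ C, moveWord σ w ∈ C
  trans5 : ∀ f g : Fin 5 ↪ α, ∃ σ ∈ M, ∀ i, σ (f i) = g i
  transOct : ∀ v ∈ C, ∀ w ∈ C, hammingNorm v = 8 → hammingNorm w = 8 → ∃ σ ∈ M, moveWord σ v = w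
  transDod : ∀ v ∈ C, ∀ w ∈ C, hammingNorm v = 12 → hammingNorm w = 12 → ∃ σ ∈ M, moveWord σ v = w

theorem card_sup2_le_two {c : α → ZMod 2} {a b : α} (hz : ∀ p, p ≠ a → p ≠ b → c p = 0) :
    (sup2 c).card ≤ 2 := by
  refine (card_le_card (t := {a, b}) fun p hp => ?_).trans card_le_two
  by_contra hh
  simp only [mem_insert, mem_singleton, not_or] at hh
  exact mem_sup2.mp hp (hz p hh.1 hh.2)

namespace MathieuLike

variable {C : Submodule (ZMod 2) (α → ZMod 2)} {M : Subgroup (Equiv.Perm α)} (h : MathieuLike C M)
include h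

theorem trans_list (f g : Fin 5 → α) (hf : Function.Injective f) (hg : Function.Injective g) :
    ∃ σ ∈ M, ∀ i, σ (f i) = g i := h.trans5 ⟨f, hf⟩ ⟨g, hg⟩

/-- extend a set of at most five points to five distinct points -/
theorem exists_five (l : List α) (hl : l.Nodup) (hlen : l.length ≤ 5) :
    ∃ f : Fin 5 → α, Function.Injective f ∧ ∀ i (hi : i < l.length), f ⟨i, by omega⟩ = l[i] := by
  have hcard : 5 - l.length ≤ (univ \ l.toFinset).card := by
    rw [card_sdiff_of_subset (subset_univ _), card_univ, h.full.like.card24,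
      List.toFinset_card_of_nodup hl]
    omega
  obtain ⟨T, hT, hTc⟩ := exists_subset_card_eq hcard
  have hlen' : (l ++ T.toList).length = 5 := by simp [hTc]; omega
  have hnd : (l ++ T.toList).Nodup := by
    rw [List.nodup_append]
    refine ⟨hl, T.nodup_toList, ?_⟩
    intro a ha b hb e
    subst e
    have := hT (mem_toList.mp hb)
    simp [ha] at this
  refine ⟨fun i => (l ++ T.toList)[i.1]'(by omega), ?_, ?_⟩
  · intro i j hij
    exact Fin.ext ((hnd.getElem_inj_iff).mp hij)
  · intro i hi
    exact List.getElem_append_left hi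

theorem trans_k (l l' : List α) (hl : l.Nodup) (hl' : l'.Nodup) (e : l.length = l'.length)
    (hlen : l.length ≤ 5) : ∃ σ ∈ M, ∀ i (hi : i < l.length), σ l[i] = l'[i] := by
  obtain ⟨f, hf, hfl⟩ := h.exists_five l hl hlen
  obtain ⟨g, hg, hgl⟩ := h.exists_five l' hl' (e ▸ hlen)
  obtain ⟨σ, hσ, hσf⟩ := h.trans_list f g hf hg
  exact ⟨σ, hσ, fun i hi => by rw [← hfl i hi, hσf, hgl i (e ▸ hi)]⟩

variable (W : Submodule (ZMod 2) (α → ZMod 2)) (hW : ∀ σ ∈ M, ∀ w ∈ W, moveWord σ w ∈ W)
include hW

/-- an invariant subspace with a short word not in `{0}` contains all pairs -/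
theorem pairs_of_small {u : α → ZMod 2} (hu : u ∈ W) (h1 : 1 ≤ hammingNorm u)
    (h4 : hammingNorm u ≤ 4) (a b : α) (hab : a ≠ b) : word2 {a, b} ∈ W := by
  suffices hh : ∃ p q, p ≠ q ∧ word2 {p, q} ∈ W by
    obtain ⟨p, q, hpq, hm⟩ := hh
    obtain ⟨σ, hσ, hσp⟩ := h.trans_k [p, q] [a, b] (by simp [hpq]) (by simp [hab]) rfl (by simp)
    have := hW σ hσ _ hm
    rw [moveWord_word2, map_insert, map_singleton] at this
    have e0 : σ p = a := hσp 0 (by simp)
    have e1 : σ q = b := hσp 1 (by simp)
    simpa [e0, e1] using this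
  rw [hammingNorm_eq_sup2] at h1 h4
  set s := sup2 u with hs
  have hnd := s.nodup_toList
  have hlen : s.toList.length = s.card := length_toList s
  obtain ⟨x, hx⟩ := card_pos.mp (by
    rw [card_sdiff_of_subset (subset_univ _), card_univ, h.full.like.card24]; omega :
      0 < (univ \ s).card)
  simp only [mem_sdiff, mem_univ, true_and] at hx
  obtain ⟨y, hy⟩ := card_pos.mp (by omega : 0 < s.card)
  obtain ⟨σ, hσ, hσl⟩ := h.trans_k (y :: (s.erase y).toList) (x :: (s.erase y).toList)
    (by simp [nodup_toList]) (by simp [nodup_toList, hx]) rfl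
    (by simp [card_erase_of_mem hy]; omega)
  have hmap : s.map σ.toEmbedding = insert x (s.erase y) := by
    refine eq_of_subset_of_card_le ?_ ?_
    · intro z hz
      obtain ⟨w, hw, rfl⟩ := mem_map.mp hz
      by_cases hwy : w = y
      · subst hwy
        have := hσl 0 (by simp)
        simp at this
        simp [this]
      · obtain ⟨i, hi, rfl⟩ := List.getElem_of_mem (mem_toList.mpr (mem_erase.mpr ⟨hwy, hw⟩))
        have := hσl (i + 1) (by simpa using hi)
        simp only [List.getElem_cons_succ] at this
        rw [Equiv.toEmbedding_apply, this]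
        exact mem_insert_of_mem (mem_toList.mp (List.getElem_mem _))
    · rw [card_map, card_insert_of_notMem (by simp [hx]), card_erase_of_mem hy]; omega
  refine ⟨y, x, fun e => hx (e ▸ hy), ?_⟩
  have h2 := W.add_mem hu (hW σ hσ u hu)
  have e : u + moveWord σ u = word2 {y, x} := by
    rw [← word2_sup2 u, moveWord_word2, word2_add, ← hs, hmap]
    congr 1
    ext z
    simp only [mem_symmDiff, mem_insert, mem_erase, mem_singleton]
    constructor
    · rintro (⟨hz, hn⟩ | ⟨hz, hn⟩)
      · left; by_contra hzy; exact hn (Or.inr ⟨hzy, hz⟩)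
      · rcases hz with rfl | ⟨-, hz⟩
        · exact Or.inr rfl
        · exact absurd hz hn
    · rintro (rfl | rfl)
      · exact Or.inl ⟨hy, fun hh => hh.elim (fun e => hx (e ▸ hy)) (fun hh => hh.1 rfl)⟩
      · exact Or.inr ⟨Or.inl rfl, hx⟩
  rwa [e] at h2

omit hW in
theorem small_rep (w : α → ZMod 2) : ∃ u, u - w ∈ C ∧ hammingNorm u ≤ 4 := by
  rcases h.full.like.coset_cases w with ⟨u, hu, hu3⟩ | ⟨S, hS6, hS⟩
  · exact ⟨u, hu, by omega⟩
  · obtain ⟨u, hu⟩ := card_pos.mp (by omega : 0 < S.card)
    exact ⟨u, ((hS u).mp hu).1, ((hS u).mp hu).2.le⟩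

omit hW in
theorem mem_of_pairs (hp : ∀ a b : α, a ≠ b → word2 {a, b} ∈ W) {v : α → ZMod 2}
    (hv : ∑ i, v i = 0) : v ∈ W := by
  obtain ⟨a0⟩ : Nonempty α := Fintype.card_pos_iff.mp (by rw [h.full.like.card24]; omega)
  have e : v = ∑ i, v i • (word2 {i} + word2 {a0}) := by
    funext j
    simp only [Finset.sum_apply, Pi.smul_apply, Pi.add_apply, smul_eq_mul, mul_add, sum_add_distrib,
      word2, mem_singleton, mul_ite, mul_one, mul_zero, sum_ite_eq, mem_univ, if_true]
    split_ifs with hj
    · rw [hv, add_zero]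
    · simp
  rw [e]
  refine W.sum_mem fun i _ => W.smul_mem _ ?_
  by_cases hi : i = a0
  · subst hi; rw [add_self2]; exact W.zero_mem
  · rw [word2_add]
    have : symmDiff ({i} : Finset α) {a0} = {i, a0} := by
      ext z
      simp only [mem_symmDiff, mem_singleton, mem_insert]
      constructor
      · rintro (⟨hz, -⟩ | ⟨hz, -⟩) <;> simp [hz]
      · rintro (rfl | rfl)
        · exact Or.inl ⟨rfl, hi⟩
        · exact Or.inr ⟨rfl, Ne.symm hi⟩
    rw [this]; exact hp i a0 hi

omit hW in
theorem sum_code {c : α → ZMod 2} (hc : c ∈ C) : ∑ i, c i = 0 := by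
  have := h.full.orth c hc _ h.full.one_mem
  simpa using this

theorem code_le_of_octad {o : α → ZMod 2} (ho : o ∈ C) (h8 : hammingNorm o = 8) (hoW : o ∈ W) :
    C ≤ W := by
  rw [← h.full.like.span_octads, Submodule.span_le]
  rintro v ⟨hv, hv8⟩
  obtain ⟨σ, hσ, e⟩ := h.transOct o ho v hv h8 hv8
  rw [← e]; exact hW σ hσ o hoW

theorem code_le {c : α → ZMod 2} (hc : c ∈ C) (hcW : c ∈ W) (h0 : c ≠ 0)
    (h1 : c ≠ fun _ => (1 : ZMod 2)) : C ≤ W := by
  rcases h.full.weights hc with hw | hw | hw | hw | hw
  · exact absurd (hammingNorm_eq_zero.mp hw) h0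
  · exact h.code_le_of_octad W hW hc hw hcW
  · rw [hammingNorm_eq_sup2] at hw
    obtain ⟨t, ht, ht4⟩ := exists_subset_card_eq (s := sup2 c) (n := 4) (by omega)
    set F := (blockSet (Cfsg.wordsOfWeight (C : Set (α → ZMod 2)) 8)).filter (t ⊆ ·) with hFdef
    have hF5 : F.card = 5 := by
      have hl := steiner_lambda h.full.like.steiner t (by omega)
      rw [ht4, h.full.like.card24] at hl
      norm_num [← hFdef] at hl
      omega
    by_cases hex : ∃ b ∈ F, (b ∩ sup2 c).card < 6
    · obtain ⟨b, hb, hb6⟩ := hex
      obtain ⟨hbF, htb⟩ := mem_filter.mp hb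
      obtain ⟨⟨o, ho, rfl⟩, ho8⟩ := mem_blockSet.mp hbF
      have hge := card_le_card (subset_inter htb ht)
      have hno : hammingNorm o = 8 := ho8
      have hev := h.full.like.doubly_even h.full.orth _ (C.add_mem hc ho)
      have hna := norm_add_aux c o
      change (sup2 o ∩ sup2 c).card < 6 at hb6
      change t.card ≤ (sup2 o ∩ sup2 c).card at hge
      rw [inter_comm] at hb6 hge
      rw [hammingNorm_eq_sup2 c] at hna
      obtain ⟨σ, hσ, e⟩ := h.transDod c hc (c + o) (C.add_mem hc ho)
        (by rw [hammingNorm_eq_sup2]; exact hw) (by omega)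
      refine h.code_le_of_octad W hW ho hno ?_
      have := W.add_mem hcW (hW σ hσ c hcW)
      rwa [e, ← add_assoc, add_self2, zero_add] at this
    · exfalso
      push Not at hex
      have hd : ∀ b ∈ F, ∀ b' ∈ F, b ≠ b' →
          Disjoint ((b ∩ sup2 c) \ t) ((b' ∩ sup2 c) \ t) := by
        intro b hb b' hb' hne
        rw [disjoint_left]
        intro x hx hx'
        simp only [mem_sdiff, mem_inter] at hx hx'
        simp only [hFdef, mem_filter, mem_blockSet] at hb hb'
        exact hne (steiner_unique h.full.like.steiner hb.1 hb'.1 (s := insert x t)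
          (by rw [card_insert_of_notMem hx.2, ht4]) (insert_subset hx.1.1 hb.2)
          (insert_subset hx'.1.1 hb'.2))
      have hsub : F.biUnion (fun b => (b ∩ sup2 c) \ t) ⊆ sup2 c \ t := by
        intro x hx
        obtain ⟨b, -, hx⟩ := mem_biUnion.mp hx
        simp only [mem_sdiff, mem_inter] at hx ⊢
        exact ⟨hx.1.2, hx.2⟩
      have hle := card_le_card hsub
      rw [card_biUnion hd, card_sdiff_of_subset ht, hw, ht4] at hle
      have : ∑ _b ∈ F, 2 ≤ ∑ b ∈ F, ((b ∩ sup2 c) \ t).card := by
        refine sum_le_sum fun b hb => ?_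
        have := hex b hb
        rw [card_sdiff_of_subset (subset_inter (mem_filter.mp hb).2 ht), ht4]
        omega
      rw [sum_const, hF5, smul_eq_mul] at this
      omega
  · have hn := h.full.norm_add_one c
    have hoC := C.add_mem hc h.full.one_mem
    set o := c + (fun _ : α => (1 : ZMod 2)) with ho
    obtain ⟨t, ht, ht4⟩ := exists_subset_card_eq (s := sup2 o) (n := 4)
      (by rw [← hammingNorm_eq_sup2]; omega)
    obtain ⟨x, hx⟩ := card_pos.mp (by
      rw [card_sdiff_of_subset (subset_univ _), card_univ, h.full.like.card24,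
        ← hammingNorm_eq_sup2]; omega : 0 < (univ \ sup2 o).card)
    simp only [mem_sdiff, mem_univ, true_and] at hx
    obtain ⟨o', ho', ho8', hs⟩ := h.full.like.exists_octad_of_five (insert x t)
      (by rw [card_insert_of_notMem (fun hh => hx (ht hh)), ht4])
    have hge := card_le_card (subset_inter ht ((subset_insert x t).trans hs))
    have hlt : (sup2 o ∩ sup2 o').card < 5 := by
      by_contra hge5
      have e := h.full.like.octad_unique hoC ho' (by omega) ho8' (by omega)
      exact hx (e ▸ hs (mem_insert_self x t))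
    have hna := norm_add_aux o o'
    obtain ⟨σ, hσ, e⟩ := h.transOct o hoC o' ho' (by omega) ho8'
    refine h.code_le_of_octad W hW (C.add_mem hoC ho') (by omega) ?_
    have := W.add_mem hcW (hW σ hσ c hcW)
    have e2 : moveWord σ c = o' + (fun _ : α => (1 : ZMod 2)) := by
      rw [← e, ho, moveWord_add]
      show _ = moveWord σ c + (fun _ => 1) + fun _ => 1
      rw [add_assoc, add_self2, add_zero]
    rwa [e2, ← add_assoc, add_right_comm] at this
  · refine absurd ?_ h1
    apply sup2_injective
    rw [sup2_one]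
    exact eq_univ_of_card _ (by rw [← hammingNorm_eq_sup2, hw, h.full.like.card24])

theorem invariant_cases : W = ⊥ ∨ W = Submodule.span (ZMod 2) {fun _ => (1 : ZMod 2)} ∨ W = C ∨
    (W : Set (α → ZMod 2)) = {w | ∑ p, w p = 0} ∨ W = ⊤ := by
  classical
  set one : α → ZMod 2 := fun _ => (1 : ZMod 2) with hone
  by_cases hnc : ∀ w ∈ W, w = 0 ∨ w = one
  · by_cases h1 : one ∈ W
    · right; left
      refine le_antisymm (fun w hw => ?_) (by rwa [Submodule.span_le, Set.singleton_subset_iff])
      rcases hnc w hw with rfl | rfl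
      · exact Submodule.zero_mem _
      · exact Submodule.subset_span rfl
    · left
      rw [eq_bot_iff]
      intro w hw
      rcases hnc w hw with rfl | rfl
      · exact Submodule.zero_mem _
      · exact absurd hw h1
  push Not at hnc
  obtain ⟨w, hwW, hw0, hw1⟩ := hnc
  have hCW : C ≤ W := by
    by_contra hne
    have hWC : ∀ c ∈ C, c ∈ W → c = 0 ∨ c = one := fun c hc hcW => by
      by_contra hh
      push Not at hh
      exact hne (h.code_le W hW hc hcW hh.1 hh.2)
    have hwC : w ∉ C := fun hh => (hWC w hh hwW).elim hw0 hw1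
    have hWpair : ∀ a b : α, a ≠ b → word2 {a, b} ∈ W ⊔ C := by
      obtain ⟨u, hu, hu4⟩ := h.small_rep w
      refine h.pairs_of_small (W ⊔ C) ?_ (u := u) ?_ ?_ hu4
      · intro σ hσ v hv
        obtain ⟨x, hx, c, hc, rfl⟩ := Submodule.mem_sup.mp hv
        rw [moveWord_add]
        exact Submodule.add_mem_sup (hW σ hσ x hx) (h.pres σ hσ c hc)
      · have := Submodule.add_mem_sup (T := C) hwW hu
        rwa [add_sub_cancel] at this
      · by_contra h0
        simp only [not_le, Nat.lt_one_iff, hammingNorm_eq_zero] at h0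
        subst h0
        rw [zero_sub, Submodule.neg_mem_iff] at hu
        exact hwC hu
    have hmain : ∀ a b : α, a ≠ b → word2 {a, b} ∈ W ∨ word2 {a, b} + one ∈ W := by
      intro a b hab
      obtain ⟨x, hx, c, hc, hxc⟩ := Submodule.mem_sup.mp (hWpair a b hab)
      have hfix : ∀ σ ∈ M, σ a = a → σ b = b → moveWord σ c = c := by
        intro σ hσ ha hb
        have hmv : moveWord σ (x + c) = x + c := by
          rw [hxc, moveWord_word2, map_insert, map_singleton]; simp [ha, hb]
        have hd := W.add_mem hx (hW σ hσ x hx)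
        have e : x + moveWord σ x = c + moveWord σ c := by
          rw [← sub_eq_zero, sub_eq_add2]
          have : (x + c) + moveWord σ (x + c) = 0 := by rw [hmv, add_self2]
          rw [← this, moveWord_add]; abel
        rw [e] at hd
        rcases hWC _ (C.add_mem hc (h.pres σ hσ c hc)) hd with e0 | e0
        · rw [← sub_eq_add2, sub_eq_zero] at e0; exact e0.symm
        · have := congrFun e0 a
          simp only [Pi.add_apply, moveWord, hone] at this
          rw [show σ.symm a = a by rw [Equiv.symm_apply_eq]; exact ha.symm] at this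
          rw [CharTwo.add_self_eq_zero] at this
          exact absurd this (by decide)
      have hconst : ∀ p q, p ≠ a → p ≠ b → q ≠ a → q ≠ b → c p = c q := by
        intro p q hpa hpb hqa hqb
        obtain ⟨σ, hσ, hσl⟩ := h.trans_k [a, b, p] [a, b, q]
          (by simp [hab, hpa.symm, hpb.symm]) (by simp [hab, hqa.symm, hqb.symm]) rfl (by simp)
        have e0 : σ a = a := hσl 0 (by simp)
        have e1 : σ b = b := hσl 1 (by simp)
        have e2 : σ p = q := hσl 2 (by simp)
        have := congrFun (hfix σ hσ e0 e1) q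
        simp only [moveWord] at this
        rwa [show σ.symm q = p by rw [Equiv.symm_apply_eq]; exact e2.symm] at this
      have hc01 : c = 0 ∨ c = one := by
        by_cases hz : ∀ p, p ≠ a → p ≠ b → c p = 0
        · left
          have : (sup2 c).card ≤ 2 := card_sup2_le_two hz
          by_contra hne0
          have := h.full.like.min8 c hc hne0
          rw [hammingNorm_eq_sup2] at this
          omega
        · right
          push Not at hz
          obtain ⟨p, hpa, hpb, hp⟩ := hz
          have hall : ∀ q, q ≠ a → q ≠ b → c q = 1 := fun q hqa hqb => by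
            rw [← hconst p q hpa hpb hqa hqb]
            exact (zmod2_cases _).resolve_left hp
          have hz2 : ∀ q, q ≠ a → q ≠ b → (c + one) q = 0 := fun q hqa hqb => by
            simp only [Pi.add_apply, hall q hqa hqb, hone]; decide
          have := card_sup2_le_two hz2
          by_contra hne0
          have h8 := h.full.like.min8 (c + one) (C.add_mem hc h.full.one_mem)
            (fun e => hne0 (by rw [← sub_eq_zero, sub_eq_add2]; exact e))
          rw [hammingNorm_eq_sup2] at h8
          omega
      rcases hc01 with rfl | rfl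
      · left; rw [← hxc, add_zero]; exact hx
      · right; rw [← hxc, add_assoc, add_self2, add_zero]; exact hx
    have hpairs : ∀ a b : α, a ≠ b → word2 {a, b} ∈ W := by
      obtain ⟨a, b, c, hab, hac, hbc⟩ := Fintype.two_lt_card_iff.mp
        (by rw [h.full.like.card24]; omega : 2 < Fintype.card α)
      have hsd : symmDiff ({a, b} : Finset α) {a, c} = {b, c} := by
        ext z
        simp only [mem_symmDiff, mem_insert, mem_singleton]
        constructor
        · rintro (⟨hz | hz, hn⟩ | ⟨hz | hz, hn⟩)
          · exact absurd (Or.inl hz) hn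
          · exact Or.inl hz
          · exact absurd (Or.inl hz) hn
          · exact Or.inr hz
        · rintro (rfl | rfl)
          · exact Or.inl ⟨Or.inr rfl, fun hh => hh.elim hab.symm hbc⟩
          · exact Or.inr ⟨Or.inr rfl, fun hh => hh.elim hac.symm hbc.symm⟩
      suffices hex : ∃ p q, p ≠ q ∧ word2 {p, q} ∈ W by
        obtain ⟨p, q, hpq, hm⟩ := hex
        exact h.pairs_of_small W hW hm (by rw [hammingNorm_eq_sup2, sup2_word2, card_pair hpq]; omega)
          (by rw [hammingNorm_eq_sup2, sup2_word2, card_pair hpq]; omega)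
      by_contra hnex
      push Not at hnex
      have e1 := (hmain a b hab).resolve_left (hnex a b hab)
      have e2 := (hmain a c hac).resolve_left (hnex a c hac)
      have e3 := W.add_mem e1 e2
      rw [add_add_add_comm, add_self2, add_zero, word2_add, hsd] at e3
      exact hnex b c hbc e3
    exact hne fun c hc => h.mem_of_pairs W hpairs (h.sum_code hc)
  by_cases hWC : W ≤ C
  · right; right; left; exact le_antisymm hWC hCW
  right; right; right
  obtain ⟨v, hvW, hvC⟩ := Set.not_subset.mp hWC
  obtain ⟨u, hu, hu4⟩ := h.small_rep v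
  have huW : u ∈ W := by
    have := W.add_mem (hCW hu) hvW
    rwa [sub_add_cancel] at this
  have hpairs := h.pairs_of_small W hW huW (by
    by_contra h0
    simp only [not_le, Nat.lt_one_iff, hammingNorm_eq_zero] at h0
    subst h0
    rw [zero_sub, Submodule.neg_mem_iff] at hu
    exact hvC hu) hu4
  by_cases hodd : ∃ x ∈ W, ∑ p, x p ≠ 0
  · right
    obtain ⟨x, hx, hx1⟩ := hodd
    rw [eq_top_iff]
    rintro y -
    by_cases hy : ∑ p, y p = 0
    · exact h.mem_of_pairs W hpairs hy
    · have := W.sub_mem (h.mem_of_pairs W hpairs (v := y + x) (by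
        simp only [Pi.add_apply, sum_add_distrib]
        rw [(zmod2_cases _).resolve_left hy, (zmod2_cases _).resolve_left hx1]; decide)) hx
      simpa using this
  · left
    push Not at hodd
    exact Set.Subset.antisymm (fun x hx => hodd x hx) (fun x hx => h.mem_of_pairs W hpairs hx)

end MathieuLike

end H94
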