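/- A group of order 10200960 acting on 253 blocks of size 7 over 23 points is M23. -/
import Cfsg.Agent.H91.DerivedAut
import Cfsg.Prelude.Def_Spor_Mathieu

set_option autoImplicit false

noncomputable section

namespace H94.M23Blocks

open Cfsg Finset
open scoped Pointwise

/-- `M23` of the prelude and the point stabilizer in `M24`. -/
def stabNoneEquiv : ↥(MulAction.stabilizer M24 (none : GolayPt)) ≃* ↥Spor.M23 where
  toFun g := ⟨(g.1 : Equiv.Perm GolayPt), g.1.2, g.2⟩
  invFun g := ⟨⟨g.1, g.2.1⟩, g.2.2⟩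
  left_inv _ := rfl
  right_inv _ := rfl
  map_mul' _ _ := rfl

/-- The automorphism group of an S(4,7,23) is `M23`. -/
theorem aut_iso_M23 {α : Type*} [Fintype α] [DecidableEq α] {B : Set (Finset α)}
    (hα : Fintype.card α = 23) (hB : IsSteinerSystem 4 7 B) :
    Nonempty (↥(setSystemAut B) ≃* ↥Spor.M23) := by
  obtain ⟨e, he⟩ := H90.s23_iso hα hB
  exact ⟨((H90.setSystemAutEquiv e he).trans
    (MulEquiv.ofBijective H91.Derived.aut23Hom H91.Derived.aut23Hom_bijective)).trans stabNoneEquiv⟩

theorem steiner_of_count {Ω α : Type*} [Fintype Ω] [Fintype α] [DecidableEq α]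
    (hΩ : Fintype.card Ω = 253) (hα : Fintype.card α = 23) (inc : Ω → Finset α)
    (h7 : ∀ w, (inc w).card = 7) (hinter : ∀ w w', w ≠ w' → (inc w ∩ inc w').card ≤ 3) :
    IsSteinerSystem 4 7 (Set.range inc) := by
  classical
  refine ⟨by rintro _ ⟨w, rfl⟩; exact h7 w, fun s hs => ?_⟩
  have hd : ((univ : Finset Ω) : Set Ω).PairwiseDisjoint fun w => (inc w).powersetCard 4 := by
    intro w _ w' _ hne
    refine Finset.disjoint_left.mpr fun t ht ht' => ?_
    rw [mem_powersetCard] at ht ht'
    have := card_le_card (subset_inter ht.1 ht'.1)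
    have := hinter w w' hne
    omega
  have hU : (univ : Finset Ω).biUnion (fun w => (inc w).powersetCard 4) =
      (univ : Finset α).powersetCard 4 := by
    refine eq_of_subset_of_card_le (fun t ht => ?_) ?_
    · obtain ⟨w, -, hw⟩ := mem_biUnion.mp ht
      exact mem_powersetCard.mpr ⟨subset_univ _, (mem_powersetCard.mp hw).2⟩
    · rw [card_biUnion hd, card_powersetCard, card_univ, hα,
        sum_congr rfl (fun w _ => by rw [card_powersetCard, h7 w]), sum_const, card_univ, hΩ]
      decide
  have hs' : s ∈ (univ : Finset Ω).biUnion (fun w => (inc w).powersetCard 4) := by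
    rw [hU]; exact mem_powersetCard.mpr ⟨subset_univ _, hs⟩
  obtain ⟨w, -, hw⟩ := mem_biUnion.mp hs'
  refine ⟨inc w, ⟨⟨w, rfl⟩, (mem_powersetCard.mp hw).1⟩, ?_⟩
  rintro _ ⟨⟨w', rfl⟩, hsw'⟩
  by_contra hne
  have h1 := card_le_card (subset_inter hsw' (mem_powersetCard.mp hw).1)
  have h2 := hinter w' w fun e => hne (by rw [e])
  omega

/-- A group of order 10200960 with such an incidence structure is `M23`. -/
theorem iso_of_blocks {G Ω α : Type*} [Group G] [Finite G] [Fintype Ω] [Fintype α] [DecidableEq α]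
    [MulAction G Ω] [MulAction G α] [FaithfulSMul G Ω] (hG : Nat.card G = 10200960)
    (hΩ : Fintype.card Ω = 253) (hα : Fintype.card α = 23) (inc : Ω → Finset α)
    (h7 : ∀ w, (inc w).card = 7) (heq : ∀ (g : G) w a, a ∈ inc w ↔ g • a ∈ inc (g • w))
    (hinter : ∀ w w', w ≠ w' → (inc w ∩ inc w').card ≤ 3) :
    Nonempty (G ≃* ↥Spor.M23) := by
  classical
  have hinj : Function.Injective inc := fun w w' e => by
    by_contra hne
    have := hinter w w' hne
    rw [e, inter_self, h7] at this
    omega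
  have hB := steiner_of_count hΩ hα inc h7 hinter
  have himg : ∀ (g : G) (w : Ω), (inc w).image (MulAction.toPerm g : Equiv.Perm α) = inc (g • w) := by
    intro g w
    ext a
    simp only [mem_image, MulAction.toPerm_apply]
    constructor
    · rintro ⟨b, hb, rfl⟩; exact (heq g w b).mp hb
    · intro ha
      exact ⟨g⁻¹ • a, (heq g w _).mpr (by rwa [smul_inv_smul]), smul_inv_smul g a⟩
  have hmem : ∀ g : G, MulAction.toPermHom G α g ∈ setSystemAut (Set.range inc) := by
    intro g
    rw [H90.mem_setSystemAut_iff]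
    ext b
    constructor
    · rintro ⟨_, ⟨w, rfl⟩, rfl⟩
      exact ⟨g • w, (himg g w).symm⟩
    · rintro ⟨w, rfl⟩
      refine ⟨inc (g⁻¹ • w), ⟨_, rfl⟩, ?_⟩
      exact (himg g _).trans (by rw [smul_inv_smul])
  let φ : G →* ↥(setSystemAut (Set.range inc)) := (MulAction.toPermHom G α).codRestrict _ hmem
  have hφ : Function.Injective φ := by
    rw [injective_iff_map_eq_one]
    intro g hg
    have h1 : (MulAction.toPerm g : Equiv.Perm α) = 1 := congrArg Subtype.val hg
    refine eq_of_smul_eq_smul (α := Ω) fun w => hinj ?_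
    rw [← himg g w, h1, one_smul]
    simp
  have hc : Nat.card ↥(setSystemAut (Set.range inc)) = 10200960 :=
    (H91.Derived.s23_aut hα hB).2.1
  obtain ⟨e⟩ := aut_iso_M23 hα hB
  exact ⟨(MulEquiv.ofBijective φ
    ((Nat.bijective_iff_injective_and_card φ).mpr ⟨hφ, by rw [hG, hc]⟩)).trans e⟩

end H94.M23Blocks
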