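import Cfsg.Agent.H94.Classes
import Cfsg.Agent.H94.PointSix
import Cfsg.Agent.H94.DodFacts
import Cfsg.Agent.H90.Orbits

/-!
The stabiliser of a dodecad and three of its points.
-/

set_option autoImplicit false

namespace H94

open Cfsg
open scoped Pointwise

/-- the mask of the dodecad used -/
def nineDod : ℕ := 340831

/-- fix the positions 0, 1, 2 and send 3, 4 into the dodecad -/
def nineF (l Q : ℕ) : Bool :=
  if Nat.ble 3 l then bitB nineDod (pap Q l) else Nat.beq (pap Q l) l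

/-- the elements of the three-point stabiliser -/
noncomputable def nineList : List ℕ :=
  (search nineF).filter fun P => Nat.beq (pmask P nineDod) nineDod

/-- iterated product -/
noncomputable def ppow (P : ℕ) : ℕ → ℕ
  | 0 => pone
  | k + 1 => pmul P (ppow P k)

theorem ppow_reps {P : ℕ} {g : Equiv.Perm GolayPt} (h : Reps P g) : ∀ k, Reps (ppow P k) (g ^ k)
  | 0 => by rw [pow_zero]; exact reps_one
  | k + 1 => by rw [pow_succ']; exact h.mul (ppow_reps h k)

theorem nine_ok : (nodupB (nineList.map canon) = true ∧ nineList.length = 72 ∧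
    dodB nineDod = true) ∧
    ((nineList.all fun P => !peq (ppow P 9) pone || peq (ppow P 3) pone) &&
    (nineList.all fun P => !peq (ppow P 8) pone || peq (ppow P 4) pone) &&
    ((nineList.filter fun P => peq (ppow P 3) pone).all fun P =>
      (nineList.filter fun P => peq (ppow P 3) pone).all fun R => peq (ppow (pmul P R) 3) pone) &&
    ((nineList.filter fun P => peq (ppow P 2) pone && !peq P pone).all fun P =>
      (nineList.filter fun P => peq (ppow P 2) pone && !peq P pone).all fun R =>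
        peq (ppow (pmul P R) 3) pone)) = true := by decide +kernel

theorem nineDod_pts : ∀ i < 5, bitB nineDod i = true := by decide +kernel

/-- the standard three-point stabiliser -/
def InNine (g : Equiv.Perm GolayPt) : Prop :=
  g ∈ M24 ∧ g • H90.setOf' nineDod = H90.setOf' nineDod ∧ ∀ i < 3, g (ptN i) = ptN i

theorem nine_complete {g : Equiv.Perm GolayPt} (h : InNine g) : ∃ P ∈ nineList, Reps P g := by
  obtain ⟨hg, hd, h3⟩ := h
  obtain ⟨P, hP, hR⟩ := search_complete nineF hg (fun l hl Q hQ => by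
    rw [nineF]
    by_cases hl3 : 3 ≤ l
    · rw [if_pos (Nat.ble_eq_true_of_le hl3), hQ l (by omega), bitB_eq, ← mem_setOf'_idxN, ← hd,
        ← Equiv.Perm.smul_def, Finset.smul_mem_smul_finset_iff, mem_setOf'_ptN (by omega), ← bitB_eq]
      exact nineDod_pts l hl
    · rw [if_neg (fun h => hl3 (Nat.le_of_ble_eq_true h)), hQ l (by omega), h3 l (by omega),
        idxN_ptN (by omega)]
      exact Nat.beq_refl _)
  refine ⟨P, List.mem_filter.mpr ⟨hP, ?_⟩, hR⟩
  rw [H90.setOf'_injOn (b := nineDod) (hR.pmask_lt _) (by decide +kernel) (by rw [hR.setOf', hd])]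
  exact Nat.beq_refl _

theorem nine_sound {P : ℕ} (hP : P ∈ nineList) : ∃ g, InNine g ∧ Reps P g := by
  obtain ⟨hs, hb⟩ := List.mem_filter.mp hP
  obtain ⟨g, hg, hR⟩ := search_sound _ hs
  have h3 : nineList.all (fun P => (List.range 3).all fun i => Nat.beq (pap P i) i) = true := by
    decide +kernel
  refine ⟨g, ⟨hg, by rw [← hR.setOf', Nat.eq_of_beq_eq_true hb], fun i hi => idxN_injective ?_⟩, hR⟩
  rw [← hR i (by omega), Nat.eq_of_beq_eq_true (List.all_eq_true.mp (List.all_eq_true.mp h3 P hP) i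
    (List.mem_range.mpr hi)), idxN_ptN (by omega)]

theorem card_nine : Nat.card {g : Equiv.Perm GolayPt // InNine g} = 72 := by
  rw [card_of_list _ nineList nine_ok.1.1 (fun P hP => nine_sound hP) (fun g h => nine_complete h),
    nine_ok.1.2.1]

theorem nine_props {g k : Equiv.Perm GolayPt} (hg : InNine g) (hk : InNine k) :
    (g ^ 9 = 1 → g ^ 3 = 1) ∧ (g ^ 8 = 1 → g ^ 4 = 1) ∧
    (g ^ 3 = 1 → k ^ 3 = 1 → (g * k) ^ 3 = 1) ∧
    (g ^ 2 = 1 → g ≠ 1 → k ^ 2 = 1 → k ≠ 1 → (g * k) ^ 3 = 1) := by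
  obtain ⟨P, hP, hR⟩ := nine_complete hg
  obtain ⟨R, hRl, hS⟩ := nine_complete hk
  have h := nine_ok.2
  simp only [Bool.and_eq_true, List.all_eq_true] at h
  obtain ⟨⟨⟨h9, h8⟩, h33⟩, h22⟩ := h
  have up : ∀ {Q : ℕ} {x : Equiv.Perm GolayPt}, Reps Q x → ∀ n, x ^ n = 1 → peq (ppow Q n) pone = true :=
    fun hQ n e => (e ▸ ppow_reps hQ n).peq_of_eq reps_one
  have down : ∀ {Q : ℕ} {x : Equiv.Perm GolayPt}, Reps Q x → ∀ n, peq (ppow Q n) pone = true → x ^ n = 1 :=
    fun hQ n e => (ppow_reps hQ n).eq_of_peq reps_one e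
  have ne1 : ∀ {Q : ℕ} {x : Equiv.Perm GolayPt}, Reps Q x → x ≠ 1 → (!peq Q pone) = true := by
    intro Q x hQ hx
    rw [Bool.not_eq_true', ← Bool.not_eq_true]
    exact fun e => hx (hQ.eq_of_peq reps_one e)
  refine ⟨fun e => down hR 3 ?_, fun e => down hR 4 ?_, fun e1 e2 => down (hR.mul hS) 3 ?_,
    fun e1 n1 e2 n2 => down (hR.mul hS) 3 ?_⟩
  · have := h9 P hP
    rwa [up hR 9 e, Bool.not_true, Bool.false_or] at this
  · have := h8 P hP
    rwa [up hR 8 e, Bool.not_true, Bool.false_or] at this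
  · exact h33 P (List.mem_filter.mpr ⟨hP, up hR 3 e1⟩) R (List.mem_filter.mpr ⟨hRl, up hS 3 e2⟩)
  · exact h22 P (List.mem_filter.mpr ⟨hP, by rw [up hR 2 e1, ne1 hR n1]; rfl⟩) R
      (List.mem_filter.mpr ⟨hRl, by rw [up hS 2 e2, ne1 hS n2]; rfl⟩)

theorem exists_nine_map {d : Finset GolayPt} (hd : d ∈ dodecads) {p q r : GolayPt} (hp : p ∈ d)
    (hq : q ∈ d) (hr : r ∈ d) (hpq : p ≠ q) (hpr : p ≠ r) (hqr : q ≠ r) :
    ∃ u ∈ M24, u • d = H90.setOf' nineDod ∧ u p = ptN 0 ∧ u q = ptN 1 ∧ u r = ptN 2 := by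
  classical
  obtain ⟨⟨a, ha⟩, had⟩ := dodecads_transitive hd (dodB_mem nine_ok.1.2.2)
  have had' : a • d = H90.setOf' nineDod := had
  have hmem : ∀ {x}, x ∈ d → a x ∈ H90.setOf' nineDod := fun {x} h =>
    had' ▸ Finset.smul_mem_smul_finset h
  obtain ⟨s, hs⟩ : ∃ s, s = H90.setOf' nineDod \ {a p, a q, a r} := ⟨_, rfl⟩
  have hcard : 2 ≤ s.card := by
    have h := Finset.le_card_sdiff {a p, a q, a r} (H90.setOf' nineDod)
    have h3 : ({a p, a q, a r} : Finset GolayPt).card ≤ 3 := Finset.card_le_three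
    have h12 := (dodB_mem nine_ok.1.2.2).2
    rw [← hs] at h
    omega
  obtain ⟨x, hx, y, hy, hxy⟩ := Finset.one_lt_card.mp (by omega : 1 < s.card)
  rw [hs, Finset.mem_sdiff] at hx hy
  simp only [Finset.mem_insert, Finset.mem_singleton, not_or] at hx hy
  obtain ⟨hxd, hx1, hx2, hx3⟩ := hx
  obtain ⟨hyd, hy1, hy2, hy3⟩ := hy
  have e1 : a p ≠ a q := fun e => hpq (a.injective e)
  have e2 : a p ≠ a r := fun e => hpr (a.injective e)
  have e3 : a q ≠ a r := fun e => hqr (a.injective e)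
  obtain ⟨σ, ⟨hσ, hσd, hσi⟩, -⟩ := H90.dodecad_sharp (dodB_mem nine_ok.1.2.2)
    ⟨![a p, a q, a r, x, y], by
      intro i j e
      fin_cases i <;> fin_cases j <;> simp at e <;>
        first | rfl | exact absurd e (by assumption) | exact absurd e.symm (by assumption)⟩
    ⟨fun i : Fin 5 => ptN i, fun i j e => Fin.ext (ptN_inj (by omega) (by omega) e)⟩
    (fun i => by fin_cases i <;> first | exact hmem hp | exact hmem hq | exact hmem hr | exact hxd | exact hyd)
    (fun i => (mem_setOf'_ptN (by omega)).mpr (by rw [← bitB_eq]; exact nineDod_pts i i.isLt))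
  refine ⟨σ * a, M24.mul_mem hσ ha, ?_, hσi 0, hσi 1, hσi 2⟩
  rw [mul_smul, had']
  exact hσd

end H94
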