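import Cfsg.Agent.H94.OrbitForms
import Cfsg.Agent.H94.OrbOctOct
import Cfsg.Agent.H90.Group

/-!
The orbits of `M24` on ordered pairs of octads, and the orders of their stabilisers.
-/

set_option autoImplicit false

namespace H94

open Cfsg
open scoped Pointwise

/-- the standard octad of the certificates -/
def octad0 : ℕ := 5279

theorem octad0_mem : H90.setOf' octad0 ∈ octads := octB_mem (by decide +kernel)

theorem fam_octad0 : famOf octOctData.nR octOctData.R = {H90.setOf' octad0} :=
  famOf_one (show octad0 < 2 ^ 24 by decide +kernel)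

theorem octOct_root_lt {r : ℕ} (hr : r ∈ octOctData.roots) :
    r ∈ octList ∧ r < 2 ^ 24 := by
  have hok := octOctData_ok
  simp only [OrbitData.okB, certB, Bool.and_eq_true] at hok
  have h := (any_beq_iff _ _).mp (List.all_eq_true.mp hok.2.1.2 r hr)
  exact ⟨h, (mem_octList_lt h).1⟩

theorem octad_pair_reduce {o o' : Finset GolayPt} (ho : o ∈ octads) (ho' : o' ∈ octads) :
    ∃ g : M24, ∃ r ∈ octOctData.roots, g • o = H90.setOf' octad0 ∧ g • o' = H90.setOf' r ∧
      (o ∩ o').card = fpopc (Nat.land octad0 r) := by
  obtain ⟨g₁, hg₁⟩ := octads_transitive ho octad0_mem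
  obtain ⟨m, hm, hme⟩ := mem_octads_iff.mp (smul_mem_octads g₁.2 ho')
  obtain ⟨r, hr, -, h, hh, hhm⟩ := octOctData.exists_smul octOctData_ok (x := m) hm
  rw [fam_octad0, stabilizer_singleton_fam] at hh
  change h • famOf 1 m = famOf 1 r at hhm
  rw [famOf_one (mem_octList_lt hm).1, famOf_one (octOct_root_lt hr).2,
    Finset.smul_finset_singleton] at hhm
  have e2 : (h * g₁) • o' = H90.setOf' r := by
    rw [mul_smul, ← Finset.singleton_injective hhm, hme]; rfl
  have e1 : (h * g₁) • o = H90.setOf' octad0 := by
    rw [mul_smul, hg₁]; exact hh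
  refine ⟨h * g₁, r, hr, e1, e2, ?_⟩
  rw [fpopc_eq, show Nat.land octad0 r = octad0 &&& r from rfl, ← H90.card_setOf', H90.setOf'_and,
    ← e1, ← e2, ← Finset.smul_finset_inter, Finset.card_smul_finset]

/-- the orbit lengths of an octad stabiliser on octads, by intersection size -/
def octOrbitSize (k : ℕ) : ℕ := if k = 0 then 30 else if k = 4 then 280 else if k = 2 then 448 else 1

theorem ncard_octad_orbit {o o' : Finset GolayPt} (ho : o ∈ octads) (ho' : o' ∈ octads) :
    (MulAction.orbit ↥(MulAction.stabilizer M24 o) o').ncard = octOrbitSize (o ∩ o').card := by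
  obtain ⟨g, r, hr, e1, e2, hk⟩ := octad_pair_reduce ho ho'
  have hsep : ∀ r ∈ octOctData.roots, ∀ r' ∈ octOctData.roots,
      hist octOctData.nR octOctData.R octOctData.n r =
        hist octOctData.nR octOctData.R octOctData.n r' → r = r' := by decide +kernel
  have hc := octOctData.ncard_orbit octOctData_ok octFams mem_octFams_iff
    (fun g hg S hS => smul_mem_octFams hg hS) octList_nodup hsep hr
  rw [fam_octad0, stabilizer_singleton_fam, show famOf octOctData.n r = {H90.setOf' r} from
    famOf_one (octOct_root_lt hr).2, ← ncard_orbit_singleton] at hc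
  have htab : (octOctData.roots.all fun r => Nat.beq (octOctData.part r).length
      (octOrbitSize (fpopc (Nat.land octad0 r)))) = true := by decide +kernel
  rw [Nat.eq_of_beq_eq_true (List.all_eq_true.mp htab r hr), ← hk] at hc
  rw [← hc, ← e1, ← e2, orbit_transport, Set.ncard_smul_set]

theorem card_octad_stabilizer {o : Finset GolayPt} (ho : o ∈ octads) :
    Nat.card ↥(MulAction.stabilizer M24 o) = 322560 := by
  have horb : MulAction.orbit M24 o = octads := by
    ext s
    constructor
    · rintro ⟨g, rfl⟩; exact smul_mem_octads g.2 ho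
    · intro hs
      obtain ⟨g, hg⟩ := octads_transitive ho hs
      exact ⟨g, hg⟩
  have h1 := MulAction.index_stabilizer M24 o
  rw [horb, H90.octads_ncard] at h1
  have h2 := (MulAction.stabilizer M24 o).card_mul_index
  rw [h1, H90.natCard_M24] at h2
  omega

theorem card_inf_stabilizer {G α β : Type*} [Group G] [MulAction G α] [MulAction G β] [Finite G]
    (a : α) (b : β) :
    Nat.card ↥(MulAction.stabilizer G a ⊓ MulAction.stabilizer G b) *
        (MulAction.orbit ↥(MulAction.stabilizer G a) b).ncard =
      Nat.card ↥(MulAction.stabilizer G a) := by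
  have e : MulAction.stabilizer ↥(MulAction.stabilizer G a) b =
      (MulAction.stabilizer G a ⊓ MulAction.stabilizer G b).subgroupOf
        (MulAction.stabilizer G a) := by
    rw [Subgroup.inf_subgroupOf_left]
    rfl
  have h1 := (MulAction.stabilizer ↥(MulAction.stabilizer G a) b).card_mul_index
  rw [MulAction.index_stabilizer, e,
    Nat.card_congr (Subgroup.subgroupOfEquivOfLe inf_le_left).toEquiv] at h1
  exact h1

theorem card_octad_pair_stabilizer {o o' : Finset GolayPt} (ho : o ∈ octads) (ho' : o' ∈ octads) :
    Nat.card ↥(MulAction.stabilizer M24 o ⊓ MulAction.stabilizer M24 o') *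
      octOrbitSize (o ∩ o').card = 322560 := by
  rw [← ncard_octad_orbit ho ho', card_inf_stabilizer, card_octad_stabilizer ho]

end H94
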