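import Cfsg.Agent.H94.Tbl
import Cfsg.Agent.H94.Objects

/-!
Orbits of setwise stabilisers in `M24` on octads, trios and sextets: certificates.

The orbits are separated by the profile of intersection sizes with the stabilised family, and
every listed object carries a word in given generators taking it to the representative of its
profile.
-/

set_option autoImplicit false

namespace H94

open Cfsg
open scoped Pointwise

/-- a generator: packed permutation and its byte tables -/
abbrev Gen : Type := ℕ × (ℕ × ℕ × ℕ)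

/-- generators lie in `M24`, have correct tables, and fix the family `R` -/
noncomputable def gensB (nR R : ℕ) (gens : List Gen) : Bool :=
  gens.all fun e => memB e.1 && tabOK e.1 e.2 &&
    sameB ((parts nR R).map (pmask e.1)) (parts nR R)

/-- apply a word (octal digits `1..7`, lowest first) to a list of masks -/
def walk (tabs : List (ℕ × ℕ × ℕ)) : ℕ → ℕ → List ℕ → List ℕ
  | 0, _, L => L
  | k + 1, w, L =>
    match tabs.drop (Nat.sub (Nat.land w 7) 1) with
    | [] => L
    | T :: _ => cond (Nat.beq w 0) L (walk tabs k (Nat.shiftRight w 3) (L.map (tmask T)))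

/-- profile of intersection sizes of the family `x` with the family `R` -/
def hist (nR R n x : ℕ) : ℕ :=
  ((parts n x).map fun a => ((parts nR R).map fun r => 32 ^ fpopc (Nat.land a r)).sum).sum

/-- the semantic profile -/
noncomputable def histF (R S : Finset (Finset GolayPt)) : ℕ :=
  ∑ a ∈ S, ∑ r ∈ R, 32 ^ (a ∩ r).card

theorem sum_famList {L : List ℕ} (hn : L.Nodup) (hlt : ∀ m ∈ L, m < 2 ^ 24)
    (f : Finset GolayPt → ℕ) : ∑ s ∈ famList L, f s = (L.map fun m => f (H90.setOf' m)).sum := by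
  rw [famList, Finset.sum_image, List.sum_toFinset _ hn]
  intro a ha b hb e
  simp only [List.coe_toFinset, Set.mem_ofPred_eq] at ha hb
  exact H90.setOf'_injOn (hlt a ha) (hlt b hb) e

theorem hist_eq {nR R n x : ℕ} (hR : canB nR R = true) (hx : canB n x = true) :
    hist nR R n x = histF (famOf nR R) (famOf n x) := by
  rw [canB, Bool.and_eq_true] at hR hx
  rw [histF, famOf, famOf, sum_famList (incrB_nodup hx.2) (parts_lt n x), hist]
  refine congrArg List.sum (List.map_congr_left fun a _ => ?_)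
  rw [sum_famList (incrB_nodup hR.2) (parts_lt nR R)]
  refine congrArg List.sum (List.map_congr_left fun r _ => ?_)
  rw [← H90.setOf'_and, H90.card_setOf', ← fpopc_eq]
  rfl

theorem histF_smul (g : Equiv.Perm GolayPt) (R S : Finset (Finset GolayPt)) :
    histF (g • R) (g • S) = histF R S := by
  have him : ∀ T : Finset (Finset GolayPt), g • T = T.image (g • ·) := fun T => rfl
  rw [histF, histF, him S, Finset.sum_image fun a _ b _ e => smul_left_cancel g e]
  refine Finset.sum_congr rfl fun a _ => ?_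
  rw [him R, Finset.sum_image fun a _ b _ e => smul_left_cancel g e]
  refine Finset.sum_congr rfl fun r _ => ?_
  rw [← Finset.smul_finset_inter, Finset.card_smul_finset]

/-- the certificate -/
def certB (nR R n : ℕ) (tabs : List (ℕ × ℕ × ℕ)) (fuel : ℕ) (L ws roots : List ℕ) : Bool :=
  Nat.beq ws.length L.length && L.all (canB n) && roots.all (fun r => L.any (Nat.beq r)) &&
    (List.zip L ws).all fun e => roots.any fun r =>
      Nat.beq (hist nR R n e.1) (hist nR R n r) && sameB (walk tabs fuel e.2 (parts n e.1)) (parts n r)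

theorem walk_spec {gens : List Gen} {A : Finset (Finset GolayPt)}
    (hg : ∀ e ∈ gens, ∃ g ∈ M24, Reps e.1 g ∧ g • A = A ∧ tabOK e.1 e.2 = true) :
    ∀ (fuel w : ℕ) (L : List ℕ), (∀ m ∈ L, m < 2 ^ 24) →
      ∃ g ∈ M24, g • A = A ∧ g • famList L = famList (walk (gens.map Prod.snd) fuel w L) ∧
        ∀ m ∈ walk (gens.map Prod.snd) fuel w L, m < 2 ^ 24
  | 0, w, L, hL => ⟨1, M24.one_mem, one_smul _ _, one_smul _ _, hL⟩
  | k + 1, w, L, hL => by
    rw [walk]
    rcases hd : (gens.map Prod.snd).drop (Nat.sub (Nat.land w 7) 1) with _ | ⟨T, rest⟩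
    · exact ⟨1, M24.one_mem, one_smul _ _, one_smul _ _, hL⟩
    · simp only
      cases Nat.beq w 0
      · simp only [cond_false]
        obtain ⟨e, he, rfl⟩ := List.mem_map.mp
          (List.mem_of_mem_drop (hd ▸ List.mem_cons_self : T ∈ (gens.map Prod.snd).drop _))
        obtain ⟨g, hgM, hR, hA, htab⟩ := hg e he
        have hmap : L.map (tmask e.2) = L.map (pmask e.1) :=
          List.map_congr_left fun m hm => tmask_eq htab (hL m hm)
        rw [hmap]
        have hL' : ∀ m ∈ L.map (pmask e.1), m < 2 ^ 24 := by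
          intro m hm
          obtain ⟨m', -, rfl⟩ := List.mem_map.mp hm
          exact hR.pmask_lt m'
        obtain ⟨h, hh, hhA, hhe, hb⟩ := walk_spec hg k (Nat.shiftRight w 3) _ hL'
        refine ⟨h * g, M24.mul_mem hh hgM, by rw [mul_smul, hA, hhA], ?_, hb⟩
        rw [mul_smul, ← famList_smul hR, hhe]
      · exact ⟨1, M24.one_mem, one_smul _ _, one_smul _ _, hL⟩

theorem gensB_spec {nR R : ℕ} {gens : List Gen} (h : gensB nR R gens = true) :
    ∀ e ∈ gens, ∃ g ∈ M24, Reps e.1 g ∧ g • famOf nR R = famOf nR R ∧ tabOK e.1 e.2 = true := by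
  intro e he
  have hb := List.all_eq_true.mp h e he
  simp only [Bool.and_eq_true] at hb
  obtain ⟨g, hg, hR⟩ := exists_perm_of_memB hb.1.1
  refine ⟨g, hg, hR, ?_, hb.1.2⟩
  rw [famOf, ← famList_smul hR,
    famList_eq_iff (fun m hm => ?_) (parts_lt nR R)]
  · exact hb.2
  · obtain ⟨m', -, rfl⟩ := List.mem_map.mp hm
    exact hR.pmask_lt m'

/-- A certified description of the orbits of the stabiliser of `famOf nR R` on a set `X` of families. -/
structure OrbitData where
  nR : ℕ
  R : ℕ
  n : ℕ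
  gens : List Gen
  fuel : ℕ
  L : List ℕ
  ws : List ℕ
  roots : List ℕ

/-- the check -/
noncomputable def OrbitData.okB (D : OrbitData) : Bool :=
  canB D.nR D.R && gensB D.nR D.R D.gens &&
    certB D.nR D.R D.n (D.gens.map Prod.snd) D.fuel D.L D.ws D.roots

/-- the part of the list with the profile of `r` -/
def OrbitData.part (D : OrbitData) (r : ℕ) : List ℕ :=
  D.L.filter fun x => Nat.beq (hist D.nR D.R D.n x) (hist D.nR D.R D.n r)

theorem OrbitData.exists_smul (D : OrbitData) (hok : D.okB = true) {x : ℕ} (hx : x ∈ D.L) :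
    ∃ r ∈ D.roots, hist D.nR D.R D.n x = hist D.nR D.R D.n r ∧
      ∃ g : M24, g ∈ MulAction.stabilizer M24 (famOf D.nR D.R) ∧
        g • famOf D.n x = famOf D.n r := by
  simp only [OrbitData.okB, certB, Bool.and_eq_true] at hok
  obtain ⟨⟨_, hg⟩, ⟨⟨⟨hlen, _⟩, _⟩, hcert⟩⟩ := hok
  obtain ⟨i, hi, rfl⟩ := List.getElem_of_mem hx
  have hlen' := Nat.eq_of_beq_eq_true hlen
  have hi' : i < (List.zip D.L D.ws).length := by rw [List.length_zip]; omega
  have he := List.all_eq_true.mp hcert _ (List.getElem_mem hi')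
  simp only [List.getElem_zip, List.any_eq_true, Bool.and_eq_true] at he
  obtain ⟨r, hr, hh, hs⟩ := he
  obtain ⟨g, hgM, hA, hgs, hlt⟩ := walk_spec (gensB_spec hg) D.fuel (D.ws[i]'(by omega))
    (parts D.n D.L[i]) (parts_lt _ _)
  refine ⟨r, hr, Nat.eq_of_beq_eq_true hh, ⟨g, hgM⟩, hA, ?_⟩
  show g • famOf D.n D.L[i] = _
  rw [famOf, hgs, famOf, famList_eq_iff hlt (parts_lt _ _)]
  exact hs

theorem OrbitData.orbit_eq (D : OrbitData) (hok : D.okB = true)
    (X : Set (Finset (Finset GolayPt))) (hX : ∀ S, S ∈ X ↔ ∃ x ∈ D.L, famOf D.n x = S)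
    (hinv : ∀ g ∈ M24, ∀ S ∈ X, g • S ∈ X)
    (hsep : ∀ r ∈ D.roots, ∀ r' ∈ D.roots,
      hist D.nR D.R D.n r = hist D.nR D.R D.n r' → r = r')
    {r : ℕ} (hr : r ∈ D.roots) :
    MulAction.orbit ↥(MulAction.stabilizer M24 (famOf D.nR D.R)) (famOf D.n r) =
      ↑((D.part r).toFinset.image (famOf D.n)) := by
  have hok' := hok
  simp only [OrbitData.okB, certB, Bool.and_eq_true] at hok'
  obtain ⟨⟨hR, _⟩, ⟨⟨⟨_, hcan⟩, hroots⟩, _⟩⟩ := hok'
  have hrL : r ∈ D.L := (any_beq_iff _ _).mp (List.all_eq_true.mp hroots r hr)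
  ext S
  simp only [Finset.coe_image, List.coe_toFinset, Set.mem_image, Set.mem_ofPred_eq]
  constructor
  · rintro ⟨⟨⟨g, hg⟩, hA⟩, rfl⟩
    have hA' : g • famOf D.nR D.R = famOf D.nR D.R := hA
    show ∃ x, _ ∧ famOf D.n x = g • famOf D.n r
    obtain ⟨x, hx, hxe⟩ := (hX _).mp (hinv g hg _ ((hX _).mpr ⟨r, hrL, rfl⟩))
    refine ⟨x, List.mem_filter.mpr ⟨hx, ?_⟩, hxe⟩
    rw [hist_eq hR (List.all_eq_true.mp hcan x hx), hist_eq hR (List.all_eq_true.mp hcan r hrL),
      hxe]
    have e := histF_smul g (famOf D.nR D.R) (famOf D.n r)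
    rw [hA'] at e
    rw [e]
    exact Nat.beq_refl _
  · rintro ⟨x, hx, rfl⟩
    obtain ⟨hxL, hxh⟩ := List.mem_filter.mp hx
    obtain ⟨r', hr', hh, g, hg, hgx⟩ := D.exists_smul hok hxL
    obtain rfl := hsep r' hr' r hr (hh.symm.trans (Nat.eq_of_beq_eq_true hxh))
    exact ⟨⟨g⁻¹, Subgroup.inv_mem _ hg⟩, show g⁻¹ • famOf D.n r' = _ by
      rw [← hgx, inv_smul_smul]⟩

theorem OrbitData.ncard_orbit (D : OrbitData) (hok : D.okB = true)
    (X : Set (Finset (Finset GolayPt))) (hX : ∀ S, S ∈ X ↔ ∃ x ∈ D.L, famOf D.n x = S)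
    (hinv : ∀ g ∈ M24, ∀ S ∈ X, g • S ∈ X) (hL : D.L.Nodup)
    (hsep : ∀ r ∈ D.roots, ∀ r' ∈ D.roots,
      hist D.nR D.R D.n r = hist D.nR D.R D.n r' → r = r')
    {r : ℕ} (hr : r ∈ D.roots) :
    (MulAction.orbit ↥(MulAction.stabilizer M24 (famOf D.nR D.R)) (famOf D.n r)).ncard =
      (D.part r).length := by
  rw [D.orbit_eq hok X hX hinv hsep hr, Set.ncard_coe_finset, Finset.card_image_of_injOn,
    List.toFinset_card_of_nodup (show (D.part r).Nodup from hL.filter _)]
  simp only [OrbitData.okB, certB, Bool.and_eq_true] at hok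
  intro a ha b hb e
  simp only [List.coe_toFinset, Set.mem_ofPred_eq, OrbitData.part, List.mem_filter] at ha hb
  exact famOf_injOn (List.all_eq_true.mp hok.2.1.1.2 a ha.1)
    (List.all_eq_true.mp hok.2.1.1.2 b hb.1) e

end H94
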