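import Cfsg.Agent.H94.Orbit
import Cfsg.Agent.H94.OrbAllOct
import Cfsg.Agent.H94.OrbAllTrio
import Cfsg.Agent.H94.OrbAllSext

/-!
`M24` is transitive on octads, trios and sextets; transport of stabiliser orbits.
-/

set_option autoImplicit false

namespace H94

open Cfsg
open scoped Pointwise

theorem smul_mem_trios {g : Equiv.Perm GolayPt} (hg : g ∈ M24) {T : Finset (Finset GolayPt)}
    (hT : T ∈ trios) : g • T ∈ trios := by
  refine ⟨by rw [Finset.card_smul_finset]; exact hT.1, ?_, ?_⟩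
  · intro o ho
    obtain ⟨a, ha, rfl⟩ := Finset.mem_smul_finset.mp ho
    exact smul_mem_octads hg (hT.2.1 a ha)
  · intro o ho o' ho' hne
    obtain ⟨a, ha, rfl⟩ := Finset.mem_smul_finset.mp ho
    obtain ⟨b, hb, rfl⟩ := Finset.mem_smul_finset.mp ho'
    rw [Finset.disjoint_iff_inter_eq_empty, ← Finset.smul_finset_inter,
      Finset.disjoint_iff_inter_eq_empty.mp (hT.2.2 a ha b hb fun e => hne (by rw [e])),
      Finset.smul_finset_empty]

theorem smul_mem_sextets {g : Equiv.Perm GolayPt} (hg : g ∈ M24) {S : Finset (Finset GolayPt)}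
    (hS : S ∈ sextets) : g • S ∈ sextets := by
  refine ⟨by rw [Finset.card_smul_finset]; exact hS.1, ?_, ?_⟩
  · intro o ho
    obtain ⟨a, ha, rfl⟩ := Finset.mem_smul_finset.mp ho
    rw [Finset.card_smul_finset]; exact hS.2.1 a ha
  · intro o ho o' ho' hne
    obtain ⟨a, ha, rfl⟩ := Finset.mem_smul_finset.mp ho
    obtain ⟨b, hb, rfl⟩ := Finset.mem_smul_finset.mp ho'
    rw [← Finset.smul_finset_union]
    exact smul_mem_octads hg (hS.2.2 a ha b hb fun e => hne (by rw [e]))

/-- octads as one-member families -/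
def octFams : Set (Finset (Finset GolayPt)) := {S | ∃ o ∈ octads, S = {o}}

theorem famOf_one {x : ℕ} (hx : x < 2 ^ 24) : famOf 1 x = {H90.setOf' x} := by
  have e : parts 1 x = [x] := by
    rw [parts_def, Nat.mod_eq_of_lt hx]; rfl
  rw [famOf, famList, e]
  rfl

theorem smul_mem_octFams {g : Equiv.Perm GolayPt} (hg : g ∈ M24) {S : Finset (Finset GolayPt)}
    (hS : S ∈ octFams) : g • S ∈ octFams := by
  obtain ⟨o, ho, rfl⟩ := hS
  exact ⟨g • o, smul_mem_octads hg ho, Finset.smul_finset_singleton o⟩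

theorem mem_octFams_iff (S : Finset (Finset GolayPt)) :
    S ∈ octFams ↔ ∃ x ∈ octList, famOf 1 x = S := by
  constructor
  · rintro ⟨o, ho, rfl⟩
    obtain ⟨m, hm, rfl⟩ := mem_octads_iff.mp ho
    exact ⟨m, hm, famOf_one (mem_octList_lt hm).1⟩
  · rintro ⟨x, hx, rfl⟩
    exact ⟨_, (mem_octList_lt hx).2, famOf_one (mem_octList_lt hx).1⟩

theorem octList_nodup : octList.Nodup := by
  have h := octList_ok
  simp only [Bool.and_eq_true] at h
  exact incrB_nodup h.1.2

theorem trioList_nodup : trioList.Nodup := by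
  have h := trioList_ok
  rw [Bool.and_eq_true] at h
  exact incrB_nodup h.2

theorem sextList_nodup : sextList.Nodup := by
  have h := sextList_ok
  rw [Bool.and_eq_true] at h
  exact incrB_nodup h.2

theorem stabilizer_singleton_fam (o : Finset GolayPt) :
    MulAction.stabilizer M24 ({o} : Finset (Finset GolayPt)) = MulAction.stabilizer M24 o := by
  ext g
  simp [MulAction.mem_stabilizer_iff]

theorem orbit_singleton_fam (H : Subgroup M24) (o : Finset GolayPt) :
    MulAction.orbit H ({o} : Finset (Finset GolayPt)) =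
      (fun s => ({s} : Finset (Finset GolayPt))) '' MulAction.orbit H o := by
  ext S
  simp only [MulAction.mem_orbit_iff, Set.mem_image]
  constructor
  · rintro ⟨g, rfl⟩; exact ⟨g • o, ⟨g, rfl⟩, (Finset.smul_finset_singleton o).symm⟩
  · rintro ⟨_, ⟨g, rfl⟩, rfl⟩; exact ⟨g, Finset.smul_finset_singleton o⟩

theorem ncard_orbit_singleton (H : Subgroup M24) (o : Finset GolayPt) :
    (MulAction.orbit H o).ncard = (MulAction.orbit H ({o} : Finset (Finset GolayPt))).ncard := by
  rw [orbit_singleton_fam, Set.ncard_image_of_injective _ Finset.singleton_injective]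

/-- the root of a one-orbit certificate reaches everything -/
theorem transitive_of_data (D : OrbitData) (hok : D.okB = true) (hR : D.nR = 0)
    (X : Set (Finset (Finset GolayPt))) (hX : ∀ S, S ∈ X ↔ ∃ x ∈ D.L, famOf D.n x = S)
    (r : ℕ) (hr : D.roots = [r]) {S : Finset (Finset GolayPt)} (hS : S ∈ X) :
    ∃ g : M24, g • famOf D.n r = S := by
  obtain ⟨x, hx, rfl⟩ := (hX S).mp hS
  obtain ⟨r', hr', -, g, -, hg⟩ := D.exists_smul hok hx
  rw [hr, List.mem_singleton] at hr'
  subst hr'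
  exact ⟨g⁻¹, by rw [← hg, inv_smul_smul]⟩

theorem trios_transitive {T T' : Finset (Finset GolayPt)} (hT : T ∈ trios) (hT' : T' ∈ trios) :
    ∃ g : M24, g • T = T' := by
  obtain ⟨r, hr⟩ : ∃ r, allTrioData.roots = [r] := ⟨_, rfl⟩
  obtain ⟨g, hg⟩ := transitive_of_data allTrioData allTrioData_ok rfl trios
    (fun S => mem_trios_iff) r hr hT
  obtain ⟨g', hg'⟩ := transitive_of_data allTrioData allTrioData_ok rfl trios
    (fun S => mem_trios_iff) r hr hT'
  exact ⟨g' * g⁻¹, by rw [mul_smul, ← hg, inv_smul_smul, hg']⟩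

theorem sextets_transitive {S S' : Finset (Finset GolayPt)} (hS : S ∈ sextets) (hS' : S' ∈ sextets) :
    ∃ g : M24, g • S = S' := by
  obtain ⟨r, hr⟩ : ∃ r, allSextData.roots = [r] := ⟨_, rfl⟩
  obtain ⟨g, hg⟩ := transitive_of_data allSextData allSextData_ok rfl sextets
    (fun S => mem_sextets_iff) r hr hS
  obtain ⟨g', hg'⟩ := transitive_of_data allSextData allSextData_ok rfl sextets
    (fun S => mem_sextets_iff) r hr hS'
  exact ⟨g' * g⁻¹, by rw [mul_smul, ← hg, inv_smul_smul, hg']⟩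

theorem octads_transitive {o o' : Finset GolayPt} (ho : o ∈ octads) (ho' : o' ∈ octads) :
    ∃ g : M24, g • o = o' := by
  obtain ⟨r, hr⟩ : ∃ r, allOctData.roots = [r] := ⟨_, rfl⟩
  obtain ⟨g, hg⟩ := transitive_of_data allOctData allOctData_ok rfl octFams mem_octFams_iff r hr
    (S := {o}) ⟨o, ho, rfl⟩
  obtain ⟨g', hg'⟩ := transitive_of_data allOctData allOctData_ok rfl octFams mem_octFams_iff r hr
    (S := {o'}) ⟨o', ho', rfl⟩
  refine ⟨g' * g⁻¹, ?_⟩
  apply Finset.singleton_injective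
  rw [← Finset.smul_finset_singleton, mul_smul, ← hg, inv_smul_smul, hg']

/-- transport of orbits of stabilisers -/
theorem orbit_transport {G α β : Type*} [Group G] [MulAction G α] [MulAction G β] (g : G) (a : α)
    (x : β) :
    MulAction.orbit ↥(MulAction.stabilizer G (g • a)) (g • x) =
      g • MulAction.orbit ↥(MulAction.stabilizer G a) x := by
  ext y
  constructor
  · rintro ⟨⟨h, hh⟩, rfl⟩
    refine Set.mem_smul_set.mpr ⟨(g⁻¹ * h * g) • x, ⟨⟨g⁻¹ * h * g, ?_⟩, rfl⟩, ?_⟩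
    · rw [MulAction.mem_stabilizer_iff] at hh ⊢
      rw [mul_smul, mul_smul, hh, inv_smul_smul]
    · show g • (g⁻¹ * h * g) • x = h • g • x
      rw [← mul_smul, mul_assoc g⁻¹, mul_inv_cancel_left, mul_smul]
  · intro hy
    obtain ⟨_, ⟨⟨h, hh⟩, rfl⟩, rfl⟩ := Set.mem_smul_set.mp hy
    refine ⟨⟨g * h * g⁻¹, ?_⟩, ?_⟩
    · rw [MulAction.mem_stabilizer_iff] at hh ⊢
      rw [mul_smul, mul_smul, inv_smul_smul, hh]
    · show (g * h * g⁻¹) • g • x = g • h • x
      rw [← mul_smul, inv_mul_cancel_right, mul_smul]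

theorem smul_set_eq_of_invariant {G β : Type*} [Group G] [MulAction G β] (g : G) (X : Set β)
    (hX : ∀ h : G, ∀ x ∈ X, h • x ∈ X) : g • X = X := by
  ext y
  rw [Set.mem_smul_set_iff_inv_smul_mem]
  exact ⟨fun h => by simpa using hX g _ h, fun h => hX g⁻¹ _ h⟩

/-- A list of roots gives representatives of all orbits, with their sizes. -/
theorem OrbitData.summary (D : OrbitData) (hok : D.okB = true)
    (X : Set (Finset (Finset GolayPt))) (hX : ∀ S, S ∈ X ↔ ∃ x ∈ D.L, famOf D.n x = S)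
    (hinv : ∀ g ∈ M24, ∀ S ∈ X, g • S ∈ X) (hL : D.L.Nodup) (sizes : List ℕ)
    (hs : (D.roots.map fun r => (D.part r).length) = sizes ∧
      (D.roots.all fun r => D.roots.all fun r' =>
        !Nat.beq (hist D.nR D.R D.n r) (hist D.nR D.R D.n r') || Nat.beq r r') = true) :
    ∃ Xs : List (Finset (Finset GolayPt)), Xs.length = sizes.length ∧ (∀ S ∈ Xs, S ∈ X) ∧
      Xs.map (fun S => (MulAction.orbit ↥(MulAction.stabilizer M24 (famOf D.nR D.R)) S).ncard)
        = sizes ∧
      ∀ S, S ∈ X ↔ ∃ r ∈ Xs,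
        S ∈ MulAction.orbit ↥(MulAction.stabilizer M24 (famOf D.nR D.R)) r := by
  obtain ⟨hsz, hsep'⟩ := hs
  have hsep : ∀ r ∈ D.roots, ∀ r' ∈ D.roots,
      hist D.nR D.R D.n r = hist D.nR D.R D.n r' → r = r' := by
    intro r hr r' hr' e
    have := List.all_eq_true.mp (List.all_eq_true.mp hsep' r hr) r' hr'
    rw [e, Nat.beq_refl, Bool.not_true, Bool.false_or] at this
    exact Nat.eq_of_beq_eq_true this
  have hrootsL : ∀ r ∈ D.roots, r ∈ D.L := by
    simp only [OrbitData.okB, certB, Bool.and_eq_true] at hok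
    exact fun r hr => (any_beq_iff _ _).mp (List.all_eq_true.mp hok.2.1.2 r hr)
  refine ⟨D.roots.map (famOf D.n), by rw [← hsz]; simp, ?_, ?_, ?_⟩
  · intro S hS
    obtain ⟨r, hr, rfl⟩ := List.mem_map.mp hS
    exact (hX _).mpr ⟨r, hrootsL r hr, rfl⟩
  · rw [List.map_map, ← hsz]
    exact List.map_congr_left fun r hr => D.ncard_orbit hok X hX hinv hL hsep hr
  · intro S
    constructor
    · intro hS
      obtain ⟨x, hx, rfl⟩ := (hX S).mp hS
      obtain ⟨r, hr, -, g, hg, hgx⟩ := D.exists_smul hok hx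
      exact ⟨_, List.mem_map.mpr ⟨r, hr, rfl⟩, ⟨⟨g⁻¹, Subgroup.inv_mem _ hg⟩,
        show g⁻¹ • famOf D.n r = _ by rw [← hgx, inv_smul_smul]⟩⟩
    · rintro ⟨r, hr, ⟨g, rfl⟩⟩
      obtain ⟨r', hr', rfl⟩ := List.mem_map.mp hr
      exact hinv _ g.1.2 _ ((hX _).mpr ⟨r', hrootsL r' hr', rfl⟩)

end H94
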