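import Cfsg.Agent.H94.OrbitFacts

/-!
The orbit summaries in the form of three or four named orbits, transported along `M24`.
-/

set_option autoImplicit false

namespace H94

open Cfsg
open scoped Pointwise

section forms

variable {G α β : Type*} [Group G] [MulAction G α] [MulAction G β]

theorem three_orbits (g : G) (a0 a : α) (ha : g • a0 = a) (X : Set β)
    (hX : ∀ h : G, ∀ x ∈ X, h • x ∈ X) (x₁ x₂ x₃ : β) (n₁ n₂ n₃ : ℕ)
    (h1 : x₁ ∈ X) (h2 : x₂ ∈ X) (h3 : x₃ ∈ X)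
    (c1 : (MulAction.orbit ↥(MulAction.stabilizer G a0) x₁).ncard = n₁)
    (c2 : (MulAction.orbit ↥(MulAction.stabilizer G a0) x₂).ncard = n₂)
    (c3 : (MulAction.orbit ↥(MulAction.stabilizer G a0) x₃).ncard = n₃)
    (hcov : ∀ S, S ∈ X ↔ ∃ r ∈ [x₁, x₂, x₃],
      S ∈ MulAction.orbit ↥(MulAction.stabilizer G a0) r) :
    ∃ y₁ ∈ X, ∃ y₂ ∈ X, ∃ y₃ ∈ X,
      (MulAction.orbit ↥(MulAction.stabilizer G a) y₁).ncard = n₁ ∧
      (MulAction.orbit ↥(MulAction.stabilizer G a) y₂).ncard = n₂ ∧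
      (MulAction.orbit ↥(MulAction.stabilizer G a) y₃).ncard = n₃ ∧
      X = MulAction.orbit ↥(MulAction.stabilizer G a) y₁ ∪
        MulAction.orbit ↥(MulAction.stabilizer G a) y₂ ∪
        MulAction.orbit ↥(MulAction.stabilizer G a) y₃ := by
  subst ha
  refine ⟨g • x₁, hX g _ h1, g • x₂, hX g _ h2, g • x₃, hX g _ h3, ?_, ?_, ?_, ?_⟩
  · rw [orbit_transport, Set.ncard_smul_set, c1]
  · rw [orbit_transport, Set.ncard_smul_set, c2]
  · rw [orbit_transport, Set.ncard_smul_set, c3]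
  · rw [orbit_transport, orbit_transport, orbit_transport, ← Set.smul_set_union,
      ← Set.smul_set_union]
    conv_lhs => rw [← smul_set_eq_of_invariant g X hX]
    congr 1
    ext S
    rw [hcov]
    simp [or_assoc]

theorem four_orbits (g : G) (a0 a : α) (ha : g • a0 = a) (X : Set β)
    (hX : ∀ h : G, ∀ x ∈ X, h • x ∈ X) (x₁ x₂ x₃ x₄ : β) (n₁ n₂ n₃ n₄ : ℕ)
    (h1 : x₁ ∈ X) (h2 : x₂ ∈ X) (h3 : x₃ ∈ X) (h4 : x₄ ∈ X)
    (c1 : (MulAction.orbit ↥(MulAction.stabilizer G a0) x₁).ncard = n₁)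
    (c2 : (MulAction.orbit ↥(MulAction.stabilizer G a0) x₂).ncard = n₂)
    (c3 : (MulAction.orbit ↥(MulAction.stabilizer G a0) x₃).ncard = n₃)
    (c4 : (MulAction.orbit ↥(MulAction.stabilizer G a0) x₄).ncard = n₄)
    (hcov : ∀ S, S ∈ X ↔ ∃ r ∈ [x₁, x₂, x₃, x₄],
      S ∈ MulAction.orbit ↥(MulAction.stabilizer G a0) r) :
    ∃ y₁ ∈ X, ∃ y₂ ∈ X, ∃ y₃ ∈ X, ∃ y₄ ∈ X,
      (MulAction.orbit ↥(MulAction.stabilizer G a) y₁).ncard = n₁ ∧
      (MulAction.orbit ↥(MulAction.stabilizer G a) y₂).ncard = n₂ ∧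
      (MulAction.orbit ↥(MulAction.stabilizer G a) y₃).ncard = n₃ ∧
      (MulAction.orbit ↥(MulAction.stabilizer G a) y₄).ncard = n₄ ∧
      X = MulAction.orbit ↥(MulAction.stabilizer G a) y₁ ∪
        MulAction.orbit ↥(MulAction.stabilizer G a) y₂ ∪
        MulAction.orbit ↥(MulAction.stabilizer G a) y₃ ∪
        MulAction.orbit ↥(MulAction.stabilizer G a) y₄ := by
  subst ha
  refine ⟨g • x₁, hX g _ h1, g • x₂, hX g _ h2, g • x₃, hX g _ h3, g • x₄, hX g _ h4,
    ?_, ?_, ?_, ?_, ?_⟩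
  · rw [orbit_transport, Set.ncard_smul_set, c1]
  · rw [orbit_transport, Set.ncard_smul_set, c2]
  · rw [orbit_transport, Set.ncard_smul_set, c3]
  · rw [orbit_transport, Set.ncard_smul_set, c4]
  · rw [orbit_transport, orbit_transport, orbit_transport, orbit_transport, ← Set.smul_set_union,
      ← Set.smul_set_union, ← Set.smul_set_union]
    conv_lhs => rw [← smul_set_eq_of_invariant g X hX]
    congr 1
    ext S
    rw [hcov]
    simp [or_assoc]

end forms

/-- strip the singleton wrappers from a summary on octads -/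
theorem octad_summary (H : Subgroup M24) (Xs : List (Finset (Finset GolayPt))) (sizes : List ℕ)
    (hXs : ∀ S ∈ Xs, S ∈ octFams)
    (hsz : Xs.map (fun S => (MulAction.orbit H S).ncard) = sizes)
    (hcov : ∀ S, S ∈ octFams ↔ ∃ r ∈ Xs, S ∈ MulAction.orbit H r) :
    ∃ os : List (Finset GolayPt), (∀ o ∈ os, o ∈ octads) ∧
      os.map (fun o => (MulAction.orbit H o).ncard) = sizes ∧
      ∀ o, o ∈ octads ↔ ∃ r ∈ os, o ∈ MulAction.orbit H r := by
  obtain ⟨os, hos⟩ : ∃ os, os = Xs.map (fun S => S.biUnion (fun x => x)) := ⟨_, rfl⟩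
  have hsing : ∀ S ∈ Xs, ({S.biUnion (fun x => x)} : Finset (Finset GolayPt)) = S ∧
      S.biUnion (fun x => x) ∈ octads := by
    intro S hS
    obtain ⟨o, ho, rfl⟩ := hXs S hS
    simp [ho]
  refine ⟨os, ?_, ?_, ?_⟩
  · intro o ho
    subst hos
    obtain ⟨S, hS, rfl⟩ := List.mem_map.mp ho
    exact (hsing S hS).2
  · subst hos
    rw [List.map_map, ← hsz]
    refine List.map_congr_left fun S hS => ?_
    rw [Function.comp_apply, ncard_orbit_singleton, (hsing S hS).1]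
  · intro o
    subst hos
    have horb : ∀ r : Finset GolayPt,
        ({o} : Finset (Finset GolayPt)) ∈ MulAction.orbit H ({r} : Finset (Finset GolayPt)) ↔
          o ∈ MulAction.orbit H r := by
      intro r
      rw [orbit_singleton_fam, Set.mem_image]
      exact ⟨fun ⟨s, hs, e⟩ => Finset.singleton_injective e ▸ hs, fun h => ⟨o, h, rfl⟩⟩
    constructor
    · intro ho
      obtain ⟨S, hS, hm⟩ := (hcov {o}).mp ⟨o, ho, rfl⟩
      rw [← (hsing S hS).1, horb] at hm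
      exact ⟨_, List.mem_map.mpr ⟨S, hS, rfl⟩, hm⟩
    · rintro ⟨r, hr, hm⟩
      obtain ⟨S, hS, rfl⟩ := List.mem_map.mp hr
      have h2 := (horb _).mpr hm
      rw [(hsing S hS).1] at h2
      obtain ⟨o', ho', e⟩ := (hcov {o}).mpr ⟨S, hS, h2⟩
      exact Finset.singleton_injective e ▸ ho'

end H94
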