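import Cfsg.Agent.H94.TrioPairsData
import Cfsg.Agent.H94.OrbitFacts

/-!
The fifteen trios through an octad and the action of its stabiliser on them.
-/

set_option autoImplicit false

namespace H94

open Cfsg
open scoped Pointwise

/-- the standard octad as a set -/
def stdOctad : Finset GolayPt := H90.setOf' 5279

theorem stdOctad_mem : stdOctad ∈ octads := octB_mem (by decide +kernel)

theorem octTrios_eq :
    trioList.filter (fun x => (parts 3 x).any (Nat.beq 5279)) = octTrios := by decide +kernel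

theorem octTrios_spec {x : ℕ} (hx : x ∈ octTrios) :
    x ∈ trioList ∧ famOf 3 x ∈ trios ∧ stdOctad ∈ famOf 3 x ∧ canB 3 x = true := by
  rw [← octTrios_eq, List.mem_filter] at hx
  refine ⟨hx.1, mem_trios_iff.mpr ⟨x, hx.1, rfl⟩,
    mem_famList.mpr ⟨5279, (any_beq_iff _ _).mp hx.2, rfl⟩, ?_⟩
  have hok := trioList_ok
  rw [Bool.and_eq_true] at hok
  have hb := List.all_eq_true.mp hok.1 x hx.1
  simp only [trioB, Bool.and_eq_true] at hb
  exact hb.1.1

theorem mem_octTrios {T : Finset (Finset GolayPt)} (hT : T ∈ trios) (ho : stdOctad ∈ T) :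
    ∃ x ∈ octTrios, famOf 3 x = T := by
  obtain ⟨x, hx, rfl⟩ := mem_trios_iff.mp hT
  refine ⟨x, ?_, rfl⟩
  rw [← octTrios_eq, List.mem_filter]
  obtain ⟨m, hm, e⟩ := mem_famList.mp ho
  refine ⟨hx, (any_beq_iff _ _).mpr ?_⟩
  rwa [← H90.setOf'_injOn (parts_lt 3 x m hm) (by norm_num) e]

theorem trios_through_std :
    {T : Finset (Finset GolayPt) | T ∈ trios ∧ stdOctad ∈ T}.ncard = 15 := by
  have e : {T : Finset (Finset GolayPt) | T ∈ trios ∧ stdOctad ∈ T} =
      ↑(octTrios.toFinset.image (famOf 3)) := by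
    ext T
    simp only [Set.mem_ofPred_eq, Finset.coe_image, List.coe_toFinset, Set.mem_image]
    exact ⟨fun h => mem_octTrios h.1 h.2,
      fun ⟨x, hx, e⟩ => e ▸ ⟨(octTrios_spec hx).2.1, (octTrios_spec hx).2.2.1⟩⟩
  rw [e, Set.ncard_coe_finset, Finset.card_image_of_injOn, List.toFinset_card_of_nodup]
  · decide +kernel
  · rw [← octTrios_eq]; exact trioList_nodup.filter _
  · intro a ha b hb h
    simp only [List.coe_toFinset, Set.mem_ofPred_eq] at ha hb
    exact famOf_injOn (octTrios_spec ha).2.2.2 (octTrios_spec hb).2.2.2 h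

/-- A word gives one element moving every list of masks. -/
theorem walk_uniform {gens : List Gen} {A : Finset (Finset GolayPt)}
    (hg : ∀ e ∈ gens, ∃ g ∈ M24, Reps e.1 g ∧ g • A = A ∧ tabOK e.1 e.2 = true) :
    ∀ (fuel w : ℕ), ∃ g ∈ M24, g • A = A ∧ ∀ L : List ℕ, (∀ m ∈ L, m < 2 ^ 24) →
      g • famList L = famList (walk (gens.map Prod.snd) fuel w L) ∧
        ∀ m ∈ walk (gens.map Prod.snd) fuel w L, m < 2 ^ 24
  | 0, w => ⟨1, M24.one_mem, one_smul _ _, fun L hL => ⟨one_smul _ _, hL⟩⟩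
  | k + 1, w => by
    rcases hd : (gens.map Prod.snd).drop (Nat.sub (Nat.land w 7) 1) with _ | ⟨T, rest⟩
    · refine ⟨1, M24.one_mem, one_smul _ _, fun L hL => ?_⟩
      rw [walk, hd]
      exact ⟨one_smul _ _, hL⟩
    · cases hw : Nat.beq w 0
      · obtain ⟨e, he, hee⟩ := List.mem_map.mp
          (List.mem_of_mem_drop (hd ▸ List.mem_cons_self : T ∈ (gens.map Prod.snd).drop _))
        subst hee
        obtain ⟨g, hgM, hR, hA, htab⟩ := hg e he
        obtain ⟨h, hh, hhA, hall⟩ := walk_uniform hg k (Nat.shiftRight w 3)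
        refine ⟨h * g, M24.mul_mem hh hgM, by rw [mul_smul, hA, hhA], fun L hL => ?_⟩
        rw [walk, hd]
        simp only [hw, cond_false]
        rw [show L.map (tmask e.2) = L.map (pmask e.1) from
          List.map_congr_left fun m hm => tmask_eq htab (hL m hm)]
        have hL' : ∀ m ∈ L.map (pmask e.1), m < 2 ^ 24 := by
          intro m hm
          obtain ⟨m', -, rfl⟩ := List.mem_map.mp hm
          exact hR.pmask_lt m'
        rw [mul_smul, ← famList_smul hR]
        exact hall _ hL'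
      · refine ⟨1, M24.one_mem, one_smul _ _, fun L hL => ?_⟩
        rw [walk, hd]
        simp only [hw, cond_true]
        exact ⟨one_smul _ _, hL⟩

theorem twoTrioGens_ok : gensB 1 5279 twoTrioGens = true := by decide +kernel

theorem twoTrioWords_ok : ((List.range 15).all fun i => (List.range 15).all fun j =>
    Nat.beq i j ||
      (sameB (walk (twoTrioGens.map Prod.snd) 7 (twoTrioWords.getD (15 * i + j) 0)
          (parts 3 (octTrios.getD i 0))) (parts 3 (octTrios.getD 0 0)) &&
        sameB (walk (twoTrioGens.map Prod.snd) 7 (twoTrioWords.getD (15 * i + j) 0)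
          (parts 3 (octTrios.getD j 0))) (parts 3 (octTrios.getD 1 0)))) = true := by
  decide +kernel

theorem pair_to_first {T₁ T₂ : Finset (Finset GolayPt)} (h₁ : T₁ ∈ trios) (h₂ : T₂ ∈ trios)
    (o₁ : stdOctad ∈ T₁) (o₂ : stdOctad ∈ T₂) (hne : T₁ ≠ T₂) :
    ∃ g ∈ M24, g • stdOctad = stdOctad ∧ g • T₁ = famOf 3 (octTrios.getD 0 0) ∧
      g • T₂ = famOf 3 (octTrios.getD 1 0) := by
  obtain ⟨x, hx, rfl⟩ := mem_octTrios h₁ o₁
  obtain ⟨y, hy, rfl⟩ := mem_octTrios h₂ o₂
  obtain ⟨i, hi, rfl⟩ := List.getElem_of_mem hx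
  obtain ⟨j, hj, rfl⟩ := List.getElem_of_mem hy
  have hlen : octTrios.length = 15 := by decide +kernel
  have hij : i ≠ j := fun e => hne (by subst e; rfl)
  have hc := List.all_eq_true.mp
    (List.all_eq_true.mp twoTrioWords_ok i (List.mem_range.mpr (hlen ▸ hi))) j
    (List.mem_range.mpr (hlen ▸ hj))
  rw [show Nat.beq i j = false by
    rw [← Bool.not_eq_true]; exact fun h => hij (Nat.eq_of_beq_eq_true h), Bool.false_or, Bool.and_eq_true,
    List.getD_eq_getElem _ _ hi, List.getD_eq_getElem _ _ hj] at hc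
  obtain ⟨g, hg, hA, hall⟩ := walk_uniform (gensB_spec twoTrioGens_ok) 7
    (twoTrioWords.getD (15 * i + j) 0)
  refine ⟨g, hg, ?_, ?_, ?_⟩
  · rw [famOf_one (by norm_num), Finset.smul_finset_singleton] at hA
    exact Finset.singleton_injective hA
  · obtain ⟨e, hlt⟩ := hall _ (parts_lt 3 octTrios[i])
    rw [famOf, famOf, e, famList_eq_iff hlt (parts_lt _ _)]
    exact hc.1
  · obtain ⟨e, hlt⟩ := hall _ (parts_lt 3 octTrios[j])
    rw [famOf, famOf, e, famList_eq_iff hlt (parts_lt _ _)]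
    exact hc.2

/-- the elements of the five-point fixator fixing the standard octad pointwise -/
def octFixList : List ℕ := stab5.filter fun t => Nat.beq (pap t 7) 7 && Nat.beq (pap t 10) 10 &&
  Nat.beq (pap t 12) 12

theorem stdOctad_pts : ∀ i < 24, bitB 5279 i = true → i < 5 ∨ i = 7 ∨ i = 10 ∨ i = 12 := by
  decide +kernel

theorem octFix_check : ((octFixList.all fun t => octTrios.all fun x =>
      sameB ((parts 3 x).map (pmask t)) (parts 3 x)) &&
    (List.range 24).all fun y => bitB 5279 y || octFixList.any fun t => Nat.beq (pap t 5) y) = true := by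
  decide +kernel

theorem octFixList_spec {t : ℕ} (ht : t ∈ octFixList) :
    ∃ g ∈ M24, Reps t g ∧ (∀ p ∈ stdOctad, g p = p) ∧ g • stdOctad = stdOctad ∧
      ∀ T ∈ trios, stdOctad ∈ T → g • T = T := by
  obtain ⟨ht5, hpts⟩ := List.mem_filter.mp ht
  simp only [Bool.and_eq_true] at hpts
  have hv := List.all_eq_true.mp stab5_ok t ht5
  rw [Bool.and_eq_true] at hv
  obtain ⟨g, hg, hR⟩ := exists_perm_of_memB hv.1
  have hfix : ∀ p ∈ stdOctad, g p = p := by
    intro p hp
    apply idxN_injective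
    conv_lhs => rw [← ptN_idxN p, ← hR _ (idxN_lt p)]
    have hi := stdOctad_pts _ (idxN_lt p) (by rw [bitB_eq]; exact mem_setOf'_idxN.mp hp)
    rcases hi with hi | hi | hi | hi
    · exact Nat.eq_of_beq_eq_true (List.all_eq_true.mp hv.2 _ (List.mem_range.mpr hi))
    · rw [hi]; exact Nat.eq_of_beq_eq_true hpts.1.1
    · rw [hi]; exact Nat.eq_of_beq_eq_true hpts.1.2
    · rw [hi]; exact Nat.eq_of_beq_eq_true hpts.2
  refine ⟨g, hg, hR, hfix, ?_, ?_⟩
  · exact octad_fixed hg stdOctad_mem (le_refl _) (by rw [stdOctad_mem.2]; norm_num) hfix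
  · intro T hT ho
    obtain ⟨x, hx, rfl⟩ := mem_octTrios hT ho
    have h := octFix_check
    rw [Bool.and_eq_true] at h
    rw [famOf, ← famList_smul hR,
      famList_eq_iff (fun m hm => ?_) (parts_lt 3 x)]
    · exact List.all_eq_true.mp (List.all_eq_true.mp h.1 t ht) x hx
    · obtain ⟨m', -, rfl⟩ := List.mem_map.mp hm
      exact hR.pmask_lt m'

/-- the sides not containing the standard octad of the trios through it -/
def octSides : List ℕ := octTrios.flatMap fun x => (parts 3 x).filter fun a => !Nat.beq a 5279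

theorem octSides_sep : ∀ x < 24, bitB 5279 x = false → ∀ y < 24, bitB 5279 y = false →
    (octSides.all fun a => bitB a x == bitB a y) = true → x = y := by decide +kernel

theorem eq_one_of_fix_outside {g : Equiv.Perm GolayPt} (hg : g ∈ M24)
    (hfix : ∀ p, p ∉ stdOctad → g p = p) : g = 1 := by
  have hs : sepB 16771936 octadSep = true := by decide +kernel
  have hu : ∀ x < 24, bitB 5279 x = true → ∀ y < 24, bitB 5279 y = true →
      sigB octadSep x y = true → x = y := by decide +kernel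
  have hdisj : ∀ i < 24, bitB 16771936 i = true → bitB 5279 i = false := by decide +kernel
  have hgood : ∀ p ∈ H90.setOf' 16771936, g p = p := by
    intro p hp
    refine hfix p fun hh => ?_
    have h1 := hdisj _ (idxN_lt p) (by rw [bitB_eq]; exact mem_setOf'_idxN.mp hp)
    rw [bitB_eq, mem_setOf'_idxN.mp hh] at h1
    simp at h1
  ext1 p
  show g p = p
  by_cases hp : p ∈ stdOctad
  · have hgp : g p ∈ stdOctad := by
      by_contra hh
      have := g.injective (hfix _ hh)
      exact hh (this.symm ▸ hp)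
    exact idxN_injective (hu _ (idxN_lt p) (by rw [bitB_eq]; exact mem_setOf'_idxN.mp hp) _
      (idxN_lt _) (by rw [bitB_eq]; exact mem_setOf'_idxN.mp hgp) (sig_fixed hg hs hgood p)).symm
  · exact hfix p hp

theorem fix_pointwise_of_fix_trios {g : Equiv.Perm GolayPt} (hg : g ∈ M24)
    (hgo : g • stdOctad = stdOctad) (hT : ∀ T ∈ trios, stdOctad ∈ T → g • T = T) :
    ∀ p ∈ stdOctad, g p = p := by
  have hout : ∀ q, q ∉ stdOctad → g q ∉ stdOctad := fun q hq hh => hq (by
    rw [← hgo, ← Equiv.Perm.smul_def, Finset.smul_mem_smul_finset_iff] at hh; exact hh)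
  have h5 : ptN 5 ∉ stdOctad := by
    rw [stdOctad, mem_setOf'_ptN (by norm_num)]; decide +kernel
  have h := octFix_check
  rw [Bool.and_eq_true] at h
  have hy := List.all_eq_true.mp h.2 (idxN (g (ptN 5))) (List.mem_range.mpr (idxN_lt _))
  have hb : bitB 5279 (idxN (g (ptN 5))) = false := by
    rw [← Bool.not_eq_true, bitB_eq, ← mem_setOf'_idxN]; exact hout _ h5
  rw [hb, Bool.false_or, List.any_eq_true] at hy
  obtain ⟨t, ht, hte⟩ := hy
  obtain ⟨τ, hτ, hR, hτfix, hτo, hτT⟩ := octFixList_spec ht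
  obtain ⟨k, hkdef⟩ : ∃ k, k = τ⁻¹ * g := ⟨_, rfl⟩
  have hk5 : k (ptN 5) = ptN 5 := by
    rw [hkdef, Equiv.Perm.mul_apply, Equiv.Perm.inv_def, Equiv.symm_apply_eq]
    exact idxN_injective (by rw [← hR 5 (by norm_num), Nat.eq_of_beq_eq_true hte])
  have hko : k • stdOctad = stdOctad := by
    rw [hkdef, mul_smul, hgo, inv_smul_eq_iff, hτo]
  have hkT : ∀ T ∈ trios, stdOctad ∈ T → k • T = T := fun T hT1 hT2 => by
    rw [hkdef, mul_smul, hT T hT1 hT2, inv_smul_eq_iff, hτT T hT1 hT2]
  have hkM : k ∈ M24 := hkdef ▸ M24.mul_mem (M24.inv_mem hτ) hg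
  have hside : ∀ a ∈ octSides, k • H90.setOf' a = H90.setOf' a := by
    intro a ha
    obtain ⟨x, hx, hax⟩ := List.mem_flatMap.mp ha
    obtain ⟨hax, hne⟩ := List.mem_filter.mp hax
    obtain ⟨-, hxT, hxo, -⟩ := octTrios_spec hx
    have hk := hkT _ hxT hxo
    have haT : H90.setOf' a ∈ famOf 3 x := mem_famList.mpr ⟨a, hax, rfl⟩
    have hkaT : k • H90.setOf' a ∈ famOf 3 x := by
      have := Finset.smul_mem_smul_finset (a := k) haT
      rwa [hk] at this
    have haO : H90.setOf' a ≠ stdOctad := fun e => by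
      rw [H90.setOf'_injOn (parts_lt 3 x a hax) (by norm_num) e] at hne
      simp at hne
    have hkaO : k • H90.setOf' a ≠ stdOctad := fun e => haO (smul_left_cancel k (e.trans hko.symm))
    obtain ⟨u, v, huv, he⟩ := Finset.card_eq_two.mp
      (show ((famOf 3 x).erase stdOctad).card = 2 by rw [Finset.card_erase_of_mem hxo, hxT.1])
    have m1 : H90.setOf' a ∈ (famOf 3 x).erase stdOctad := Finset.mem_erase.mpr ⟨haO, haT⟩
    have m2 : k • H90.setOf' a ∈ (famOf 3 x).erase stdOctad := Finset.mem_erase.mpr ⟨hkaO, hkaT⟩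
    by_contra hne'
    have hsub : ({H90.setOf' a, k • H90.setOf' a} : Finset (Finset GolayPt)) =
        (famOf 3 x).erase stdOctad := Finset.eq_of_subset_of_card_le
      (Finset.insert_subset m1 (Finset.singleton_subset_iff.mpr m2))
      (by rw [he, Finset.card_pair huv, Finset.card_pair (Ne.symm hne')])
    have hd := hxT.2.2 _ haT _ hkaT (Ne.symm hne')
    obtain ⟨w, hw, hw5⟩ := trio_cover hxT (ptN 5)
    have hwO : w ≠ stdOctad := fun e => h5 (e ▸ hw5)
    have hw' : w ∈ (famOf 3 x).erase stdOctad := Finset.mem_erase.mpr ⟨hwO, hw⟩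
    rw [← hsub] at hw'
    simp only [Finset.mem_insert, Finset.mem_singleton] at hw'
    rcases hw' with rfl | rfl
    · have : k (ptN 5) ∈ k • H90.setOf' a := Finset.smul_mem_smul_finset hw5
      rw [hk5] at this
      exact Finset.disjoint_left.mp hd hw5 this
    · have h6 : ptN 5 ∈ H90.setOf' a := by
        have h6 := hw5
        rw [Finset.mem_smul_finset] at h6
        obtain ⟨q, hq, e⟩ := h6
        rw [Equiv.Perm.smul_def] at e
        rwa [k.injective (e.trans hk5.symm)] at hq
      exact Finset.disjoint_left.mp hd h6 hw5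
  have hk1 : k = 1 := by
    refine eq_one_of_fix_outside hkM fun q hq => idxN_injective (Eq.symm ?_)
    have hkq : k q ∉ stdOctad := fun hh => hq (by
      rw [← hko, ← Equiv.Perm.smul_def, Finset.smul_mem_smul_finset_iff] at hh; exact hh)
    refine octSides_sep _ (idxN_lt q) ?_ _ (idxN_lt _) ?_ ?_
    · rw [← Bool.not_eq_true, bitB_eq, ← mem_setOf'_idxN]; exact hq
    · rw [← Bool.not_eq_true, bitB_eq, ← mem_setOf'_idxN]; exact hkq
    · rw [List.all_eq_true]
      intro a ha
      rw [beq_iff_eq, Bool.eq_iff_iff, bitB_eq, bitB_eq, ← mem_setOf'_idxN, ← mem_setOf'_idxN]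
      conv_rhs => rw [← hside a ha, ← Equiv.Perm.smul_def, Finset.smul_mem_smul_finset_iff]
  rw [hkdef, inv_mul_eq_one] at hk1
  exact hk1 ▸ hτfix

theorem fix_trios_of_fix_pointwise {g : Equiv.Perm GolayPt} (hg : g ∈ M24)
    (hfix : ∀ p ∈ stdOctad, g p = p) : ∀ T ∈ trios, stdOctad ∈ T → g • T = T := by
  have hmem : ∀ i, i < 5 ∨ i = 7 ∨ i = 10 ∨ i = 12 → g (ptN i) = ptN i := by
    intro i hi
    refine hfix _ ?_
    rw [stdOctad, mem_setOf'_ptN (by omega), ← bitB_eq]
    exact (show ∀ i < 13, i < 5 ∨ i = 7 ∨ i = 10 ∨ i = 12 → bitB 5279 i = true by decide +kernel)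
      i (by omega) hi
  obtain ⟨t, ht, hR⟩ := stab5_complete hg fun i hi => hmem i (Or.inl hi)
  have htl : t ∈ octFixList := by
    refine List.mem_filter.mpr ⟨ht, ?_⟩
    rw [hR 7 (by norm_num), hR 10 (by norm_num), hR 12 (by norm_num), hmem 7 (by simp),
      hmem 10 (by simp), hmem 12 (by simp), idxN_ptN (by norm_num), idxN_ptN (by norm_num),
      idxN_ptN (by norm_num)]
    rfl
  obtain ⟨g', -, hR', -, -, hall⟩ := octFixList_spec htl
  rwa [hR'.unique hR] at hall

end H94
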