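import Mathlib

/-! Data for a subgroup `A₇` of `PSU₃(5)`. -/

set_option autoImplicit false

namespace H94.U35

/-- code matrices -/
abbrev C3u := Fin 3 → Fin 3 → Fin 25

/-- from rows -/
def ofRows (r0 r1 r2 : Fin 3 → Fin 25) : C3u := ![r0, r1, r2]

def genA : C3u := ofRows ![20, 17, 7] ![18, 22, 14] ![23, 11, 13]

def genB : C3u := ofRows ![24, 24, 11] ![22, 11, 1] ![0, 9, 10]

def outC : C3u := ofRows ![20, 1, 8] ![24, 4, 18] ![6, 6, 16]

def orbS : List (Fin 25 × Fin 25 × Fin 25) := [(0, 1, 5), (0, 1, 8), (0, 1, 11), (0, 1, 12), (0, 1, 15), (0, 1, 16), (0, 1, 18), (0, 1, 23), (1, 0, 0), (1, 0, 11), (1, 0, 19), (1, 1, 3), (1, 1, 12), (1, 1, 22), (1, 2, 1), (1, 2, 7), (1, 2, 9), (1, 2, 22), (1, 2, 24), (1, 3, 4), (1, 3, 6), (1, 3, 8), (1, 3, 21), (1, 3, 23), (1, 4, 2), (1, 4, 8), (1, 4, 18), (1, 5, 9), (1, 5, 10), (1, 5, 14), (1, 6, 2), (1, 6, 6), (1, 6, 16), (1, 6, 20), (1, 6, 22), (1, 7,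 3), (1, 7, 4), (1, 7, 6), (1, 7, 9), (1, 7, 11), (1, 7, 17), (1, 7, 18), (1, 7, 19), (1, 8, 2), (1, 8, 16), (1, 8, 17), (1, 9, 3), (1, 9, 15), (1, 9, 18), (1, 9, 21), (1, 9, 22), (1, 10, 6), (1, 10, 13), (1, 10, 20), (1, 11, 7), (1, 11, 9), (1, 11, 20), (1, 12, 7), (1, 12, 8), (1, 12, 15), (1, 13, 1), (1, 13, 6), (1, 13, 8), (1, 14, 0), (1, 14, 8), (1, 14, 22), (1, 15, 5), (1, 15, 17), (1, 15, 24), (1, 16, 0), (1, 16, 8), (1, 16, 22), (1, 17, 4), (1, 17, 22), (1, 17, 24), (1, 18, 10), (1, 18, 22), (1, 18, 23), (1, 19, 5), (1, 19, 21), (1, 19, 23), (1, 20, 15), (1, 20, 16), (1, 20, 21), (1, 21, 2), (1, 21, 8), (1, 21, 9), (1, 21, 10), (1, 21, 12), (1, 22, 3), (1, 22, 13), (1, 22, 14), (1, 23, 1), (1, 23, 2), (1, 23, 11), (1, 23, 12), (1, 23, 13), (1, 23, 19), (1, 23, 21), (1, 23, 24), (1, 24, 3), (1, 24, 5), (1, 24, 8), (1, 24, 14), (1, 24, 24)]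

def moveA : List (ℕ × Fin 25) := [(63, 4), (76, 15), (22, 18), (46, 20), (41, 23), (0, 18), (59, 14), (99, 21), (37, 20), (65, 21), (53, 24), (49, 3), (45, 15), (12, 14), (67, 6), (69, 20), (19, 9), (34, 1), (29, 10), (87, 14), (33, 5), (10, 19), (26, 11), (95, 20), (81, 17), (71, 6), (2, 10), (11, 11), (6, 19), (88, 23), (23, 7), (73, 12), (35, 6), (94, 11), (84, 20), (89, 1), (43, 8), (38, 4), (8, 15), (68, 11), (7, 20), (98, 7), (51, 14), (57, 11), (60, 10), (13, 17), (72, 5), (58, 20), (47, 11), (27, 14), (100, 16), (103, 6), (74, 2), (21, 5), (1, 23), (24, 14), (80, 22), (36, 17), (48, 24), (28, 2), (90, 15), (25, 2), (83, 11), (5, 17), (31, 3), (92, 2), (101, 10), (86, 18), (77, 14), (85, 15), (91, 18), (61, 17), (3, 2), (64, 9), (97, 18), (104, 18), (54, 21), (39, 3), (66, 23), (56, 6), (79, 15), (55, 15), (70, 22), (93, 9), (17, 10), (15, 4), (14, 6), (16, 20), (18, 9), (32, 9), (44,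 3), (82, 5), (9, 12), (62, 19), (20, 6), (30, 13), (50, 15), (52, 9), (4, 6), (40, 16), (96, 13), (78, 9), (75, 20), (42, 14), (102, 8)]

def moveB : List (ℕ × Fin 25) := [(39, 3), (37, 6), (41, 18), (35, 4), (42, 11), (38, 22), (36, 19), (40, 23), (63, 24), (95, 18), (4, 11), (73, 21), (62, 23), (8, 6), (60, 23), (17, 13), (101, 5), (0, 11), (29, 22), (68, 20), (74, 21), (99, 18), (18, 13), (104, 5), (27, 22), (69, 12), (66, 20), (22, 10), (6, 11), (31, 19), (47, 8), (75, 1), (80, 14), (13, 7), (85, 4), (15, 13), (65, 24), (67, 20), (26, 3), (88, 4), (32, 19), (1, 11), (43, 11), (72, 21), (52, 2), (16, 13), (77, 1), (19, 10), (94, 18), (7, 11), (45, 11), (5, 11), (76, 1), (9, 6), (102, 5), (51, 2), (2, 11), (86, 4), (23, 10), (56, 15), (49, 8), (70, 12), (91, 9), (83, 16), (25, 3), (90, 9), (71, 12), (59, 17), (98, 18), (53, 2), (78, 14), (55, 15), (20, 10), (79, 14), (10, 6), (24, 3), (50,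 8), (33, 19), (93, 18), (81, 16), (14, 13), (97, 18), (87, 4), (46, 8), (58, 17), (11, 7), (96, 18), (48, 8), (3, 11), (28, 22), (103, 5), (82, 16), (64, 24), (100, 5), (12, 7), (92, 18), (84, 4), (34, 19), (54, 15), (61, 23), (21, 10), (44, 11), (30, 19), (89, 9), (57, 17)]

def word_u5 : List (Fin 2) := [0, 0, 1, 1]

def word_u7 : List (Fin 2) := [1]

def word_r : List (Fin 2) := [0, 1]

def word_s : List (Fin 2) := [1, 0, 0, 1, 0, 1, 0, 0, 1, 0]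

def word_a : List (Fin 2) := [0]

def word_b : List (Fin 2) := [1, 1, 0, 1, 1, 0, 0, 1, 0, 1, 1, 1]

end H94.U35
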