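import Cfsg.Agent.H50.Center
import Cfsg.Agent.H50.DetCentralizer
import Cfsg.Agent.H51.Witt
import Cfsg.Agent.H94.U35Data

/-! A proper subgroup of `PSU₃(5)` of order divisible by `2520`, computed on codes. -/

set_option autoImplicit false

namespace H94.U35

open Matrix

/-- code `a + 5b` stands for `a + b·w`, `w² = 2` -/
def ad25 (x y : Fin 25) : Fin 25 :=
  ⟨(x.val % 5 + y.val % 5) % 5 + 5 * ((x.val / 5 + y.val / 5) % 5), by omega⟩

def mu25 (x y : Fin 25) : Fin 25 :=
  ⟨((x.val % 5) * (y.val % 5) + 2 * ((x.val / 5) * (y.val / 5))) % 5 +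
    5 * (((x.val % 5) * (y.val / 5) + (x.val / 5) * (y.val % 5)) % 5), by omega⟩

def cj25 (x : Fin 25) : Fin 25 := mu25 x (mu25 (mu25 x x) (mu25 x x))

def mm3 (A B : C3u) : C3u := fun i j =>
  ad25 (ad25 (mu25 (A i 0) (B 0 j)) (mu25 (A i 1) (B 1 j))) (mu25 (A i 2) (B 2 j))

def scal3 (c : Fin 25) : C3u := fun i j => if i = j then c else 0

def meq3 (A B : C3u) : Bool :=
  (List.finRange 3).all fun i => (List.finRange 3).all fun j => A i j == B i j

/-- rebuild a matrix from evaluated entries, for sharing -/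
def norm3 (A : C3u) : C3u :=
  let l := (List.finRange 3).flatMap fun i => (List.finRange 3).map fun j => A i j
  fun i j => l.getD (3 * i.val + j.val) 0

def isU3 (A : C3u) : Bool :=
  (List.finRange 3).all fun i => (List.finRange 3).all fun j =>
    ad25 (ad25 (mu25 (cj25 (A 0 i)) (A 0 j)) (mu25 (cj25 (A 1 i)) (A 1 j))) (mu25 (cj25 (A 2 i)) (A 2 j))
      == (if i = j then 1 else 0)

def det3' (A : C3u) : Fin 25 :=
  let m := fun x y z => mu25 (mu25 x y) z
  let n := fun x => mu25 4 x
  ad25 (ad25 (ad25 (m (A 0 0) (A 1 1) (A 2 2)) (n (m (A 0 0) (A 1 2) (A 2 1))))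
    (ad25 (n (m (A 0 1) (A 1 0) (A 2 2))) (m (A 0 1) (A 1 2) (A 2 0))))
    (ad25 (m (A 0 2) (A 1 0) (A 2 1)) (n (m (A 0 2) (A 1 1) (A 2 0))))

/-- value of a word -/
def evW : List (Fin 2) → C3u
  | [] => scal3 1
  | i :: w => mm3 (if i = 0 then genA else genB) (evW w)

def wpow (w : List (Fin 2)) : ℕ → List (Fin 2)
  | 0 => []
  | k + 1 => wpow w k ++ w

/-- scalars of determinant one -/
def cubeRoots : List (Fin 25) := (List.finRange 25).filter fun c => mu25 c (mu25 c c) == 1

def peq3 (A B : C3u) : Bool := cubeRoots.any fun c => meq3 A (mm3 (scal3 c) B)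

def nonScalar (A : C3u) : Bool := (List.finRange 25).all fun c => !meq3 A (scal3 c)

def vecOf (s : Fin 25 × Fin 25 × Fin 25) : Fin 3 → Fin 25 := ![s.1, s.2.1, s.2.2]

def mv3 (A : C3u) (v : Fin 3 → Fin 25) : Fin 3 → Fin 25 := fun i =>
  ad25 (ad25 (mu25 (A i 0) (v 0)) (mu25 (A i 1) (v 1))) (mu25 (A i 2) (v 2))

def veq (u v : Fin 3 → Fin 25) : Bool := u 0 == v 0 && u 1 == v 1 && u 2 == v 2

def svec (c : Fin 25) (v : Fin 3 → Fin 25) : Fin 3 → Fin 25 := fun i => mu25 c (v i)

def moveOK (A : C3u) (mv : List (ℕ × Fin 25)) : Bool :=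
  (List.range 105).all fun i =>
    Nat.blt (mv.getD i (0, 0)).1 105 &&
      veq (mv3 A (vecOf (orbS.getD i (0, 0, 0)))) (svec (mv.getD i (0, 0)).2 (vecOf (orbS.getD (mv.getD i (0, 0)).1 (0, 0, 0))))

theorem gens_ok : (isU3 genA && det3' genA == 1 && isU3 genB && det3' genB == 1 && isU3 outC &&
    det3' outC == 1) = true := by decide +kernel

theorem moves_ok : (moveOK genA moveA && moveOK genB moveB) = true := by decide +kernel

theorem orbS_length : orbS.length = 105 := by decide +kernel

theorem out_ok : ((List.range 105).all fun j => (List.finRange 25).all fun c =>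
    !veq (mv3 outC (vecOf (orbS.getD 0 (0, 0, 0)))) (svec c (vecOf (orbS.getD j (0, 0, 0))))) = true := by
  decide +kernel

/-- a multiplication table of a small group -/
def tableOK (n : ℕ) (wd : Fin n → List (Fin 2)) (mul : Fin n → Fin n → Fin n) (e : Fin n) : Bool :=
  let t := fun k => norm3 (evW (wd k))
  (((List.finRange n).all fun x => (List.finRange n).all fun y => peq3 (t (mul x y)) (mm3 (t x) (t y))) &&
    ((List.finRange n).all fun x => x == e || nonScalar (t x))) &&
    ((List.finRange n).all fun u => (List.finRange n).all fun x => (List.finRange n).all fun y =>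
      x == y || mul u x != mul u y)

def w5 (k : Fin 5) : List (Fin 2) := wpow word_u5 k.val
def w7 (k : Fin 7) : List (Fin 2) := wpow word_u7 k.val
def w9 (k : Fin 9) : List (Fin 2) := wpow word_a (k.val % 3) ++ wpow word_b (k.val / 3)
def w8 (k : Fin 8) : List (Fin 2) := wpow word_r (k.val % 4) ++ wpow word_s (k.val / 4)
def m9 (x y : Fin 9) : Fin 9 := ⟨(x.val % 3 + y.val % 3) % 3 + 3 * ((x.val / 3 + y.val / 3) % 3), by omega⟩
def m8 (x y : Fin 8) : Fin 8 :=
  ⟨((if x.val / 4 = 0 then y.val % 4 + x.val % 4 else x.val % 4 + 4 - y.val % 4)) % 4 +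
    4 * ((x.val / 4 + y.val / 4) % 2), by omega⟩

theorem table5 : tableOK 5 w5 (fun x y => x + y) 0 = true := by decide +kernel
theorem table7 : tableOK 7 w7 (fun x y => x + y) 0 = true := by decide +kernel
theorem table9 : tableOK 9 w9 m9 0 = true := by decide +kernel
theorem table8 : tableOK 8 w8 m8 0 = true := by decide +kernel

variable {F : Type*} [Field F] [Fintype F] (hF : Fintype.card F = 5 ^ 2)
include hF

theorem exists_proper : ∃ H : Subgroup (Cfsg.PSU 3 F 5), H ≠ ⊤ ∧ 2520 ∣ Nat.card H := by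
  classical
  obtain ⟨n, hp, hn⟩ := FiniteField.card F (ringChar F)
  have h5' : ringChar F = 5 := (Nat.prime_dvd_prime_iff_eq hp Nat.prime_five).mp
    (hp.dvd_of_dvd_pow (show ringChar F ∣ 5 ^ 2 by rw [← hF, hn]; exact dvd_pow_self _ n.ne_zero))
  haveI : CharP F 5 := h5' ▸ ringChar.charP F
  have h5 : (5 : F) = 0 := by exact_mod_cast CharP.cast_eq_zero F 5
  obtain ⟨w, hw⟩ : IsSquare (2 : F) := FiniteField.isSquare_two_iff.2 (by rw [hF]; norm_num)
  let φ : Fin 25 → F := fun x => ((x.val % 5 : ℕ) : F) + ((x.val / 5 : ℕ) : F) * w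
  have hmod : ∀ n : ℕ, ((n % 5 : ℕ) : F) = (n : F) := fun n => by
    conv_rhs => rw [← Nat.mod_add_div n 5]
    push_cast
    rw [h5]; ring
  have hval : ∀ a b : ℕ, a < 5 → b < 5 → ∀ h : a + 5 * b < 25,
      φ ⟨a + 5 * b, h⟩ = (a : F) + (b : F) * w := by
    intro a b ha hb h
    show (((a + 5 * b) % 5 : ℕ) : F) + (((a + 5 * b) / 5 : ℕ) : F) * w = _
    rw [show (a + 5 * b) % 5 = a by omega, show (a + 5 * b) / 5 = b by omega]
  have hadd : ∀ a b, φ (ad25 a b) = φ a + φ b := by
    intro a b
    rw [ad25, hval _ _ (Nat.mod_lt _ (by norm_num)) (Nat.mod_lt _ (by norm_num))]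
    simp only [φ, hmod, Nat.cast_add]
    ring
  have hmul : ∀ a b, φ (mu25 a b) = φ a * φ b := by
    intro a b
    rw [mu25, hval _ _ (Nat.mod_lt _ (by norm_num)) (Nat.mod_lt _ (by norm_num))]
    simp only [φ, hmod, Nat.cast_add, Nat.cast_mul, Nat.cast_ofNat]
    linear_combination (((a.val / 5 : ℕ) : F) * ((b.val / 5 : ℕ) : F)) * hw
  have h0 : φ 0 = 0 := by simp [φ]
  have h1 : φ 1 = 1 := by simp [φ]
  have h4 : φ 4 = -1 := by
    rw [show φ 4 = 4 by simp [φ]]
    linear_combination h5
  have hinj : Function.Injective φ := by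
    have hker : ∀ a, φ a = 0 → a = 0 := by
      intro a ha
      by_contra hne
      have hb : ∀ a : Fin 25, a ≠ 0 → ∃ b, mu25 a b = 1 := by decide +kernel
      obtain ⟨b, hb⟩ := hb a hne
      have := congrArg φ hb
      rw [hmul, ha, zero_mul, h1] at this
      exact zero_ne_one this
    intro a b e
    have hneg : ∀ a b : Fin 25, ad25 a (mu25 4 b) = 0 → a = b := by decide +kernel
    refine hneg a b (hker _ ?_)
    rw [hadd, hmul, e, h4]; ring
  have hsurj : Function.Surjective φ :=
    ((Fintype.bijective_iff_injective_and_card φ).mpr ⟨hinj, by simp [hF]⟩).2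
  choose ψ hψ using hsurj
  have hcj : ∀ a, φ (cj25 a) = φ a ^ 5 := fun a => by rw [cj25, hmul, hmul, hmul]; ring
  let up : C3u → Matrix (Fin 3) (Fin 3) F := fun A => Matrix.of fun i j => φ (A i j)
  have hupmm : ∀ A B, up (mm3 A B) = up A * up B := by
    intro A B; ext i j
    simp [up, mm3, hadd, hmul, Matrix.mul_apply, Fin.sum_univ_three]
  have hupscal : ∀ c, up (scal3 c) = φ c • (1 : Matrix (Fin 3) (Fin 3) F) := by
    intro c; ext i j
    rcases eq_or_ne i j with h | h
    · subst h; simp [up, scal3]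
    · simp [up, scal3, h, h0]
  have hmeq : ∀ A B, meq3 A B = true ↔ A = B := fun A B => by simp [meq3, funext_iff]
  have hnorm : ∀ A, norm3 A = A := by
    intro A; funext i j
    fin_cases i <;> fin_cases j <;> simp [norm3, List.finRange_succ]
  have hupdet : ∀ A, φ (det3' A) = (up A).det := by
    intro A
    simp only [Matrix.det_fin_three, det3', hadd, hmul, h4, up, Matrix.of_apply]
    ring
  have hiff : ∀ A : C3u, isU3 A = true ↔ H51.adj hF (up A) * up A = 1 := by
    intro A
    simp only [isU3, List.all_eq_true, List.mem_finRange, true_implies, beq_iff_eq, ← hinj.eq_iff,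
      hadd, hmul, hcj, apply_ite φ, h0, h1, ← Matrix.ext_iff, Matrix.mul_apply, Fin.sum_univ_three,
      H51.adj_apply, Matrix.one_apply, up, Matrix.of_apply, add_assoc]
  have hlift : ∀ A, isU3 A = true → det3' A = 1 → ∃ g : Cfsg.SU 3 F 5, H50.suMat g = up A := by
    intro A hA hd
    refine ⟨H50.mkSU (up A) (fun a b => ?_) (by rw [← hupdet, hd, h1]), rfl⟩
    rw [H50.h_mulVec_left hF, Matrix.mulVec_mulVec, (hiff A).1 hA, Matrix.one_mulVec]
  have hext : ∀ a b : ↥(Cfsg.SU 3 F 5), H50.suMat a = H50.suMat b → a = b :=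
    fun a b e => Subtype.ext (Subtype.ext e)
  have ho := gens_ok
  simp only [Bool.and_eq_true, beq_iff_eq] at ho
  obtain ⟨⟨⟨⟨⟨a1, a2⟩, b1⟩, b2⟩, c1⟩, c2⟩ := ho
  obtain ⟨ga, hga⟩ := hlift _ a1 a2
  obtain ⟨gb, hgb⟩ := hlift _ b1 b2
  obtain ⟨gc, hgc⟩ := hlift _ c1 c2
  let π := QuotientGroup.mk' (Subgroup.center ↥(Cfsg.SU 3 F 5))
  let Hs : Subgroup (Cfsg.SU 3 F 5) := Subgroup.closure {ga, gb}
  have hev : ∀ w, ∃ h ∈ Hs, H50.suMat h = up (evW w) := by
    intro w
    induction w with
    | nil => exact ⟨1, one_mem _, by rw [H50.suMat_one]; exact ((hupscal 1).trans (by rw [h1, one_smul])).symm⟩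
    | cons i w ih =>
      obtain ⟨h, hh, e⟩ := ih
      rw [evW, hupmm]
      split_ifs
      · exact ⟨ga * h, mul_mem (Subgroup.subset_closure (Set.mem_insert _ _)) hh, by rw [H50.suMat_mul, hga, e]⟩
      · exact ⟨gb * h, mul_mem (Subgroup.subset_closure (Set.mem_insert_of_mem _ rfl)) hh, by rw [H50.suMat_mul, hgb, e]⟩
  have hscalar : ∀ (z : Cfsg.SU 3 F 5) (c : Fin 25), H50.suMat z = φ c • 1 → z ∈ Subgroup.center _ :=
    fun z c h => (H50.mem_center_iff_scalar hF (by norm_num)).2 ⟨_, h⟩
  -- small subgroups from tables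
  have htab : ∀ (n : ℕ) [NeZero n] (wd : Fin n → List (Fin 2)) (mul : Fin n → Fin n → Fin n) (e : Fin n),
      tableOK n wd mul e = true → n ∣ Nat.card (Hs.map π) := by
    intro n _ wd mul e ht
    simp only [tableOK, Bool.and_eq_true, List.all_eq_true, List.mem_finRange, true_implies,
      Bool.or_eq_true, beq_iff_eq, bne_iff_ne, hnorm] at ht
    obtain ⟨⟨ht1, ht2⟩, ht3⟩ := ht
    choose h hh he using fun k => hev (wd k)
    let f : Fin n → Cfsg.PSU 3 F 5 := fun k => π (h k)
    have hf : ∀ x y, f (mul x y) = f x * f y := by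
      intro x y
      obtain ⟨c, -, hc⟩ := List.any_eq_true.1 (ht1 x y)
      rw [hmeq] at hc
      show π (h (mul x y)) = π (h x) * π (h y)
      rw [← map_mul, eq_comm]
      refine QuotientGroup.eq.2 (hscalar _ c ?_)
      rw [H50.suMat_mul, he, hc, hupmm, hupscal, smul_mul_assoc, one_mul, mul_smul_comm, hupmm, ← he, ← he,
        ← H50.suMat_mul, ← H50.suMat_mul, inv_mul_cancel, H50.suMat_one]
    have hne : ∀ x, x ≠ e → f x ≠ 1 := by
      intro x hx hc
      obtain ⟨l, hl⟩ := (H50.mem_center_iff_scalar hF (by norm_num)).1 ((QuotientGroup.eq_one_iff _).1 hc)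
      rcases ht2 x with h' | h'
      · exact hx h'
      simp only [nonScalar, List.all_eq_true, List.mem_finRange, true_implies, Bool.not_eq_true',
        ← Bool.not_eq_true, hmeq] at h'
      apply h' (ψ l)
      funext i j
      apply hinj
      have := congrFun (congrFun ((he x).symm.trans hl) i) j
      simp only [up, Matrix.of_apply] at this
      rw [this]
      rcases eq_or_ne i j with hij | hij
      · subst hij; simp [scal3, hψ]
      · simp [scal3, hij, h0]
    let K : Subgroup (Hs.map π) :=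
      Subgroup.closure (Set.range fun k => (⟨f k, Subgroup.mem_map_of_mem π (hh k)⟩ : Hs.map π))
    let T : Set (Hs.map π) := Set.range fun k => (⟨f k, Subgroup.mem_map_of_mem π (hh k)⟩ : Hs.map π)
    have hTmul : ∀ a ∈ T, ∀ b ∈ T, a * b ∈ T := by
      rintro _ ⟨x, rfl⟩ _ ⟨y, rfl⟩
      exact ⟨mul x y, Subtype.ext (hf x y)⟩
    have hfe : f e = 1 := by
      have hnz : ∀ x, f (mul e x) = f e * f x := hf e
      by_contra hc
      have hmem : (⟨f e, Subgroup.mem_map_of_mem π (hh e)⟩ : Hs.map π) ∈ T := ⟨e, rfl⟩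
      have hpow : ∀ k : ℕ, (⟨f e, Subgroup.mem_map_of_mem π (hh e)⟩ : Hs.map π) ^ (k + 1) ∈ T := by
        intro k
        induction k with
        | zero => simpa using hmem
        | succ k ih => rw [pow_succ]; exact hTmul _ ih _ hmem
      obtain ⟨x, hx⟩ := hpow (orderOf (⟨f e, Subgroup.mem_map_of_mem π (hh e)⟩ : Hs.map π) - 1)
      rw [Nat.sub_add_cancel (orderOf_pos _), pow_orderOf_eq_one] at hx
      have hx' : f x = 1 := congrArg Subtype.val hx
      rcases eq_or_ne x e with h' | h'
      · exact hc (h' ▸ hx')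
      · exact hne x h' hx'
    have hKT : (K : Set (Hs.map π)) = T := by
      refine Set.Subset.antisymm (fun a ha => ?_) Subgroup.subset_closure
      have ha' : a ∈ (Subgroup.closure T).toSubmonoid := ha
      rw [Subgroup.closure_toSubmonoid_of_finite] at ha'
      clear ha
      induction ha' using Submonoid.closure_induction with
      | mem x hx => exact hx
      | one => exact ⟨e, Subtype.ext hfe⟩
      | mul x y _ _ hx hy => exact hTmul x hx y hy
    have hfinj : Function.Injective fun k => (⟨f k, Subgroup.mem_map_of_mem π (hh k)⟩ : Hs.map π) := by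
      intro x y hxy
      have hxy' : f x = f y := congrArg Subtype.val hxy
      have hmem : (⟨f x, Subgroup.mem_map_of_mem π (hh x)⟩ : Hs.map π) ∈ K := Subgroup.subset_closure ⟨x, rfl⟩
      obtain ⟨u, hu⟩ : (⟨f x, Subgroup.mem_map_of_mem π (hh x)⟩ : Hs.map π)⁻¹ ∈ T := hKT ▸ K.inv_mem hmem
      have hu' : f u = (f x)⁻¹ := congrArg Subtype.val hu
      by_contra hd
      have e1 : mul u x = e := by
        by_contra h'; exact hne _ h' (by rw [hf, hu', inv_mul_cancel])
      have e2 : mul u y = e := by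
        by_contra h'; exact hne _ h' (by rw [hf, hu', hxy', inv_mul_cancel])
      exact (ht3 u x y).elim hd (fun h' => h' (e1.trans e2.symm))
    have hcard : Nat.card K = n := by
      rw [show Nat.card K = Nat.card (K : Set (Hs.map π)) from rfl, hKT, Nat.card_range_of_injective hfinj,
        Nat.card_eq_fintype_card, Fintype.card_fin]
    exact hcard ▸ Subgroup.card_subgroup_dvd_card K
  refine ⟨Hs.map π, ?_, ?_⟩
  · intro htop
    obtain ⟨h, hh, he⟩ : π gc ∈ Hs.map π := htop ▸ Subgroup.mem_top _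
    let good : Matrix (Fin 3) (Fin 3) F → Prop := fun M => ∀ i < 105, ∃ j < 105, ∃ c : F,
      M *ᵥ (fun k => φ (vecOf (orbS.getD i (0, 0, 0)) k)) = c • fun k => φ (vecOf (orbS.getD j (0, 0, 0)) k)
    have hveq : ∀ u v, veq u v = true ↔ u = v := fun u v => by
      simp [veq, funext_iff, Fin.forall_fin_succ, and_assoc]
    have hmv : ∀ A v, (fun k => φ (mv3 A v k)) = up A *ᵥ fun k => φ (v k) := by
      intro A v; funext k
      simp [up, mv3, Matrix.mulVec, dotProduct, Fin.sum_univ_three, hadd, hmul]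
    have hgen : ∀ A mv, moveOK A mv = true → good (up A) := by
      intro A mv hA i hi
      simp only [moveOK, List.all_eq_true, List.mem_range, Bool.and_eq_true, Nat.blt_eq, hveq] at hA
      obtain ⟨hj, hv⟩ := hA i hi
      refine ⟨_, hj, φ (mv.getD i (0, 0)).2, ?_⟩
      rw [← hmv, hv]
      funext k
      simp [svec, hmul]
    obtain ⟨hma, hmb⟩ := Bool.and_eq_true_iff.1 moves_ok
    have hgoodmul : ∀ M N, good M → good N → good (M * N) := by
      intro M N hM hN i hi
      obtain ⟨j, hj, c, hc⟩ := hN i hi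
      obtain ⟨k, hk, d, hd⟩ := hM j hj
      exact ⟨k, hk, c * d, by rw [← mulVec_mulVec, hc, mulVec_smul, hd, smul_smul]⟩
    have hgood : good (H50.suMat h) := by
      have hh' : h ∈ (Subgroup.closure ({ga, gb} : Set (Cfsg.SU 3 F 5))).toSubmonoid := hh
      rw [Subgroup.closure_toSubmonoid_of_finite] at hh'
      clear he hh
      induction hh' using Submonoid.closure_induction with
      | mem x hx =>
        rcases hx with rfl | rfl
        · rw [hga]; exact hgen _ _ hma
        · rw [hgb]; exact hgen _ _ hmb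
      | one => intro i hi; exact ⟨i, hi, 1, by rw [H50.suMat_one, one_mulVec, one_smul]⟩
      | mul x y _ _ hx hy => rw [H50.suMat_mul]; exact hgoodmul _ _ hx hy
    obtain ⟨l, hl⟩ := (H50.mem_center_iff_scalar hF (by norm_num)).1 (QuotientGroup.eq.1 he)
    have hgc' : H50.suMat gc = l • H50.suMat h := by
      rw [← mul_inv_cancel_left h gc, H50.suMat_mul, hl, mul_smul_comm, mul_one]
    obtain ⟨j, hj, c, hc⟩ := hgood 0 (by norm_num)
    have hout := out_ok
    simp only [List.all_eq_true, List.mem_range, List.mem_finRange, true_implies, Bool.not_eq_true',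
      ← Bool.not_eq_true, hveq] at hout
    apply hout j hj (ψ (l * c))
    funext k
    apply hinj
    have := congrFun (hmv outC (vecOf (orbS.getD 0 (0, 0, 0)))) k
    rw [this, ← hgc, hgc', smul_mulVec, hc, smul_smul]
    simp [svec, hmul, hψ]
  · have h5d := htab 5 w5 _ 0 table5
    have h7d := htab 7 w7 _ 0 table7
    have h8d := htab 8 w8 _ 0 table8
    have h9d := htab 9 w9 _ 0 table9
    generalize Nat.card (Hs.map π) = m at h5d h7d h8d h9d
    have := Nat.Coprime.mul_dvd_of_dvd_of_dvd (by norm_num : Nat.Coprime (8 * 9 * 5) 7)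
      (Nat.Coprime.mul_dvd_of_dvd_of_dvd (by norm_num : Nat.Coprime (8 * 9) 5)
        (Nat.Coprime.mul_dvd_of_dvd_of_dvd (by norm_num : Nat.Coprime 8 9) h8d h9d) h5d) h7d
    simpa using this

end H94.U35
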