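import Cfsg.Agent.H50.Simple
import Cfsg.Agent.H50.SU3Borel
import Cfsg.Agent.H50.Count

/-! Every proper subgroup of `SU₃(5)` containing the centre has index at least `50`. -/

set_option autoImplicit false

namespace H94.U35

open Matrix Cfsg H50

variable {F : Type*} [Field F] [Fintype F] (hF : Fintype.card F = 5 ^ 2)
include hF

theorem charP_five : CharP F 5 := by
  obtain ⟨n, hp, hn⟩ := FiniteField.card F (ringChar F)
  have h5 : ringChar F = 5 := (Nat.prime_dvd_prime_iff_eq hp Nat.prime_five).mp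
    (hp.dvd_of_dvd_pow (show ringChar F ∣ 5 ^ 2 by rw [← hF, hn]; exact dvd_pow_self _ n.ne_zero))
  exact h5 ▸ ringChar.charP F

theorem card_SU35 : Nat.card (SU 3 F 5) = 378000 := by
  have h := H50.card_SU_mul hF (n := 3) (by norm_num)
  rw [H50.card_GU hF] at h
  norm_num [Finset.prod_range_succ, -Nat.card_eq_fintype_card, Nat.even_add_one] at h
  omega

theorem card_isoPt : Nat.card (IsoPt 3 5 F) = 126 := by
  classical
  have hnc : normCount 3 5 F 0 = 3025 := by
    have h := H50.q_mul_norm_zero_count (F := F) (n := 3) hF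
    norm_num at h
    omega
  have e : IsoPt 3 5 F × Fˣ ≃ {v : {v : Fin 3 → F // hermForm 3 F 5 v v = 0} // v.1 ≠ 0} := by
    have hc := fun p : IsoPt 3 5 F => p.exists_mk
    choose vec h0 h1 hmk using hc
    refine Equiv.ofBijective (fun x => ⟨⟨(x.2 : F) • vec x.1, by
      rw [h_smul_left, h_smul_right hF, h1, mul_zero, mul_zero]⟩, smul_ne_zero x.2.ne_zero (h0 x.1)⟩)
      ⟨?_, ?_⟩
    · rintro ⟨p, a⟩ ⟨p', b⟩ h
      have h' : (a : F) • vec p = (b : F) • vec p' := congrArg (fun v => v.1.1) h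
      have hp : p = p' := by
        rw [hmk p, hmk p', IsoPt.mk_eq_mk]
        exact ⟨(a : F)⁻¹ * b, by rw [← smul_smul, ← h', smul_smul, inv_mul_cancel₀ a.ne_zero, one_smul]⟩
      subst hp
      exact Prod.ext rfl (Units.ext (smul_left_injective F (h0 p) h'))
    · rintro ⟨⟨v, hv⟩, hv0⟩
      obtain ⟨a, ha⟩ := IsoPt.mk_eq_mk.1 ((hmk (IsoPt.mk v hv0 hv)))
      refine ⟨(IsoPt.mk v hv0 hv, Units.mk0 a fun h => hv0 (show v = 0 by rw [← ha, h, zero_smul])), ?_⟩
      exact Subtype.ext (Subtype.ext ha)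
  have h := Nat.card_congr e
  rw [Nat.card_prod, Nat.card_units, Nat.card_eq_fintype_card (α := F), hF] at h
  have h2 : Nat.card {v : {v : Fin 3 → F // hermForm 3 F 5 v v = 0} // v.1 ≠ 0} + 1 = normCount 3 5 F 0 := by
    rw [normCount]
    let o : {v : Fin 3 → F // hermForm 3 F 5 v v = 0} := ⟨0, by simp [hermForm]⟩
    haveI := Fintype.ofFinite {v : Fin 3 → F // hermForm 3 F 5 v v = 0}
    have hs : ({o}ᶜ : Set _) = {v : {v : Fin 3 → F // hermForm 3 F 5 v v = 0} | v.1 ≠ 0} := by
      ext v; simp [o, Subtype.ext_iff]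
    have h := Set.ncard_add_ncard_compl ({o} : Set _)
    rw [Set.ncard_singleton, hs, ← Nat.card_coe_set_eq, Set.coe_setOf] at h
    rw [add_comm]; exact h
  rw [hnc] at h2
  rw [show (5 ^ 2 - 1 : ℕ) = 24 by norm_num] at h
  omega

theorem card_stab35 (p : IsoPt 3 5 F) : Nat.card (MulAction.stabilizer (SU 3 F 5) p) = 3000 := by
  haveI := H50.isoPt_pretransitive hF (n := 3) le_rfl
  have h := (MulAction.stabilizer (SU 3 F 5) p).card_mul_index
  rw [MulAction.index_stabilizer_of_transitive (SU 3 F 5) p, card_isoPt hF, card_SU35 hF] at h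
  omega

theorem mem_stab_iff {v : Fin 3 → F} {hv : v ≠ 0} {hvv : hermForm 3 F 5 v v = 0} {g : SU 3 F 5} :
    g ∈ MulAction.stabilizer (SU 3 F 5) (IsoPt.mk v hv hvv) ↔ ∃ a : F, suMat g *ᵥ v = a • v := by
  rw [MulAction.mem_stabilizer_iff, smul_isoPt_eq]
  exact ⟨fun ⟨a, ha⟩ => ⟨a, ha.symm⟩, fun ⟨a, ha⟩ => ⟨a, ha.symm⟩⟩

/-- The eigenvalue character of a point stabiliser. -/
theorem exists_eig (v : Fin 3 → F) (hv : v ≠ 0) (hvv : hermForm 3 F 5 v v = 0) :
    ∃ χ : MulAction.stabilizer (SU 3 F 5) (IsoPt.mk v hv hvv) →* Fˣ,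
      ∀ g, suMat g.1 *ᵥ v = ((χ g : Fˣ) : F) • v := by
  have hc := fun g : MulAction.stabilizer (SU 3 F 5) (IsoPt.mk v hv hvv) => (mem_stab_iff hF).1 g.2
  choose a ha using hc
  have hne : ∀ g, a g ≠ 0 := fun g h => hv (suMat_injective g.1 (by simpa [h] using ha g))
  refine ⟨{ toFun := fun g => Units.mk0 (a g) (hne g), map_one' := ?_, map_mul' := ?_ }, ha⟩
  · ext
    have h : (1 : F) • v = a 1 • v := by rw [← ha 1]; simp [suMat_one]
    exact (smul_left_injective F hv h).symm
  · intro g g'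
    ext
    have h : a (g * g') • v = (a g * a g') • v := by
      rw [← ha (g * g')]
      show suMat (g.1 * g'.1) *ᵥ v = _
      rw [suMat_mulVec_mul, ha g', mulVec_smul, ha g, smul_smul, mul_comm]
    exact smul_left_injective F hv h

theorem pow_five {g : SU 3 F 5} {v : Fin 3 → F} (hv : v ≠ 0) (hvv : hermForm 3 F 5 v v = 0)
    (hgv : suMat g *ᵥ v = v) : g ^ 5 = 1 := by
  haveI := charP_five hF
  haveI : Fact (Nat.Prime 5) := ⟨Nat.prime_five⟩
  exact H50.Borel3.pow_char_eq_one hF 5 (by norm_num) hv hvv hgv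

/-- An element of the unipotent radical fixing `z` is a transvection. -/
theorem mem_root_of_fix {v f z : Fin 3 → F} (hvv : hermForm 3 F 5 v v = 0) (hf : IsHyp 5 v f)
    (hzv : hermForm 3 F 5 z v = 0) (hzf : hermForm 3 F 5 z f = 0)
    (hdec : ∀ x : Fin 3 → F, x = hermForm 3 F 5 x f • v + hermForm 3 F 5 x z • z + hermForm 3 F 5 x v • f)
    {g : SU 3 F 5} (hgv : suMat g *ᵥ v = v) (hgz : suMat g *ᵥ z = z) :
    g ∈ rootGroup hF v hvv := by
  rw [mem_rootGroup]
  have e1 : hermForm 3 F 5 (suMat g *ᵥ f) v = 1 := by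
    conv_lhs => rw [← hgv]
    rw [suMat_h, (hf.symm hF).2.2]
  have e2 : hermForm 3 F 5 (suMat g *ᵥ f) z = 0 := by
    conv_lhs => rw [← hgz]
    rw [suMat_h, (h_eq_zero_comm hF).1 hzf]
  set a := hermForm 3 F 5 (suMat g *ᵥ f) f with ha
  have hgf : suMat g *ᵥ f = a • v + f := by
    have := hdec (suMat g *ᵥ f)
    rwa [e1, e2, zero_smul, add_zero, one_smul] at this
  refine ⟨a, ?_, fun x => ?_⟩
  · have h := suMat_h g f f
    rw [hgf, hf.2.1] at h
    rw [h_add_left, h_smul_left, h_add_right hF, h_add_right hF, h_smul_right hF, h_smul_right hF, hvv,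
      hf.2.2, (hf.symm hF).2.2, hf.2.1] at h
    linear_combination h
  · conv_lhs => rw [hdec x]
    rw [mulVec_add, mulVec_add, mulVec_smul, mulVec_smul, mulVec_smul, hgv, hgz, hgf]
    conv_rhs => arg 1; rw [hdec x]
    module

/-- Coordinates of `g z` for unipotent `g`. -/
theorem apply_z {v f z : Fin 3 → F} (hv : v ≠ 0) (hvv : hermForm 3 F 5 v v = 0)
    (hzz : hermForm 3 F 5 z z = 1) (hzv : hermForm 3 F 5 z v = 0)
    (hdec : ∀ x : Fin 3 → F, x = hermForm 3 F 5 x f • v + hermForm 3 F 5 x z • z + hermForm 3 F 5 x v • f)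
    {g : SU 3 F 5} (hgv : suMat g *ᵥ v = v) :
    suMat g *ᵥ z = hermForm 3 F 5 (suMat g *ᵥ z) f • v + z := by
  haveI := charP_five hF
  haveI : Fact (Nat.Prime 5) := ⟨Nat.prime_five⟩
  have e1 : hermForm 3 F 5 (suMat g *ᵥ z) v = 0 := by
    conv_lhs => rw [← hgv]
    rw [suMat_h, hzv]
  set b := hermForm 3 F 5 (suMat g *ᵥ z) z
  set a := hermForm 3 F 5 (suMat g *ᵥ z) f
  have hgz : suMat g *ᵥ z = a • v + b • z := by
    have := hdec (suMat g *ᵥ z)
    rwa [e1, zero_smul, add_zero] at this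
  have hk : ∀ k : ℕ, ∃ c : F, suMat (g ^ k) *ᵥ z = c • v + b ^ k • z := by
    intro k
    induction k with
    | zero => exact ⟨0, by simp [suMat_one]⟩
    | succ k ih =>
      obtain ⟨c, hc⟩ := ih
      refine ⟨c + b ^ k * a, ?_⟩
      rw [pow_succ', suMat_mulVec_mul, hc, mulVec_add, mulVec_smul, mulVec_smul, hgv, hgz]
      module
  obtain ⟨c, hc⟩ := hk 5
  rw [pow_five hF hv hvv hgv, suMat_one, one_mulVec] at hc
  have hb5 : b ^ 5 = 1 := by
    have := congrArg (fun x => hermForm 3 F 5 x z) hc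
    simp only [h_add_left, h_smul_left, (h_eq_zero_comm hF).1 hzv, hzz, mul_zero, zero_add, mul_one] at this
    exact this.symm
  have hb : b = 1 := by
    have h2 : (b - 1) ^ 5 = 0 := by rw [sub_pow_char, hb5, one_pow, sub_self]
    exact sub_eq_zero.1 (eq_zero_of_pow_eq_zero h2)
  rw [hgz, hb, one_smul]

theorem rootGroup_le {v : Fin 3 → F} {hvv : hermForm 3 F 5 v v = 0} {g : SU 3 F 5}
    (hg : g ∈ rootGroup hF v hvv) (hg1 : g ≠ 1) : rootGroup hF v hvv ≤ Subgroup.zpowers g := by
  have hle : Subgroup.zpowers g ≤ rootGroup hF v hvv := Subgroup.zpowers_le.2 hg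
  have hcard : Nat.card (rootGroup hF v hvv) ∣ 5 := by
    have h := Subgroup.card_range_dvd (rootHom hF v hvv)
    rwa [show Nat.card (Multiplicative (traceHom hF).ker) = 5 from card_trace_ker hF] at h
  refine le_of_eq (Subgroup.eq_of_le_of_card_ge hle ?_).symm
  rcases (Nat.dvd_prime Nat.prime_five).1 hcard with h | h
  · rw [h]; exact Nat.card_pos
  · rw [h, Nat.card_zpowers]
    have h1 := Subgroup.card_dvd_of_le hle
    rw [h, Nat.card_zpowers] at h1
    rcases (Nat.dvd_prime Nat.prime_five).1 h1 with h' | h'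
    · exact absurd (orderOf_eq_one_iff.1 h') hg1
    · omega

/-- A subgroup of order `25` fixing `v` contains the root group at `v`. -/
theorem root_le_of_25 {v : Fin 3 → F} (hv : v ≠ 0) (hvv : hermForm 3 F 5 v v = 0)
    (Q : Subgroup (SU 3 F 5)) (hQ : Nat.card Q = 25) (hfix : ∀ g ∈ Q, suMat g *ᵥ v = v) :
    rootGroup hF v hvv ≤ Q := by
  classical
  haveI : Fact (Nat.Prime 5) := ⟨Nat.prime_five⟩
  obtain ⟨f, z, hf, hzz, hzv, hzf, hdec⟩ := H50.Borel3.exists_frame_at hF hv hvv
  by_cases hne : ∃ g ∈ Q, g ≠ 1 ∧ g ∈ rootGroup hF v hvv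
  · obtain ⟨g, hgQ, hg1, hgR⟩ := hne
    exact (rootGroup_le hF hgR hg1).trans (Subgroup.zpowers_le.2 hgQ)
  exfalso
  push Not at hne
  let a : Q → F := fun g => hermForm 3 F 5 (suMat g.1 *ᵥ z) f
  have haz : ∀ g : Q, suMat g.1 *ᵥ z = a g • v + z := fun g => apply_z hF hv hvv hzz hzv hdec (hfix _ g.2)
  have hinj : Function.Injective a := by
    intro g g' h
    by_contra hd
    refine hne ((g⁻¹ * g' : Q) : SU 3 F 5) (g⁻¹ * g').2 (fun e => hd ?_) ?_
    · exact inv_mul_eq_one.1 (Subtype.ext e)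
    refine mem_root_of_fix hF hvv hf hzv hzf hdec (hfix _ (g⁻¹ * g').2) ?_
    show suMat (g.1⁻¹ * g'.1) *ᵥ z = z
    rw [suMat_mulVec_mul, haz g', ← h, ← haz g, suMat_inv_mulVec]
  have hbij : Function.Bijective a := by
    haveI := Fintype.ofFinite Q
    refine (Fintype.bijective_iff_injective_and_card a).2 ⟨hinj, ?_⟩
    rw [← Nat.card_eq_fintype_card, hQ, hF]; rfl
  obtain ⟨g, hg⟩ := hbij.2 1
  obtain ⟨t, ht⟩ : ∃ t : F, t ^ 5 ≠ t := by
    by_contra h
    push Not at h
    have h1 : Fintype.card F ≤ (Polynomial.X ^ 5 - Polynomial.X : Polynomial F).natDegree := by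
      have hP : (Polynomial.X ^ 5 - Polynomial.X : Polynomial F) ≠ 0 :=
        FiniteField.X_pow_card_sub_X_ne_zero F (by norm_num)
      calc Fintype.card F = (Finset.univ : Finset F).card := rfl
        _ ≤ _ := Polynomial.card_le_degree_of_subset_roots (by
            intro x _
            rw [Polynomial.mem_roots hP]
            simp [h x])
    rw [FiniteField.X_pow_card_sub_X_natDegree_eq F (by norm_num), hF] at h1
    norm_num at h1
  obtain ⟨g', hg'⟩ := hbij.2 t
  have hcomm : g.1 * g'.1 = g'.1 * g.1 := by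
    haveI : IsMulCommutative Q := IsPGroup.isMulCommutative_of_card_eq_prime_sq (p := 5) (by rw [hQ]; rfl)
    exact congrArg Subtype.val (mul_comm' g g')
  have key : ∀ g : Q, hermForm 3 F 5 (suMat g.1 *ᵥ f) z = -(a g) ^ 5 := by
    intro g
    have h := suMat_h g.1 z f
    set b := hermForm 3 F 5 (suMat g.1 *ᵥ f) z
    have e1 : hermForm 3 F 5 (suMat g.1 *ᵥ f) v = 1 := by
      conv_lhs => rw [← hfix _ g.2]
      rw [suMat_h, (hf.symm hF).2.2]
    have hgf := hdec (suMat g.1 *ᵥ f)
    rw [e1, one_smul] at hgf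
    rw [haz g, hgf] at h
    simp only [h_add_left, h_smul_left, h_add_right hF, h_smul_right hF, hvv, hf.2.2, hzv, hzz, hzf,
      (h_eq_zero_comm hF).1 hzv, mul_zero, zero_add, add_zero, mul_one] at h
    have hb : b ^ 5 = -(a g) := by linear_combination h
    have hbb : b = (b ^ 5) ^ 5 := by rw [pow_q_pow_q hF]
    rw [hbb, hb, Odd.neg_pow (show Odd 5 by decide)]
  have h2 := congrArg (fun k => hermForm 3 F 5 (suMat k *ᵥ f) f) hcomm
  have hgf : ∀ g : Q, suMat g.1 *ᵥ f =
      hermForm 3 F 5 (suMat g.1 *ᵥ f) f • v + (-(a g) ^ 5) • z + f := by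
    intro g
    have e1 : hermForm 3 F 5 (suMat g.1 *ᵥ f) v = 1 := by
      conv_lhs => rw [← hfix _ g.2]
      rw [suMat_h, (hf.symm hF).2.2]
    have := hdec (suMat g.1 *ᵥ f)
    rwa [e1, one_smul, key g] at this
  simp only [suMat_mulVec_mul] at h2
  rw [hgf g', hgf g, mulVec_add, mulVec_add, mulVec_smul, mulVec_smul, mulVec_add, mulVec_add,
    mulVec_smul, mulVec_smul, hfix _ g.2, hfix _ g'.2, haz g, haz g', hgf g, hgf g'] at h2
  simp only [h_add_left, h_smul_left, hf.2.2, hzf, hf.2.1, mul_zero, add_zero, mul_one] at h2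
  rw [hg, hg'] at h2
  apply ht
  linear_combination -h2

/-- A transitive subgroup containing a root group is everything. -/
theorem eq_top_of_root (H : Subgroup (SU 3 F 5))
    (htr : ∀ p q : IsoPt 3 5 F, ∃ h ∈ H, h • p = q)
    {v : Fin 3 → F} (hv : v ≠ 0) {hvv : hermForm 3 F 5 v v = 0} (hR : rootGroup hF v hvv ≤ H) :
    H = ⊤ := by
  refine H50.rootGroup_iSup hF le_rfl (by norm_num) fun w hw hww => ?_
  obtain ⟨h, hh, he⟩ := htr (IsoPt.mk v hv hvv) (IsoPt.mk w hw hww)
  obtain ⟨c, hc⟩ := smul_isoPt_eq.1 he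
  have hc0 : c ≠ 0 := fun h0 => hv (suMat_injective h (by simp [← hc, h0]))
  have hcw : hermForm 3 F 5 (c • w) (c • w) = 0 := by
    rw [h_smul_left, h_smul_right hF, hww, mul_zero, mul_zero]
  rw [← H50.rootGroup_smul hF hc0 (hav := hcw)]
  have hgv : hermForm 3 F 5 (suMat h *ᵥ v) (suMat h *ᵥ v) = 0 := by rw [suMat_h, hvv]
  intro k hk
  have hk' : k ∈ rootGroup hF (suMat h *ᵥ v) hgv := by
    convert hk using 2
    exact hc.symm
  rw [H50.rootGroup_conj hF h (hvv := hvv)] at hk'
  obtain ⟨r, hr, rfl⟩ := hk'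
  exact H.mul_mem (H.mul_mem hh (hR hr)) (H.inv_mem hh)

/-- The orbit of the unique fixed point of a group of order `25` or `5`. -/
theorem orbit_data (H : Subgroup (SU 3 F 5)) (Q : Subgroup (SU 3 F 5)) (hQH : Q ≤ H) {k : ℕ}
    (hk : 1 ≤ k) (hQ : Nat.card Q = 5 ^ k) :
    ∃ p : IsoPt 3 5 F, (∀ g ∈ Q, g • p = p) ∧
      Nat.card (MulAction.orbit H p) % 5 ^ k = 1 ∧
      Nat.card (MulAction.orbit H p) * Nat.card (H ⊓ MulAction.stabilizer (SU 3 F 5) p : Subgroup _) =
        Nat.card H := by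
  classical
  haveI := charP_five hF
  haveI : Fact (Nat.Prime 5) := ⟨Nat.prime_five⟩
  haveI : Finite (IsoPt 3 5 F) := Nat.finite_of_card_ne_zero (by rw [card_isoPt hF]; norm_num)
  have hp : IsPGroup 5 Q := IsPGroup.of_card hQ
  obtain ⟨p, hp'⟩ : (MulAction.fixedPoints Q (IsoPt 3 5 F)).Nonempty := by
    refine hp.nonempty_fixed_point_of_prime_not_dvd_card _ ?_
    rw [card_isoPt hF]; norm_num
  have huniq : ∀ (g : Q), g ≠ 1 → ∀ x : IsoPt 3 5 F, g • x = x → x = p := by
    intro g hg x hx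
    obtain ⟨w, hw, hww, rfl⟩ := x.exists_mk
    obtain ⟨v, hv, hvv, hpv⟩ := p.exists_mk
    have h1 : (g : SU 3 F 5) • IsoPt.mk v hv hvv = IsoPt.mk v hv hvv := by
      rw [← hpv]; exact hp' g
    obtain ⟨a, ha⟩ := smul_isoPt_eq.1 h1
    obtain ⟨b, hb⟩ := smul_isoPt_eq.1 (show (g : SU 3 F 5) • IsoPt.mk w hw hww = IsoPt.mk w hw hww from hx)
    obtain ⟨c, hc⟩ := H50.Borel3.fixed_point_unique hF 5 (g := (g : SU 3 F 5)) (k := k)
      (by rw [← hQ]; exact congrArg Subtype.val (pow_card_eq_one' (x := g)))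
      (fun h => hg (Subtype.ext h)) hv hw hvv hww ⟨a, ha.symm⟩ ⟨b, hb.symm⟩
    rw [hpv]
    exact IsoPt.mk_eq_mk.2 ⟨c, hc⟩
  refine ⟨p, fun g hg => hp' ⟨g, hg⟩, ?_, ?_⟩
  · let Q' : Subgroup H := Q.subgroupOf H
    have hQ' : Nat.card Q' = 5 ^ k := by
      rw [Nat.card_congr (Subgroup.subgroupOfEquivOfLe hQH).toEquiv, hQ]
    haveI := Fintype.ofFinite Q'
    haveI := Fintype.ofFinite (MulAction.orbit H p)
    haveI := Fintype.ofFinite (MulAction.orbitRel.Quotient Q' (MulAction.orbit H p))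
    have hb := MulAction.sum_card_fixedBy_eq_card_orbits_mul_card_group Q' (MulAction.orbit H p)
    have hfix : ∀ g : Q', g ≠ 1 → Fintype.card (MulAction.fixedBy (MulAction.orbit H p) g) = 1 := by
      intro g hg
      rw [Fintype.card_eq_one_iff]
      refine ⟨⟨⟨p, MulAction.mem_orbit_self p⟩, Subtype.ext (hp' ⟨g.1.1, g.2⟩)⟩, fun x => ?_⟩
      refine Subtype.ext (Subtype.ext ?_)
      exact huniq ⟨g.1.1, g.2⟩
        (fun h => hg (Subtype.ext (Subtype.ext (show g.1.1 = (1 : SU 3 F 5) from congrArg (fun x : Q => x.1) h)))) _ (congrArg Subtype.val x.2)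
    rw [← Finset.add_sum_erase _ _ (Finset.mem_univ (1 : Q')),
      Finset.sum_congr rfl (fun g hg => hfix g (Finset.ne_of_mem_erase hg)), Finset.sum_const,
      Finset.card_erase_of_mem (Finset.mem_univ _), Finset.card_univ, smul_eq_mul, mul_one] at hb
    have h1 : Fintype.card (MulAction.fixedBy (MulAction.orbit H p) (1 : Q')) =
        Nat.card (MulAction.orbit H p) := by
      rw [Nat.card_eq_fintype_card]
      exact Fintype.card_congr ⟨fun x => x.1, fun x => ⟨x, one_smul _ _⟩, fun _ => rfl, fun _ => rfl⟩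
    rw [h1, ← Nat.card_eq_fintype_card (α := Q'), hQ'] at hb
    have hm := congrArg (· % 5 ^ k) hb
    simp only [Nat.mul_mod_left] at hm
    have h5 : 5 ≤ 5 ^ k := le_self_pow (by norm_num) (by omega)
    generalize 5 ^ k = m at hm h5
    generalize Nat.card (MulAction.orbit H p) = o at hm
    have := Nat.div_add_mod o m
    have hr := Nat.mod_lt o (show m > 0 by omega)
    generalize o % m = r at *
    generalize o / m = d at *
    subst this
    rw [show m * d + r + (m - 1) = m * d + (r + (m - 1)) by omega, Nat.mul_add_mod] at hm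
    by_contra hr1
    rcases Nat.eq_zero_or_pos r with rfl | hr0
    · rw [zero_add, Nat.mod_eq_of_lt (by omega)] at hm; omega
    · rw [show r + (m - 1) = m + (r - 1) by omega, Nat.add_mod_left, Nat.mod_eq_of_lt (by omega)] at hm
      omega
  · have hst : Nat.card (MulAction.stabilizer H p) =
        Nat.card (H ⊓ MulAction.stabilizer (SU 3 F 5) p : Subgroup _) :=
      Nat.card_congr ⟨fun h => ⟨h.1.1, h.1.2, h.2⟩, fun h => ⟨⟨h.1, h.2.1⟩, h.2.2⟩, fun _ => rfl, fun _ => rfl⟩
    rw [← hst, Nat.card_coe_set_eq, ← MulAction.index_stabilizer H p, mul_comm, Subgroup.card_mul_index]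

theorem orbit_le (H : Subgroup (SU 3 F 5)) (p : IsoPt 3 5 F) :
    Nat.card (MulAction.orbit H p) ≤ 126 ∧
      (Nat.card (MulAction.orbit H p) = 126 → ∀ x y : IsoPt 3 5 F, ∃ h ∈ H, h • x = y) := by
  haveI : Finite (IsoPt 3 5 F) := Nat.finite_of_card_ne_zero (by rw [card_isoPt hF]; norm_num)
  refine ⟨by rw [← card_isoPt hF]; exact Finite.card_subtype_le _, fun h x y => ?_⟩
  have huniv : MulAction.orbit H p = Set.univ :=
    Set.eq_of_subset_of_ncard_le (Set.subset_univ _) (by
      rw [Set.ncard_univ, card_isoPt hF, ← Nat.card_coe_set_eq, h]) (Set.toFinite _)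
  obtain ⟨a, ha⟩ : x ∈ MulAction.orbit H p := huniv ▸ Set.mem_univ _
  obtain ⟨b, hb⟩ : y ∈ MulAction.orbit H p := huniv ▸ Set.mem_univ _
  refine ⟨b.1 * a.1⁻¹, H.mul_mem b.2 (H.inv_mem a.2), ?_⟩
  rw [← ha, ← hb]
  show (b.1 * a.1⁻¹) • (a.1 • p) = b.1 • p
  rw [smul_smul, inv_mul_cancel_right]

/-- Main bound in `SU₃(5)`. -/
theorem index_bound (H : Subgroup (SU 3 F 5)) (hH : H ≠ ⊤) : 50 ≤ H.index := by
  classical
  haveI := charP_five hF
  haveI : Fact (Nat.Prime 5) := ⟨Nat.prime_five⟩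
  by_contra hlt
  push Not at hlt
  have hG := H.card_mul_index
  rw [card_SU35 hF] at hG
  have hn0 : H.index ≠ 0 := fun h => by rw [h, mul_zero] at hG; norm_num at hG
  by_cases h25 : 25 ∣ Nat.card H
  · obtain ⟨Q0, hQ0⟩ := Sylow.exists_subgroup_card_pow_prime 5 (n := 2) (G := H) (by simpa using h25)
    have hQ : Nat.card (Q0.map H.subtype) = 5 ^ 2 := by
      rw [Subgroup.card_map_of_injective H.subtype_injective]; exact hQ0
    obtain ⟨p, hpf, hmod, horb⟩ := orbit_data hF H (Q0.map H.subtype) (Subgroup.map_subtype_le _)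
      (by norm_num) hQ
    obtain ⟨hle, htr⟩ := orbit_le hF H p
    have hdvd : Nat.card (MulAction.orbit H p) ∣ 378000 := Dvd.dvd.trans (Dvd.intro _ horb) (Dvd.intro _ hG)
    have hst : Nat.card (H ⊓ MulAction.stabilizer (SU 3 F 5) p : Subgroup _) ∣ 3000 :=
      card_stab35 hF p ▸ Subgroup.card_dvd_of_le inf_le_right
    have ho : Nat.card (MulAction.orbit H p) = 1 ∨ Nat.card (MulAction.orbit H p) = 126 := by
      generalize Nat.card (MulAction.orbit H p) = o at hle hmod hdvd
      norm_num at hmod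
      have : o = 1 ∨ o = 26 ∨ o = 51 ∨ o = 76 ∨ o = 101 ∨ o = 126 := by omega
      rcases this with h | h | h | h | h | h <;> subst h
      all_goals first | omega | norm_num at hdvd
    rcases ho with ho | ho
    · rw [ho, one_mul] at horb
      have h3000 := Nat.le_of_dvd (by norm_num) hst
      rw [horb] at h3000
      nlinarith
    · obtain ⟨v, hv, hvv, rfl⟩ := p.exists_mk
      obtain ⟨χ, hχ⟩ := exists_eig hF v hv hvv
      refine hH (eq_top_of_root hF H (htr ho) hv (hvv := hvv)
        ((root_le_of_25 hF hv hvv _ hQ fun g hg => ?_).trans (Subgroup.map_subtype_le _)))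
      have hmem : g ∈ MulAction.stabilizer (SU 3 F 5) (IsoPt.mk v hv hvv) := hpf g hg
      have h1 : (χ ⟨g, hmem⟩) ^ 25 = 1 := by
        have e : (⟨g, hmem⟩ : MulAction.stabilizer (SU 3 F 5) (IsoPt.mk v hv hvv)) ^ 25 = 1 :=
          Subtype.ext (by
            have := pow_card_eq_one' (x := (⟨g, hg⟩ : Q0.map H.subtype))
            rw [hQ] at this
            simpa using congrArg Subtype.val this)
        rw [← map_pow, e, map_one]
      have h2 : (χ ⟨g, hmem⟩) ^ 24 = 1 := by
        have := pow_card_eq_one' (x := χ ⟨g, hmem⟩)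
        rwa [Nat.card_units, Nat.card_eq_fintype_card (α := F), hF] at this
      rw [pow_succ, h2, one_mul] at h1
      have := hχ ⟨g, hmem⟩
      rwa [h1, Units.val_one, one_smul] at this
  · have hn25 : H.index = 25 := by
      have h : 25 ∣ H.index := by
        by_contra h'
        have h125 : 125 ∣ Nat.card H * H.index := by rw [hG]; norm_num
        by_cases hi : 5 ∣ H.index
        · obtain ⟨d, hd⟩ := hi
          rw [hd] at h125 h'
          have hd5 : ¬ 5 ∣ d := fun hh => h' (by obtain ⟨e, rfl⟩ := hh; exact ⟨e, by ring⟩)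
          have hc : Nat.Coprime 25 d := (Nat.Coprime.pow_left 2 ((Nat.Prime.coprime_iff_not_dvd Nat.prime_five).2 hd5))
          refine h25 (hc.dvd_of_dvd_mul_right ?_)
          obtain ⟨e, he⟩ := h125
          exact ⟨e, by nlinarith⟩
        · have hc : Nat.Coprime 125 H.index := Nat.Coprime.pow_left 3 ((Nat.Prime.coprime_iff_not_dvd Nat.prime_five).2 hi)
          exact h25 (Dvd.dvd.trans (by norm_num) (hc.dvd_of_dvd_mul_right h125))
      obtain ⟨d, hd⟩ := h
      omega
    rw [hn25] at hG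
    have hcH : Nat.card H = 15120 := by omega
    obtain ⟨Q0, hQ0⟩ := Sylow.exists_subgroup_card_pow_prime 5 (n := 1) (G := H) (by rw [hcH]; norm_num)
    have hQ : Nat.card (Q0.map H.subtype) = 5 ^ 1 := by
      rw [Subgroup.card_map_of_injective H.subtype_injective]; exact hQ0
    obtain ⟨p, hpf, hmod, horb⟩ := orbit_data hF H (Q0.map H.subtype) (Subgroup.map_subtype_le _)
      (by norm_num) hQ
    obtain ⟨hle, htr⟩ := orbit_le hF H p
    obtain ⟨v, hv, hvv, rfl⟩ := p.exists_mk
    set B := MulAction.stabilizer (SU 3 F 5) (IsoPt.mk v hv hvv) with hB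
    have h120 : Nat.card (H ⊓ B : Subgroup _) ∣ 120 :=
      (Nat.dvd_gcd (hcH ▸ Subgroup.card_dvd_of_le inf_le_left)
        (card_stab35 hF (IsoPt.mk v hv hvv) ▸ Subgroup.card_dvd_of_le inf_le_right)).trans (by norm_num)
    have h120' : Nat.card (H ⊓ B : Subgroup _) = 120 ∧
        Nat.card (MulAction.orbit H (IsoPt.mk v hv hvv)) = 126 := by
      have := Nat.le_of_dvd (by norm_num) h120
      rw [hcH] at horb
      constructor <;> nlinarith
    obtain ⟨hcK, ho⟩ := h120'
    obtain ⟨χ, hχ⟩ := exists_eig hF v hv hvv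
    let ψ : (H ⊓ B : Subgroup (SU 3 F 5)) →* Fˣ := χ.comp (Subgroup.inclusion inf_le_right)
    have hker : ∀ x ∈ ψ.ker, x ^ 5 = 1 := by
      intro x hx
      refine Subtype.ext (pow_five hF hv hvv ?_)
      have := hχ ⟨x.1, x.2.2⟩
      rwa [show χ ⟨x.1, x.2.2⟩ = 1 from hx, Units.val_one, one_smul] at this
    have hKer5 : Nat.card ψ.ker ∣ 5 ∧ Nat.card ψ.ker ≠ 0 := by
      refine ⟨?_, Nat.card_pos.ne'⟩
      have hp : IsPGroup 5 ψ.ker := fun x => ⟨1, by rw [pow_one]; exact Subtype.ext (hker _ x.2)⟩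
      obtain ⟨j, hj⟩ := IsPGroup.iff_card.1 hp
      have hd : 5 ^ j ∣ 120 := hj ▸ hcK ▸ Subgroup.card_subgroup_dvd_card ψ.ker
      rw [hj]
      rcases j with _ | _ | j
      · norm_num
      · norm_num
      · exact absurd (Dvd.dvd.trans (pow_dvd_pow 5 (show 2 ≤ j + 2 by omega)) hd) (by norm_num)
    have hmul := ψ.ker.card_mul_index
    rw [Subgroup.index_ker, hcK] at hmul
    have hrng : Nat.card ψ.range ∣ 24 := by
      have := Subgroup.card_subgroup_dvd_card ψ.range
      rwa [Nat.card_units, Nat.card_eq_fintype_card (α := F), hF] at this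
    have hk5 : Nat.card ψ.ker = 5 ∧ Nat.card ψ.range = 24 := by
      rcases (Nat.dvd_prime Nat.prime_five).1 hKer5.1 with h | h
      · rw [h, one_mul] at hmul
        rw [hmul] at hrng
        norm_num at hrng
      · exact ⟨h, by rw [h] at hmul; omega⟩
    obtain ⟨c, hc⟩ := IsCyclic.exists_ofOrder_eq_natCard (α := Fˣ)
    rw [Nat.card_units, Nat.card_eq_fintype_card (α := F), hF] at hc
    have htop : ψ.range = ⊤ := Subgroup.eq_top_of_card_eq _ (by
      rw [hk5.2, Nat.card_units, Nat.card_eq_fintype_card (α := F), hF]; rfl)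
    obtain ⟨t, ht⟩ : c ∈ ψ.range := htop ▸ Subgroup.mem_top c
    haveI : IsCyclic ψ.ker := isCyclic_of_prime_card hk5.1
    obtain ⟨g, hg⟩ := IsCyclic.exists_ofOrder_eq_natCard (α := ψ.ker)
    rw [hk5.1] at hg
    have hz2 : (t ^ 60) * (t ^ 60) = 1 := by
      have := pow_card_eq_one' (x := t)
      rw [hcK] at this
      rw [← pow_add]; exact this
    -- the conjugation action of `t` on the kernel
    have hconj : Commute (t ^ 4) g.1 := by
      haveI hnorm := ψ.normal_ker
      let A : MulAut ψ.ker := MulAut.conjNormal t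
      have hA : A ^ 4 = 1 := by
        have h := pow_card_eq_one' (x := A)
        rwa [IsCyclic.card_mulAut, hk5.1, Nat.totient_prime Nat.prime_five] at h
      have h := congrArg Subtype.val (DFunLike.congr_fun hA g)
      rw [← map_pow, MulAut.conjNormal_apply, MulAut.one_apply] at h
      rw [commute_iff_eq]
      calc t ^ 4 * g.1 = (t ^ 4 * g.1 * (t ^ 4)⁻¹) * t ^ 4 := by group
        _ = g.1 * t ^ 4 := by rw [h]
    have hzg : Commute (t ^ 60) g.1 := by
      rw [show 60 = 4 * 15 from rfl, pow_mul]; exact hconj.pow_left 15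
    have hcz : ((c ^ 60 : Fˣ) : F) = -1 := by
      have h24 : c ^ 24 = 1 := orderOf_dvd_iff_pow_eq_one.1 (dvd_of_eq hc)
      have h12 : ((c ^ 12 : Fˣ) : F) * ((c ^ 12 : Fˣ) : F) = 1 := by
        rw [← Units.val_mul, ← pow_add, h24, Units.val_one]
      rw [show 60 = 24 * 2 + 12 from rfl, pow_add, pow_mul, h24, one_pow, one_mul]
      rcases mul_self_eq_one_iff.1 h12 with h | h
      · exfalso
        have := orderOf_le_of_pow_eq_one (by norm_num : 0 < 12) (Units.ext h : c ^ 12 = 1)
        rw [hc] at this; norm_num at this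
      · exact h
    have hzv : suMat (t ^ 60 : (H ⊓ B : Subgroup (SU 3 F 5))).1 *ᵥ v = -v := by
      have := hχ ⟨_, (t ^ 60).2.2⟩
      rwa [show χ ⟨_, (t ^ 60).2.2⟩ = ψ (t ^ 60) from rfl, map_pow, ht, hcz, neg_one_smul] at this
    set z : SU 3 F 5 := (t ^ 60 : (H ⊓ B : Subgroup (SU 3 F 5))).1 with hz
    set u : SU 3 F 5 := g.1.1 with hu
    have huv : suMat u *ᵥ v = v := by
      have := hχ ⟨u, g.1.2.2⟩
      rwa [show χ ⟨u, g.1.2.2⟩ = 1 from g.2, Units.val_one, one_smul] at this
    have hzz : z * z = 1 := congrArg Subtype.val hz2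
    have hzu : z * u = u * z := congrArg Subtype.val hzg.eq
    obtain ⟨f, w, hf, hww, hwv, hwf, hdec⟩ := H50.Borel3.exists_frame_at hF hv hvv
    have hua := apply_z hF hv hvv hww hwv hdec huv
    set a := hermForm 3 F 5 (suMat u *ᵥ w) f
    -- `z w = α v + β w`
    have e1 : hermForm 3 F 5 (suMat z *ᵥ w) v = 0 := by
      have := suMat_h z w v
      rw [hzv, hwv] at this
      rw [← neg_one_smul F v, h_smul_right hF] at this
      exact (mul_eq_zero.1 this).resolve_left (pow_ne_zero _ (by norm_num))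
    set α := hermForm 3 F 5 (suMat z *ᵥ w) f
    set β := hermForm 3 F 5 (suMat z *ᵥ w) w
    have hzw : suMat z *ᵥ w = α • v + β • w := by
      have := hdec (suMat z *ᵥ w)
      rwa [e1, zero_smul, add_zero] at this
    have hmain : a = 0 ∨ β = -1 := by
      have h1 := congrArg (fun x => suMat x *ᵥ w) hzu
      simp only [suMat_mulVec_mul, hua, hzw, mulVec_add, mulVec_smul, huv, hzv] at h1
      have h2 := congrArg (fun x => hermForm 3 F 5 x f) h1
      simp only [h_add_left, h_smul_left, hf.2.2, hwf, mul_zero, add_zero, mul_one, smul_neg, ← neg_smul] at h2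
      have h3 : a * (β + 1) = 0 := by linear_combination -h2
      rcases mul_eq_zero.1 h3 with h | h
      · exact Or.inl h
      · exact Or.inr (eq_neg_of_add_eq_zero_left h)
    rcases hmain with ha0 | hβ
    · have hu1 : u ≠ 1 := fun h => by
        have hg' : g = 1 := Subtype.ext (Subtype.ext h)
        rw [hg', orderOf_one] at hg; norm_num at hg
      have hR := rootGroup_le hF (mem_root_of_fix hF hvv hf hwv hwf hdec huv (by
        rw [hua, ha0, zero_smul, zero_add])) hu1
      exact hH (eq_top_of_root hF H (htr ho) hv (hR.trans (Subgroup.zpowers_le.2 g.1.2.1)))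
    · -- then `z = -1`, of determinant `-1`
      have h2ne : (2 : F) ≠ 0 := fun h => by
        have := (CharP.cast_eq_zero_iff F 5 2).1 (by exact_mod_cast h)
        norm_num at this
      have hsq : ∀ x, suMat z *ᵥ (suMat z *ᵥ x) = x := fun x => by
        rw [← suMat_mulVec_mul, hzz, suMat_one, one_mulVec]
      have hα : α = 0 := by
        have h := congrArg (fun x => hermForm 3 F 5 x f) (hsq w)
        simp only [hzw, mulVec_add, mulVec_smul, hzv, hβ, h_add_left, h_smul_left, hwf, hf.2.2,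
          smul_neg, ← neg_smul, mul_zero, add_zero, mul_one] at h
        have : (2 : F) * α = 0 := by linear_combination -h
        exact (mul_eq_zero.1 this).resolve_left h2ne
      rw [hα, zero_smul, zero_add, hβ, neg_one_smul] at hzw
      have e2 : hermForm 3 F 5 (suMat z *ᵥ f) v = -1 := by
        have := suMat_h z f v
        rw [hzv, (hf.symm hF).2.2, ← neg_one_smul F v, h_smul_right hF] at this
        rw [Odd.neg_one_pow (show Odd 5 by decide)] at this
        linear_combination -this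
      have hzf := hdec (suMat z *ᵥ f)
      rw [e2] at hzf
      set a' := hermForm 3 F 5 (suMat z *ᵥ f) f
      set b' := hermForm 3 F 5 (suMat z *ᵥ f) w
      have h := hsq f
      rw [hzf, mulVec_add, mulVec_add, mulVec_smul, mulVec_smul, mulVec_smul, hzv, hzw, hzf] at h
      have ha' : a' = 0 := by
        have h' := congrArg (fun x => hermForm 3 F 5 x f) h
        simp only [smul_add, smul_neg, ← neg_smul, smul_smul, h_add_left, h_smul_left, hf.2.2, hwf,
          hf.2.1, mul_zero, add_zero, mul_one] at h'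
        have : (2 : F) * a' = 0 := by linear_combination -h'
        exact (mul_eq_zero.1 this).resolve_left h2ne
      have hb' : b' = 0 := by
        have h' := congrArg (fun x => hermForm 3 F 5 x w) h
        simp only [smul_add, smul_neg, ← neg_smul, smul_smul, h_add_left, h_smul_left,
          (h_eq_zero_comm hF).1 hwv, (h_eq_zero_comm hF).1 hwf, hww, mul_zero, add_zero, zero_add, mul_one] at h'
        have : (2 : F) * b' = 0 := by linear_combination -h'
        exact (mul_eq_zero.1 this).resolve_left h2ne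
      rw [ha', hb', zero_smul, zero_smul, zero_add, zero_add, neg_one_smul] at hzf
      have hall : suMat z = -1 := by
        refine Matrix.ext_iff_mulVec.2 fun x => ?_
        rw [neg_mulVec, one_mulVec]
        conv_lhs => rw [hdec x]
        conv_rhs => rw [hdec x]
        simp only [mulVec_add, mulVec_smul, hzv, hzw, hzf]
        module
      have hdet : (suMat z).det = 1 := z.1.2
      rw [hall, det_neg, det_one, mul_one, Fintype.card_fin] at hdet
      apply h2ne
      linear_combination -hdet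

end H94.U35
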